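import Cfsg.Agent.H23.Gen.E8.Comm0x0
import Cfsg.Agent.H23.Gen.E8.Comm0x1
import Cfsg.Agent.H23.Gen.E8.Comm0x2
import Cfsg.Agent.H23.Gen.E8.Comm1x0
import Cfsg.Agent.H23.Gen.E8.Comm1x1
import Cfsg.Agent.H23.Gen.E8.Comm1x2
import Cfsg.Agent.H23.Gen.E8.Comm2x0
import Cfsg.Agent.H23.Gen.E8.Comm2x1
import Cfsg.Agent.H23.Gen.E8.Comm2x2
import Cfsg.Agent.H23.Gen.E8.Comm3x0
import Cfsg.Agent.H23.Gen.E8.Comm3x1
import Cfsg.Agent.H23.Gen.E8.Comm3x2
import Cfsg.Agent.H23.Gen.E8.Comm4x0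
import Cfsg.Agent.H23.Gen.E8.Comm4x1
import Cfsg.Agent.H23.Gen.E8.Comm4x2
import Cfsg.Agent.H23.Gen.E8.Comm5x0
import Cfsg.Agent.H23.Gen.E8.Comm5x1
import Cfsg.Agent.H23.Gen.E8.Comm5x2
import Cfsg.Agent.H23.Gen.E8.Comm6x0
import Cfsg.Agent.H23.Gen.E8.Comm6x1
import Cfsg.Agent.H23.Gen.E8.Comm6x2
import Cfsg.Agent.H23.Gen.E8.Comm7x0
import Cfsg.Agent.H23.Gen.E8.Comm7x1
import Cfsg.Agent.H23.Gen.E8.Comm7x2

set_option maxRecDepth 100000
set_option synthInstance.maxSize 4000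
set_option synthInstance.maxHeartbeats 400000
set_option autoImplicit false

namespace Cfsg.Agent.H23

open Cfsg.Lie

/-- The commutator checks for the fundamental roots of type E8. -/
theorem comm_E8 : CommOK chevE8 tblE8 := by
  intro i hi
  have hi' : i < 8 := hi
  interval_cases i
  · exact all_of_allFrom _ 240 (allFrom_append _ 0 170 70 comm0_E8_file0 (allFrom_append _ 170 50 20 comm0_E8_file1 (comm0_E8_file2)))
  · exact all_of_allFrom _ 240 (allFrom_append _ 0 170 70 comm1_E8_file0 (allFrom_append _ 170 50 20 comm1_E8_file1 (comm1_E8_file2)))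
  · exact all_of_allFrom _ 240 (allFrom_append _ 0 170 70 comm2_E8_file0 (allFrom_append _ 170 50 20 comm2_E8_file1 (comm2_E8_file2)))
  · exact all_of_allFrom _ 240 (allFrom_append _ 0 170 70 comm3_E8_file0 (allFrom_append _ 170 50 20 comm3_E8_file1 (comm3_E8_file2)))
  · exact all_of_allFrom _ 240 (allFrom_append _ 0 170 70 comm4_E8_file0 (allFrom_append _ 170 50 20 comm4_E8_file1 (comm4_E8_file2)))
  · exact all_of_allFrom _ 240 (allFrom_append _ 0 170 70 comm5_E8_file0 (allFrom_append _ 170 50 20 comm5_E8_file1 (comm5_E8_file2)))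
  · exact all_of_allFrom _ 240 (allFrom_append _ 0 170 70 comm6_E8_file0 (allFrom_append _ 170 50 20 comm6_E8_file1 (comm6_E8_file2)))
  · exact all_of_allFrom _ 240 (allFrom_append _ 0 170 70 comm7_E8_file0 (allFrom_append _ 170 50 20 comm7_E8_file1 (comm7_E8_file2)))

theorem tabC_E8_terms : ∀ i < chevE8.rank, ∀ s < chevE8.nroots, chevE8.IsPosRoot s → s ≠ chevE8.simple i →
    (∀ c ∈ chevE8.commTerms (chevE8.simple i) s, chevE8.IsPosRoot c.1 ∧ c.1 ≠ chevE8.simple i ∧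
      ∀ k < chevE8.rank, k ≠ i → (chevE8.coroot.getD s #[]).getD k 0 ≠ 0 → (chevE8.coroot.getD c.1 #[]).getD k 0 ≠ 0) ∧
    (∀ c ∈ chevE8.commTerms (chevE8.neg (chevE8.simple i)) s, chevE8.IsPosRoot c.1 ∧ c.1 ≠ chevE8.simple i ∧
      ∀ k < chevE8.rank, k ≠ i → (chevE8.coroot.getD s #[]).getD k 0 ≠ 0 → (chevE8.coroot.getD c.1 #[]).getD k 0 ≠ 0) := by
  decide +kernel

theorem tabC_E8 : TabC chevE8 := ⟨tabC_E8_terms⟩

theorem etaNeg_E8 : ∀ i < chevE8.rank, ∀ s < chevE8.nroots,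
    etaBit (etaE8.getD i 0) (chevE8.neg s) = etaBit (etaE8.getD i 0) s := by
  decide +kernel

end Cfsg.Agent.H23
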