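import Cfsg.Agent.H23.Weyl

set_option autoImplicit false
set_option maxRecDepth 100000

namespace Cfsg.Agent.H23

open Cfsg.Lie

/-- The packed reflection table of type D4. -/
def rTD4 : List ℕ := [565592643864087472290204273757603651193062799363369534976, 541649279090809664310305499994679834166397163664360734721, 565881119482020990812274433957960368099339668429056770816, 565978018496368764364970633948976412520310965285293195776]

theorem tab_D4_refl_eq : ∀ i < chevD4.rank, ∀ s < chevD4.nroots, chevD4.reflectRoot i s = rlk (rTD4.getD i 0) s := by decide +kernel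

theorem tab_D4_simple_lt : ∀ i < chevD4.rank, chevD4.simple i < chevD4.nroots := by decide +kernel

theorem tab_D4_simple_pos : ∀ i < chevD4.rank, chevD4.IsPosRoot (chevD4.simple i) := by decide +kernel

theorem tab_D4_neg_lt : ∀ r < chevD4.nroots, chevD4.neg r < chevD4.nroots := by decide +kernel

theorem tab_D4_neg_neg : ∀ r < chevD4.nroots, chevD4.neg (chevD4.neg r) = r := by decide +kernel

theorem tab_D4_neg_coroot : ∀ r < chevD4.nroots, ∀ i < chevD4.rank, (chevD4.coroot.getD (chevD4.neg r) #[]).getD i 0 = - (chevD4.coroot.getD r #[]).getD i 0 := by decide +kernel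

theorem tab_D4_pos_neg : ∀ r < chevD4.nroots, (chevD4.IsPosRoot r → chevD4.IsNegRoot (chevD4.neg r)) ∧ (chevD4.IsNegRoot r → chevD4.IsPosRoot (chevD4.neg r)) ∧ (chevD4.IsPosRoot r ∨ chevD4.IsNegRoot r) ∧ ¬ (chevD4.IsPosRoot r ∧ chevD4.IsNegRoot r) := by decide +kernel

theorem tab_D4_simple_coroot : ∀ j < chevD4.rank, ∀ i < chevD4.rank, i ≠ j → (chevD4.coroot.getD (chevD4.simple j) #[]).getD i 0 = 0 := by decide +kernel

theorem tab_D4_refl_lt : ∀ i < chevD4.rank, ∀ s < chevD4.nroots, rlk (rTD4.getD i 0) s < chevD4.nroots := by decide +kernel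

theorem tab_D4_refl_invol : ∀ i < chevD4.rank, ∀ s < chevD4.nroots, rlk (rTD4.getD i 0) (rlk (rTD4.getD i 0) s) = s := by decide +kernel

theorem tab_D4_refl_coroot : ∀ i < chevD4.rank, ∀ s < chevD4.nroots, ∀ k < chevD4.rank, k ≠ i → (chevD4.coroot.getD (rlk (rTD4.getD i 0) s) #[]).getD k 0 = (chevD4.coroot.getD s #[]).getD k 0 := by decide +kernel

theorem tab_D4_refl_pos : ∀ i < chevD4.rank, ∀ s < chevD4.nroots, chevD4.IsPosRoot s → s ≠ chevD4.simple i → chevD4.IsPosRoot (rlk (rTD4.getD i 0) s) ∧ rlk (rTD4.getD i 0) s ≠ chevD4.simple i := by decide +kernel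

theorem tab_D4_refl_neg : ∀ i < chevD4.rank, ∀ s < chevD4.nroots, rlk (rTD4.getD i 0) (chevD4.neg s) = chevD4.neg (rlk (rTD4.getD i 0) s) := by decide +kernel

theorem tab_D4_desc : ∀ r < chevD4.nroots, ¬ chevD4.IsPosRoot r → ∃ i < chevD4.rank, (chevD4.coroot.getD r #[]).getD i 0 ≠ 0 ∧ r < rlk (rTD4.getD i 0) r := by decide +kernel

theorem tab_D4_desc2 : ∀ r < chevD4.nroots, chevD4.IsPosRoot r → (∃ j < chevD4.rank, r = chevD4.simple j) ∨ ∃ i < chevD4.rank, (chevD4.coroot.getD r #[]).getD i 0 ≠ 0 ∧ rlk (rTD4.getD i 0) r < r ∧ chevD4.IsPosRoot (rlk (rTD4.getD i 0) r) := by decide +kernel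

/-- Table facts for type D4. -/
theorem tabT_D4 : TabT chevD4 rTD4 where
  refl_eq := tab_D4_refl_eq
  simple_lt := tab_D4_simple_lt
  simple_pos := tab_D4_simple_pos
  neg_lt := tab_D4_neg_lt
  neg_neg := tab_D4_neg_neg
  neg_coroot := tab_D4_neg_coroot
  pos_neg := tab_D4_pos_neg
  simple_coroot := tab_D4_simple_coroot
  refl_lt := tab_D4_refl_lt
  refl_invol := tab_D4_refl_invol
  refl_coroot := tab_D4_refl_coroot
  refl_pos := tab_D4_refl_pos
  refl_neg := tab_D4_refl_neg
  desc := tab_D4_desc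
  desc2 := tab_D4_desc2

theorem tab_D4 : Tab chevD4 := tabT_D4.tab

/-- A word for the longest element of the Weyl group of type D4. -/
def w0D4 : List ℕ := [0, 1, 0, 2, 1, 0, 3, 1, 0, 2, 1, 3]

theorem tabW_D4_lt : ∀ i ∈ w0D4, i < chevD4.rank := by decide +kernel

theorem tabW_D4_neg : ∀ s < chevD4.nroots, chevD4.IsPosRoot s → chevD4.IsNegRoot (reflWT rTD4 w0D4 s) := by decide +kernel

theorem tabW_D4_pos : ∀ r < chevD4.nroots, chevD4.IsNegRoot r → chevD4.IsPosRoot (reflWT rTD4 w0D4.reverse r) := by decide +kernel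

theorem tabWT_D4 : TabWT chevD4 rTD4 w0D4 where
  lt := tabW_D4_lt
  neg := tabW_D4_neg
  pos := tabW_D4_pos

theorem tabW_D4 : TabW chevD4 w0D4 := tabWT_D4.tabW tabT_D4

end Cfsg.Agent.H23
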