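import Cfsg.Agent.H23.Weyl

set_option autoImplicit false
set_option maxRecDepth 100000

namespace Cfsg.Agent.H23

open Cfsg.Lie

/-- The packed reflection table of type E6. -/
def rTE6 : List ℕ := [68860739535078100914596739045472550060558126031925906698557184978812794185875324317535844633006154102049939227231216439978584304288106533539790046234022772551535750302269696, 67898379116758311409174261616388753868225998791303625563428882050626415270252589797741478371984307561973422256644613195820774439032392954730690482532434882508821640184463361, 68860695135535158216797058934368584078938789528211777354868258615236502524939434476014300653026239562496047166733737140692285179851664431971808751874688785261135318011412736, 68856980314703697980439144254334973515401028023823060939175680109056393390696631820261994746199928716884708600540244424635743493790229057459399689936210111163618278074548736, 68860724850632303803458732998465812266828810094652722312245356555948991877575451183817923578624086719198522082862514929281160200302940551006277733868069131789022201037127936,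 68860739477726650154684651250440147524905899556371060941805998667168077050675229181777609482453672249988869994526207384147299178654162362870440666247900439482662894518272256]

theorem tab_E6_refl_eq : ∀ i < chevE6.rank, ∀ s < chevE6.nroots, chevE6.reflectRoot i s = rlk (rTE6.getD i 0) s := by decide +kernel

theorem tab_E6_simple_lt : ∀ i < chevE6.rank, chevE6.simple i < chevE6.nroots := by decide +kernel

theorem tab_E6_simple_pos : ∀ i < chevE6.rank, chevE6.IsPosRoot (chevE6.simple i) := by decide +kernel

theorem tab_E6_neg_lt : ∀ r < chevE6.nroots, chevE6.neg r < chevE6.nroots := by decide +kernel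

theorem tab_E6_neg_neg : ∀ r < chevE6.nroots, chevE6.neg (chevE6.neg r) = r := by decide +kernel

theorem tab_E6_neg_coroot : ∀ r < chevE6.nroots, ∀ i < chevE6.rank, (chevE6.coroot.getD (chevE6.neg r) #[]).getD i 0 = - (chevE6.coroot.getD r #[]).getD i 0 := by decide +kernel

theorem tab_E6_pos_neg : ∀ r < chevE6.nroots, (chevE6.IsPosRoot r → chevE6.IsNegRoot (chevE6.neg r)) ∧ (chevE6.IsNegRoot r → chevE6.IsPosRoot (chevE6.neg r)) ∧ (chevE6.IsPosRoot r ∨ chevE6.IsNegRoot r) ∧ ¬ (chevE6.IsPosRoot r ∧ chevE6.IsNegRoot r) := by decide +kernel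

theorem tab_E6_simple_coroot : ∀ j < chevE6.rank, ∀ i < chevE6.rank, i ≠ j → (chevE6.coroot.getD (chevE6.simple j) #[]).getD i 0 = 0 := by decide +kernel

theorem tab_E6_refl_lt : ∀ i < chevE6.rank, ∀ s < chevE6.nroots, rlk (rTE6.getD i 0) s < chevE6.nroots := by decide +kernel

theorem tab_E6_refl_invol : ∀ i < chevE6.rank, ∀ s < chevE6.nroots, rlk (rTE6.getD i 0) (rlk (rTE6.getD i 0) s) = s := by decide +kernel

theorem tab_E6_refl_coroot : ∀ i < chevE6.rank, ∀ s < chevE6.nroots, ∀ k < chevE6.rank, k ≠ i → (chevE6.coroot.getD (rlk (rTE6.getD i 0) s) #[]).getD k 0 = (chevE6.coroot.getD s #[]).getD k 0 := by decide +kernel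

theorem tab_E6_refl_pos : ∀ i < chevE6.rank, ∀ s < chevE6.nroots, chevE6.IsPosRoot s → s ≠ chevE6.simple i → chevE6.IsPosRoot (rlk (rTE6.getD i 0) s) ∧ rlk (rTE6.getD i 0) s ≠ chevE6.simple i := by decide +kernel

theorem tab_E6_refl_neg : ∀ i < chevE6.rank, ∀ s < chevE6.nroots, rlk (rTE6.getD i 0) (chevE6.neg s) = chevE6.neg (rlk (rTE6.getD i 0) s) := by decide +kernel

theorem tab_E6_desc : ∀ r < chevE6.nroots, ¬ chevE6.IsPosRoot r → ∃ i < chevE6.rank, (chevE6.coroot.getD r #[]).getD i 0 ≠ 0 ∧ r < rlk (rTE6.getD i 0) r := by decide +kernel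

theorem tab_E6_desc2 : ∀ r < chevE6.nroots, chevE6.IsPosRoot r → (∃ j < chevE6.rank, r = chevE6.simple j) ∨ ∃ i < chevE6.rank, (chevE6.coroot.getD r #[]).getD i 0 ≠ 0 ∧ rlk (rTE6.getD i 0) r < r ∧ chevE6.IsPosRoot (rlk (rTE6.getD i 0) r) := by decide +kernel

/-- Table facts for type E6. -/
theorem tabT_E6 : TabT chevE6 rTE6 where
  refl_eq := tab_E6_refl_eq
  simple_lt := tab_E6_simple_lt
  simple_pos := tab_E6_simple_pos
  neg_lt := tab_E6_neg_lt
  neg_neg := tab_E6_neg_neg
  neg_coroot := tab_E6_neg_coroot
  pos_neg := tab_E6_pos_neg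
  simple_coroot := tab_E6_simple_coroot
  refl_lt := tab_E6_refl_lt
  refl_invol := tab_E6_refl_invol
  refl_coroot := tab_E6_refl_coroot
  refl_pos := tab_E6_refl_pos
  refl_neg := tab_E6_refl_neg
  desc := tab_E6_desc
  desc2 := tab_E6_desc2

theorem tab_E6 : Tab chevE6 := tabT_E6.tab

/-- A word for the longest element of the Weyl group of type E6. -/
def w0E6 : List ℕ := [0, 1, 2, 0, 3, 1, 2, 0, 3, 2, 4, 3, 1, 2, 0, 3, 2, 4, 3, 1, 5, 4, 3, 1, 2, 0, 3, 2, 4, 3, 1, 5, 4, 3, 2, 0]

theorem tabW_E6_lt : ∀ i ∈ w0E6, i < chevE6.rank := by decide +kernel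

theorem tabW_E6_neg : ∀ s < chevE6.nroots, chevE6.IsPosRoot s → chevE6.IsNegRoot (reflWT rTE6 w0E6 s) := by decide +kernel

theorem tabW_E6_pos : ∀ r < chevE6.nroots, chevE6.IsNegRoot r → chevE6.IsPosRoot (reflWT rTE6 w0E6.reverse r) := by decide +kernel

theorem tabWT_E6 : TabWT chevE6 rTE6 w0E6 where
  lt := tabW_E6_lt
  neg := tabW_E6_neg
  pos := tabW_E6_pos

theorem tabW_E6 : TabW chevE6 w0E6 := tabWT_E6.tabW tabT_E6

end Cfsg.Agent.H23
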