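import Cfsg.Agent.H23.Weyl

set_option autoImplicit false
set_option maxRecDepth 100000

namespace Cfsg.Agent.H23

open Cfsg.Lie

/-- The packed reflection table of type E7. -/
def rTE7 : List ℕ := [1333922837158942011638783835004871262489243524474933806757983325204324354148955901128787715251435855896924984706939979518567157242719197682064722754383056752064764745714105188869695029532754693822593611899134007025978423511653352929402726346889239349767349520011297160997758072428838116713298751769411585, 1344596064861142540599490890337037530396506312014796134457654209860766914474355053533424106448304668641750238146235616625298608967855065371567541345205591130313893835021149335810105157533873267793712369235831381486269171621811991934200833355141336107082133768387345013012537819798176998924533019780972800, 1344554375120106414798065960470017614978713755228414151433370668601621092779175356141058506517844188051958962228323355573505999256791464453714183605373019334854214694897010135565448054736646733569358624734534287147711832887250382219472046131816456686545071408428738776743299531196152165404305104465625600,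 1344595904565267213246157475033494803249157207063324738659324389841659715695283955303815316936280329696179597506512307998177941509827115356010016869474657504041538202575428963476748087995021914745714269311908081227369626699231579603641239181490320192525717933280632587761748264543583905599801831599571200, 1344596066789662372468730772808347860477161005122219541718508235419833626106302450745862748198090247695116521795627890666608206327119702733434927280617614040672948193304917070539624301444895806139576218160085363566180297830617521222446695171034178763232251478019132116438882014609021606895640681331687680, 1344596067423351416207557940869874944091727118574762836469837882638712679846178606418228818601986310217411887451905765776107214182568852020646749836716948362818007050784749838543502259798351210584973756022172436114146241694089563918431059909805690131092344135313086916729119604848859188691072391118455040, 1344596067425826764034662734529601288506926453046107113143229300984890479501381833876110010911357495579068344096520604677306938752775870105507180309928942299606468867262391627195069014991692130646454801374407591002787052249416073179196764677152311158875352053765052537485552134445183160720605330624610560]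

theorem tab_E7_refl_eq : ∀ i < chevE7.rank, ∀ s < chevE7.nroots, chevE7.reflectRoot i s = rlk (rTE7.getD i 0) s := by decide +kernel

theorem tab_E7_simple_lt : ∀ i < chevE7.rank, chevE7.simple i < chevE7.nroots := by decide +kernel

theorem tab_E7_simple_pos : ∀ i < chevE7.rank, chevE7.IsPosRoot (chevE7.simple i) := by decide +kernel

theorem tab_E7_neg_lt : ∀ r < chevE7.nroots, chevE7.neg r < chevE7.nroots := by decide +kernel

theorem tab_E7_neg_neg : ∀ r < chevE7.nroots, chevE7.neg (chevE7.neg r) = r := by decide +kernel

theorem tab_E7_neg_coroot : ∀ r < chevE7.nroots, ∀ i < chevE7.rank, (chevE7.coroot.getD (chevE7.neg r) #[]).getD i 0 = - (chevE7.coroot.getD r #[]).getD i 0 := by decide +kernel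

theorem tab_E7_pos_neg : ∀ r < chevE7.nroots, (chevE7.IsPosRoot r → chevE7.IsNegRoot (chevE7.neg r)) ∧ (chevE7.IsNegRoot r → chevE7.IsPosRoot (chevE7.neg r)) ∧ (chevE7.IsPosRoot r ∨ chevE7.IsNegRoot r) ∧ ¬ (chevE7.IsPosRoot r ∧ chevE7.IsNegRoot r) := by decide +kernel

theorem tab_E7_simple_coroot : ∀ j < chevE7.rank, ∀ i < chevE7.rank, i ≠ j → (chevE7.coroot.getD (chevE7.simple j) #[]).getD i 0 = 0 := by decide +kernel

theorem tab_E7_refl_lt : ∀ i < chevE7.rank, ∀ s < chevE7.nroots, rlk (rTE7.getD i 0) s < chevE7.nroots := by decide +kernel

theorem tab_E7_refl_invol : ∀ i < chevE7.rank, ∀ s < chevE7.nroots, rlk (rTE7.getD i 0) (rlk (rTE7.getD i 0) s) = s := by decide +kernel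

theorem tab_E7_refl_coroot : ∀ i < chevE7.rank, ∀ s < chevE7.nroots, ∀ k < chevE7.rank, k ≠ i → (chevE7.coroot.getD (rlk (rTE7.getD i 0) s) #[]).getD k 0 = (chevE7.coroot.getD s #[]).getD k 0 := by decide +kernel

theorem tab_E7_refl_pos : ∀ i < chevE7.rank, ∀ s < chevE7.nroots, chevE7.IsPosRoot s → s ≠ chevE7.simple i → chevE7.IsPosRoot (rlk (rTE7.getD i 0) s) ∧ rlk (rTE7.getD i 0) s ≠ chevE7.simple i := by decide +kernel

theorem tab_E7_refl_neg : ∀ i < chevE7.rank, ∀ s < chevE7.nroots, rlk (rTE7.getD i 0) (chevE7.neg s) = chevE7.neg (rlk (rTE7.getD i 0) s) := by decide +kernel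

theorem tab_E7_desc : ∀ r < chevE7.nroots, ¬ chevE7.IsPosRoot r → ∃ i < chevE7.rank, (chevE7.coroot.getD r #[]).getD i 0 ≠ 0 ∧ r < rlk (rTE7.getD i 0) r := by decide +kernel

theorem tab_E7_desc2 : ∀ r < chevE7.nroots, chevE7.IsPosRoot r → (∃ j < chevE7.rank, r = chevE7.simple j) ∨ ∃ i < chevE7.rank, (chevE7.coroot.getD r #[]).getD i 0 ≠ 0 ∧ rlk (rTE7.getD i 0) r < r ∧ chevE7.IsPosRoot (rlk (rTE7.getD i 0) r) := by decide +kernel

/-- Table facts for type E7. -/
theorem tabT_E7 : TabT chevE7 rTE7 where
  refl_eq := tab_E7_refl_eq
  simple_lt := tab_E7_simple_lt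
  simple_pos := tab_E7_simple_pos
  neg_lt := tab_E7_neg_lt
  neg_neg := tab_E7_neg_neg
  neg_coroot := tab_E7_neg_coroot
  pos_neg := tab_E7_pos_neg
  simple_coroot := tab_E7_simple_coroot
  refl_lt := tab_E7_refl_lt
  refl_invol := tab_E7_refl_invol
  refl_coroot := tab_E7_refl_coroot
  refl_pos := tab_E7_refl_pos
  refl_neg := tab_E7_refl_neg
  desc := tab_E7_desc
  desc2 := tab_E7_desc2

theorem tab_E7 : Tab chevE7 := tabT_E7.tab

/-- A word for the longest element of the Weyl group of type E7. -/
def w0E7 : List ℕ := [0, 1, 2, 0, 3, 1, 2, 0, 3, 2, 4, 3, 1, 2, 0, 3, 2, 4, 3, 1, 5, 4, 3, 1, 2, 0, 3, 2, 4, 3, 1, 5, 4, 3, 2, 0, 6, 5, 4, 3, 1, 2, 0, 3, 2, 4, 3, 1, 5, 4, 3, 2, 0, 6, 5, 4, 3, 1, 2, 3, 4, 5, 6]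

theorem tabW_E7_lt : ∀ i ∈ w0E7, i < chevE7.rank := by decide +kernel

theorem tabW_E7_neg : ∀ s < chevE7.nroots, chevE7.IsPosRoot s → chevE7.IsNegRoot (reflWT rTE7 w0E7 s) := by decide +kernel

theorem tabW_E7_pos : ∀ r < chevE7.nroots, chevE7.IsNegRoot r → chevE7.IsPosRoot (reflWT rTE7 w0E7.reverse r) := by decide +kernel

theorem tabWT_E7 : TabWT chevE7 rTE7 w0E7 where
  lt := tabW_E7_lt
  neg := tabW_E7_neg
  pos := tabW_E7_pos

theorem tabW_E7 : TabW chevE7 w0E7 := tabWT_E7.tabW tabT_E7

end Cfsg.Agent.H23
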