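import Cfsg.Agent.H23.Weyl

set_option autoImplicit false
set_option maxRecDepth 100000

namespace Cfsg.Agent.H23

open Cfsg.Lie

/-- The packed reflection table of type F4. -/
def rTF4 : List ℕ := [7261724565101152271001196648824430191705409898545041084742521782222439549395075633586971079114467536390968217567488, 7261719905179377314326951809577084366435515108925945206036271551105028264520922437528663364052125838431098365018368, 7261125723798567773061544950201179012210677350992756811983071709623601191490907863340615466535151168674041335710208, 7108411742389255762021063953019659246634323563397623500971045033854480450961950488139841120255260502304031118589953]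

theorem tab_F4_refl_eq : ∀ i < chevF4.rank, ∀ s < chevF4.nroots, chevF4.reflectRoot i s = rlk (rTF4.getD i 0) s := by decide +kernel

theorem tab_F4_simple_lt : ∀ i < chevF4.rank, chevF4.simple i < chevF4.nroots := by decide +kernel

theorem tab_F4_simple_pos : ∀ i < chevF4.rank, chevF4.IsPosRoot (chevF4.simple i) := by decide +kernel

theorem tab_F4_neg_lt : ∀ r < chevF4.nroots, chevF4.neg r < chevF4.nroots := by decide +kernel

theorem tab_F4_neg_neg : ∀ r < chevF4.nroots, chevF4.neg (chevF4.neg r) = r := by decide +kernel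

theorem tab_F4_neg_coroot : ∀ r < chevF4.nroots, ∀ i < chevF4.rank, (chevF4.coroot.getD (chevF4.neg r) #[]).getD i 0 = - (chevF4.coroot.getD r #[]).getD i 0 := by decide +kernel

theorem tab_F4_pos_neg : ∀ r < chevF4.nroots, (chevF4.IsPosRoot r → chevF4.IsNegRoot (chevF4.neg r)) ∧ (chevF4.IsNegRoot r → chevF4.IsPosRoot (chevF4.neg r)) ∧ (chevF4.IsPosRoot r ∨ chevF4.IsNegRoot r) ∧ ¬ (chevF4.IsPosRoot r ∧ chevF4.IsNegRoot r) := by decide +kernel

theorem tab_F4_simple_coroot : ∀ j < chevF4.rank, ∀ i < chevF4.rank, i ≠ j → (chevF4.coroot.getD (chevF4.simple j) #[]).getD i 0 = 0 := by decide +kernel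

theorem tab_F4_refl_lt : ∀ i < chevF4.rank, ∀ s < chevF4.nroots, rlk (rTF4.getD i 0) s < chevF4.nroots := by decide +kernel

theorem tab_F4_refl_invol : ∀ i < chevF4.rank, ∀ s < chevF4.nroots, rlk (rTF4.getD i 0) (rlk (rTF4.getD i 0) s) = s := by decide +kernel

theorem tab_F4_refl_coroot : ∀ i < chevF4.rank, ∀ s < chevF4.nroots, ∀ k < chevF4.rank, k ≠ i → (chevF4.coroot.getD (rlk (rTF4.getD i 0) s) #[]).getD k 0 = (chevF4.coroot.getD s #[]).getD k 0 := by decide +kernel

theorem tab_F4_refl_pos : ∀ i < chevF4.rank, ∀ s < chevF4.nroots, chevF4.IsPosRoot s → s ≠ chevF4.simple i → chevF4.IsPosRoot (rlk (rTF4.getD i 0) s) ∧ rlk (rTF4.getD i 0) s ≠ chevF4.simple i := by decide +kernel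

theorem tab_F4_refl_neg : ∀ i < chevF4.rank, ∀ s < chevF4.nroots, rlk (rTF4.getD i 0) (chevF4.neg s) = chevF4.neg (rlk (rTF4.getD i 0) s) := by decide +kernel

theorem tab_F4_desc : ∀ r < chevF4.nroots, ¬ chevF4.IsPosRoot r → ∃ i < chevF4.rank, (chevF4.coroot.getD r #[]).getD i 0 ≠ 0 ∧ r < rlk (rTF4.getD i 0) r := by decide +kernel

theorem tab_F4_desc2 : ∀ r < chevF4.nroots, chevF4.IsPosRoot r → (∃ j < chevF4.rank, r = chevF4.simple j) ∨ ∃ i < chevF4.rank, (chevF4.coroot.getD r #[]).getD i 0 ≠ 0 ∧ rlk (rTF4.getD i 0) r < r ∧ chevF4.IsPosRoot (rlk (rTF4.getD i 0) r) := by decide +kernel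

/-- Table facts for type F4. -/
theorem tabT_F4 : TabT chevF4 rTF4 where
  refl_eq := tab_F4_refl_eq
  simple_lt := tab_F4_simple_lt
  simple_pos := tab_F4_simple_pos
  neg_lt := tab_F4_neg_lt
  neg_neg := tab_F4_neg_neg
  neg_coroot := tab_F4_neg_coroot
  pos_neg := tab_F4_pos_neg
  simple_coroot := tab_F4_simple_coroot
  refl_lt := tab_F4_refl_lt
  refl_invol := tab_F4_refl_invol
  refl_coroot := tab_F4_refl_coroot
  refl_pos := tab_F4_refl_pos
  refl_neg := tab_F4_refl_neg
  desc := tab_F4_desc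
  desc2 := tab_F4_desc2

theorem tab_F4 : Tab chevF4 := tabT_F4.tab

/-- A word for the longest element of the Weyl group of type F4. -/
def w0F4 : List ℕ := [0, 1, 0, 2, 1, 0, 2, 1, 2, 3, 2, 1, 0, 2, 1, 2, 3, 2, 1, 0, 2, 1, 2, 3]

theorem tabW_F4_lt : ∀ i ∈ w0F4, i < chevF4.rank := by decide +kernel

theorem tabW_F4_neg : ∀ s < chevF4.nroots, chevF4.IsPosRoot s → chevF4.IsNegRoot (reflWT rTF4 w0F4 s) := by decide +kernel

theorem tabW_F4_pos : ∀ r < chevF4.nroots, chevF4.IsNegRoot r → chevF4.IsPosRoot (reflWT rTF4 w0F4.reverse r) := by decide +kernel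

theorem tabWT_F4 : TabWT chevF4 rTF4 w0F4 where
  lt := tabW_F4_lt
  neg := tabW_F4_neg
  pos := tabW_F4_pos

theorem tabW_F4 : TabW chevF4 w0F4 := tabWT_F4.tabW tabT_F4

end Cfsg.Agent.H23
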