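import Cfsg.Agent.H23.AllN
import Cfsg.Agent.H23.Para
import Cfsg.Agent.H23.CommG2
import Cfsg.Agent.H23.CommB2
import Cfsg.Agent.H23.CommD4
import Cfsg.Agent.H23.CommF4
import Cfsg.Agent.H23.CommE6
import Cfsg.Agent.H23.CommE7
import Cfsg.Agent.H23.CommE8

set_option autoImplicit false

namespace Cfsg.Agent.H23

open Cfsg.Lie

/-- The bundle `Pack` together with the commutator identities for fundamental roots. -/
structure PackC (D : ChevalleyDatum) (F : Type*) [Field F] (z : ℕ → ℕ → ℤ) (η : ℕ → ℕ → ℤ) (w : List ℕ) :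
    Prop where
  sem : Sem D F z
  semN : SemN D F η
  tab : Tab D
  tabW : TabW D w
  semC : SemC D F
  tabC : TabC D
  etaNeg : EtaNeg D η

/-- The bundle holds for each of the seven tabulated data. -/
theorem packC_all {F : Type*} [Field F] (D : ChevalleyDatum)
    (hD : D ∈ [chevG2, chevB2, chevD4, chevF4, chevE6, chevE7, chevE8]) : ∃ z η w, PackC D F z η w := by
  simp only [List.mem_cons, List.not_mem_nil, or_false] at hD
  rcases hD with rfl | rfl | rfl | rfl | rfl | rfl | rfl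
  · exact ⟨_, _, _, chk_G2.sem F, nconj_G2.semN chk_G2.tblOK F, tab_G2, tabW_G2,
      comm_G2.semC chk_G2.tblOK F, tabC_G2, etaNeg_G2⟩
  · exact ⟨_, _, _, chk_B2.sem F, nconj_B2.semN chk_B2.tblOK F, tab_B2, tabW_B2,
      comm_B2.semC chk_B2.tblOK F, tabC_B2, etaNeg_B2⟩
  · exact ⟨_, _, _, chk_D4.sem F, nconj_D4.semN chk_D4.tblOK F, tab_D4, tabW_D4,
      comm_D4.semC chk_D4.tblOK F, tabC_D4, etaNeg_D4⟩
  · exact ⟨_, _, _, chk_F4.sem F, nconj_F4.semN chk_F4.tblOK F, tab_F4, tabW_F4,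
      comm_F4.semC chk_F4.tblOK F, tabC_F4, etaNeg_F4⟩
  · exact ⟨_, _, _, chk_E6.sem F, nconj_E6.semN chk_E6.tblOK F, tab_E6, tabW_E6,
      comm_E6.semC chk_E6.tblOK F, tabC_E6, etaNeg_E6⟩
  · exact ⟨_, _, _, chk_E7.sem F, nconj_E7.semN chk_E7.tblOK F, tab_E7, tabW_E7,
      comm_E7.semC chk_E7.tblOK F, tabC_E7, etaNeg_E7⟩
  · exact ⟨_, _, _, chk_E8.sem F, nconj_E8.semN chk_E8.tblOK F, tab_E8, tabW_E8,
      comm_E8.semC chk_E8.tblOK F, tabC_E8, etaNeg_E8⟩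

end Cfsg.Agent.H23
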