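import Cfsg.Agent.H23.Weyl
import Cfsg.Agent.H23.ChkG2
import Cfsg.Agent.H23.ChkB2
import Cfsg.Agent.H23.ChkD4
import Cfsg.Agent.H23.ChkF4
import Cfsg.Agent.H23.ChkE6
import Cfsg.Agent.H23.ChkE7
import Cfsg.Agent.H23.ChkE8
import Cfsg.Agent.H23.NconjG2
import Cfsg.Agent.H23.NconjB2
import Cfsg.Agent.H23.NconjD4
import Cfsg.Agent.H23.NconjF4
import Cfsg.Agent.H23.NconjE6
import Cfsg.Agent.H23.NconjE7
import Cfsg.Agent.H23.NconjE8
import Cfsg.Agent.H23.TabG2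
import Cfsg.Agent.H23.TabB2
import Cfsg.Agent.H23.TabD4
import Cfsg.Agent.H23.TabF4
import Cfsg.Agent.H23.TabE6
import Cfsg.Agent.H23.TabE7
import Cfsg.Agent.H23.TabE8

set_option autoImplicit false

namespace Cfsg.Agent.H23

open Cfsg.Lie

/-- The semantic facts, the conjugation identities and the table facts, bundled. -/
structure Pack (D : ChevalleyDatum) (F : Type*) [Field F] (z : ℕ → ℕ → ℤ) (η : ℕ → ℕ → ℤ) (w : List ℕ) :
    Prop where
  sem : Sem D F z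
  semN : SemN D F η
  tab : Tab D
  tabW : TabW D w

/-- The bundle holds for each of the seven tabulated data. -/
theorem pack_all {F : Type*} [Field F] (D : ChevalleyDatum)
    (hD : D ∈ [chevG2, chevB2, chevD4, chevF4, chevE6, chevE7, chevE8]) : ∃ z η w, Pack D F z η w := by
  simp only [List.mem_cons, List.not_mem_nil, or_false] at hD
  rcases hD with rfl | rfl | rfl | rfl | rfl | rfl | rfl
  · exact ⟨_, _, _, chk_G2.sem F, nconj_G2.semN chk_G2.tblOK F, tab_G2, tabW_G2⟩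
  · exact ⟨_, _, _, chk_B2.sem F, nconj_B2.semN chk_B2.tblOK F, tab_B2, tabW_B2⟩
  · exact ⟨_, _, _, chk_D4.sem F, nconj_D4.semN chk_D4.tblOK F, tab_D4, tabW_D4⟩
  · exact ⟨_, _, _, chk_F4.sem F, nconj_F4.semN chk_F4.tblOK F, tab_F4, tabW_F4⟩
  · exact ⟨_, _, _, chk_E6.sem F, nconj_E6.semN chk_E6.tblOK F, tab_E6, tabW_E6⟩
  · exact ⟨_, _, _, chk_E7.sem F, nconj_E7.semN chk_E7.tblOK F, tab_E7, tabW_E7⟩
  · exact ⟨_, _, _, chk_E8.sem F, nconj_E8.semN chk_E8.tblOK F, tab_E8, tabW_E8⟩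

end Cfsg.Agent.H23
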