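import Mathlib
import Cfsg.Agent.H46.B2Defs
import Cfsg.Agent.H24.UnivLift

set_option autoImplicit false

/-!
# S2400, piece B2F4: lifting the relations of type B2 through a central extension over the field with
four elements
-/

namespace Cfsg.Agent.H23.B2

open Cfsg.Agent.H46.B2

universe u v w

/-! ## Tables -/

/-- The quadruples `(l, s, l + s, l + 2 s)`, `l` long, `s` short at 135°. -/
def LSL : List (ℕ × ℕ × ℕ × ℕ) :=
  [(0, 5, 1, 3), (0, 6, 2, 4), (3, 2, 1, 0), (3, 6, 5, 7), (4, 1, 2, 0), (4, 5, 6, 7), (7, 1, 5, 3),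
    (7, 2, 6, 4)]

/-- The terms of the pair `(r, s)` with the coefficients reduced mod 2. -/
def tm2 (r s : ℕ) : List (ℕ × ℤ × ℕ × ℕ) := (terms r s).map fun c => (c.1, c.2.1 % 2, c.2.2)

/-- All coefficients of the pair are even (the root elements commute in characteristic 2). -/
def kindC (r s : ℕ) : Bool := (tm2 r s).all fun c => c.2.1 == 0

/-- A pair of roots whose root elements commute in characteristic 2. -/
def CP (r s : ℕ) : Prop := r < 8 ∧ s < 8 ∧ s ≠ r ∧ s ≠ 7 - r ∧ kindC r s = true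

instance (r s : ℕ) : Decidable (CP r s) := by unfold CP; infer_instance

set_option synthInstance.maxSize 100000 in
set_option synthInstance.maxHeartbeats 0 in
theorem tab_cases : ∀ r < 8, ∀ s < 8, (s ≠ r ∧ s ≠ 7 - r) →
    kindC r s = true ∨ (∃ p ∈ LSL, p.1 = r ∧ p.2.1 = s) ∨ (∃ p ∈ LSL, p.1 = s ∧ p.2.1 = r) := by
  decide +kernel

theorem tab_LS : ∀ p ∈ LSL, p.1 < 8 ∧ p.2.1 < 8 ∧ p.2.2.1 < 8 ∧ p.2.2.2 < 8 ∧ p.2.1 ≠ p.1 ∧
    p.2.1 ≠ 7 - p.1 ∧ p.1 ≠ p.2.1 ∧ p.1 ≠ 7 - p.2.1 ∧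
    tm2 p.1 p.2.1 = [(p.2.2.1, 1, 1, 1), (p.2.2.2, 1, 1, 2)] ∧
    tm2 p.2.1 p.1 = [(p.2.2.1, 1, 1, 1), (p.2.2.2, 1, 2, 1)] ∧
    CP p.1 p.2.2.1 ∧ CP p.1 p.2.2.2 ∧ CP p.2.1 p.2.2.1 ∧ CP p.2.1 p.2.2.2 ∧ CP p.2.2.1 p.2.2.2 := by
  decide +kernel

theorem tab_cover : ∀ q < 8, ∃ p ∈ LSL, p.2.2.1 = q ∨ p.2.2.2 = q := by decide +kernel

theorem tab_terms_lt : ∀ r < 8, ∀ s < 8, ∀ c ∈ terms r s, c.1 < 8 := by decide +kernel

/-- The exponent of `h5 ^ a * h4 ^ b` on the root `q`. -/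
def ex (a b q : ℕ) : ℤ := (a : ℤ) * z5.getD q 0 + (b : ℤ) * z4.getD q 0

/-- The exponent of the torus element used to build the lift of the root subgroup `q`. -/
def eq0 (q : ℕ) : ℤ := if q = 1 ∨ q = 6 then z4.getD q 0 else z5.getD q 0

theorem tab_eq0 : ∀ q < 8, eq0 q % 3 ≠ 0 := by decide +kernel

theorem tab_sep : ∀ r < 8, ∀ s < 8, (s ≠ r ∧ s ≠ 7 - r) →
    ∃ a < 3, ∃ b < 3, (ex a b r % 3 = 0 ∧ ex a b s % 3 ≠ 0) := by decide +kernel

set_option synthInstance.maxSize 100000 in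
set_option synthInstance.maxHeartbeats 0 in
theorem tab_all0 : ∀ p ∈ LSL, ∀ i ∈ ([0, 1, 2] : List ℤ), ∀ j ∈ ([0, 1, 2] : List ℤ),
    ∃ a < 3, ∃ b < 3, (ex a b p.1 % 3 = i ∧ ex a b p.2.1 % 3 = j) := by decide +kernel

theorem tab_all (p : ℕ × ℕ × ℕ × ℕ) (hp : p ∈ LSL) (i : ℕ) (hi : i < 3) (j : ℕ) (hj : j < 3) :
    ∃ a < 3, ∃ b < 3, (ex a b p.1 % 3 = (i : ℤ) ∧ ex a b p.2.1 % 3 = (j : ℤ)) := by
  apply tab_all0 p hp
  · interval_cases i <;> simp
  · interval_cases j <;> simp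

theorem tab_sum : ∀ p ∈ LSL, ∀ a < 3, ∀ b < 3, ex a b p.2.2.1 = ex a b p.1 + ex a b p.2.1 ∧
    ex a b p.2.2.2 = ex a b p.1 + 2 * ex a b p.2.1 := by decide +kernel

/-! ## The field with four elements -/

section Fld

variable {K : Type u} [Field K] (ω : K) (hω : ω ^ 2 + ω + 1 = 0) (h2 : (2 : K) = 0)

include h2 in
theorem add_self' (a : K) : a + a = 0 := by rw [← two_mul, h2, zero_mul]

include h2 in
theorem neg_eq' (a : K) : -a = a := neg_eq_iff_add_eq_zero.mpr (add_self' h2 a)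

include hω h2 in
theorem om_sq : ω ^ 2 = ω + 1 := by
  have := add_self' h2 (ω + 1)
  linear_combination hω - this

include hω h2 in
theorem om_add : ω + ω ^ 2 = 1 := by
  rw [om_sq ω hω h2]; linear_combination add_self' h2 ω

include hω h2 in
theorem om_cube : ω ^ 3 = 1 := by
  have h1 := om_sq ω hω h2
  have h3 := add_self' h2 ω
  calc ω ^ 3 = ω * ω ^ 2 := by ring
    _ = ω * (ω + 1) := by rw [h1]
    _ = ω ^ 2 + ω := by ring
    _ = 1 + (ω + ω) := by rw [h1]; ring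
    _ = 1 := by rw [h3, add_zero]

include hω in
theorem om_ne_zero : ω ≠ 0 := by
  rintro rfl
  simp at hω

include hω h2 in
theorem om_ne_one : ω ≠ 1 := by
  rintro rfl
  have := add_self' h2 (1 : K)
  exact one_ne_zero (α := K) (by linear_combination hω - this)

include hω h2 in
theorem om_zpow_mod (n : ℤ) : ω ^ n = ω ^ (n % 3) := by
  have h3 : ω ^ (3 : ℤ) = 1 := by exact_mod_cast om_cube ω hω h2
  conv_lhs => rw [← Int.mul_ediv_add_emod n 3]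
  rw [zpow_add₀ (om_ne_zero ω hω), zpow_mul, h3, one_zpow, one_mul]

include hω h2 in
theorem om_zpow_one (n : ℤ) (h : n % 3 = 0) : ω ^ n = 1 := by
  rw [om_zpow_mod ω hω h2, h, zpow_zero]

include hω h2 in
theorem om_zpow_ne (n : ℤ) (h : n % 3 ≠ 0) : ω ^ n - 1 ≠ 0 := by
  rw [om_zpow_mod ω hω h2]
  have h0 : 0 ≤ n % 3 := Int.emod_nonneg _ (by norm_num)
  have h3 : n % 3 < 3 := Int.emod_lt_of_pos _ (by norm_num)
  have : n % 3 = 1 ∨ n % 3 = 2 := by omega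
  rcases this with e | e <;> rw [e]
  · rw [zpow_one]; exact sub_ne_zero.mpr (om_ne_one ω hω h2)
  · rw [show (2 : ℤ) = ((2 : ℕ) : ℤ) from rfl, zpow_natCast, om_sq ω hω h2]
    simpa using om_ne_zero ω hω

include hω h2 in
theorem om_zpow_nat (n : ℤ) (i : ℕ) (h : n % 3 = (i : ℤ)) : ω ^ n = ω ^ i := by
  rw [om_zpow_mod ω hω h2, h, zpow_natCast]

include hω h2 in
theorem exists_pow (hK : ∀ t : K, t = 0 ∨ t = 1 ∨ t = ω ∨ t = ω + 1) (t : K) (ht : t ≠ 0) :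
    ∃ i < 3, t = ω ^ i := by
  rcases hK t with h | h | h | h
  · exact absurd h ht
  · exact ⟨0, by norm_num, by rw [h, pow_zero]⟩
  · exact ⟨1, by norm_num, by rw [h, pow_one]⟩
  · exact ⟨2, by norm_num, by rw [h, om_sq ω hω h2]⟩

end Fld

/-! ## Relations in characteristic 2 -/

section Char2

variable {K : Type u} [Field K] (h2 : (2 : K) = 0) {Γ : Type v} [Group Γ]

include h2 in
theorem cast_mod2 (C : ℤ) : ((C % 2 : ℤ) : K) = (C : K) := by
  have h : C = 2 * (C / 2) + C % 2 := (Int.mul_ediv_add_emod C 2).symm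
  conv_rhs => rw [h]
  push_cast
  rw [h2, zero_mul, zero_add]

include h2 in
theorem word_eq (X : ℕ → K → Γ) (r s : ℕ) (t u : K) :
    word X r s t u =
      ((tm2 r s).map fun c => X c.1 ((c.2.1 : K) * t ^ c.2.2.1 * u ^ c.2.2.2)).prod := by
  unfold word tm2
  rw [List.map_map]
  congr 1
  apply List.map_congr_left
  intro c _
  simp only [Function.comp]
  rw [cast_mod2 h2, neg_eq' h2]

include h2 in
theorem word_C (X : ℕ → K → Γ) (r s : ℕ) (hr : r < 8) (hs : s < 8) (hk : kindC r s = true)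
    (hX : ∀ q < 8, X q 0 = 1) (t u : K) : word X r s t u = 1 := by
  rw [word_eq h2]
  unfold kindC at hk
  rw [List.all_eq_true] at hk
  apply List.prod_eq_one
  intro g hg
  rw [List.mem_map] at hg
  obtain ⟨c, hc, rfl⟩ := hg
  have h0 : c.2.1 = 0 := by simpa using hk c hc
  have hlt : c.1 < 8 := by
    unfold tm2 at hc
    rw [List.mem_map] at hc
    obtain ⟨c', hc', rfl⟩ := hc
    exact tab_terms_lt r hr s hs c' hc'
  rw [h0, Int.cast_zero, zero_mul, zero_mul]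
  exact hX c.1 hlt

variable (X : ℕ → K → Γ)

theorem X_zero (hadd : ∀ r < 8, ∀ t u : K, X r t * X r u = X r (t + u)) (q : ℕ) (hq : q < 8) :
    X q 0 = 1 := by
  have := hadd q hq 0 0
  rw [add_zero] at this
  exact mul_left_cancel (a := X q 0) (by rw [this, mul_one])

include h2 in
theorem X_inv (hadd : ∀ r < 8, ∀ t u : K, X r t * X r u = X r (t + u)) (q : ℕ) (hq : q < 8) (t : K) :
    (X q t)⁻¹ = X q t := by
  apply inv_eq_of_mul_eq_one_right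
  rw [hadd q hq, add_self' h2, X_zero X hadd q hq]

include h2 in
theorem X_comm (hX : Rel X) (r s : ℕ) (h : CP r s) (t u : K) : X r t * X s u = X s u * X r t := by
  obtain ⟨hr, hs, h1, h2', hk⟩ := h
  have e0 := hX.comm r hr s hs h1 h2' t u
  rw [word_C h2 X r s hr hs hk (X_zero X hX.add) t u] at e0
  have e : X s u * X r t = X r t * X s u * ((X s u)⁻¹ * (X r t)⁻¹ * X s u * X r t) := by group
  rw [e0, mul_one] at e
  exact e.symm

include h2 in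
theorem X_LS (hX : Rel X) (p : ℕ × ℕ × ℕ × ℕ) (hp : p ∈ LSL) (t u : K) :
    (X p.2.1 u)⁻¹ * (X p.1 t)⁻¹ * X p.2.1 u * X p.1 t = X p.2.2.1 (t * u) * X p.2.2.2 (t * u ^ 2) := by
  obtain ⟨h1, h2', _, _, h5, h6, _, _, e1, _⟩ := tab_LS p hp
  rw [hX.comm p.1 h1 p.2.1 h2' h5 h6 t u, word_eq h2, e1]
  simp

include h2 in
/-- The relations, from additivity, the commuting pairs and the eight long-short relations. -/
theorem rel_of (Y : ℕ → K → Γ) (hadd : ∀ r < 8, ∀ t u : K, Y r t * Y r u = Y r (t + u))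
    (hcomm : ∀ r s, CP r s → ∀ t u : K, Y r t * Y s u = Y s u * Y r t)
    (hLS : ∀ p ∈ LSL, ∀ t u : K, (Y p.2.1 u)⁻¹ * (Y p.1 t)⁻¹ * Y p.2.1 u * Y p.1 t =
      Y p.2.2.1 (t * u) * Y p.2.2.2 (t * u ^ 2)) : Rel Y := by
  refine ⟨hadd, ?_⟩
  intro r hr s hs h1 h2' t u
  rcases tab_cases r hr s hs ⟨h1, h2'⟩ with hk | ⟨p, hp, rfl, rfl⟩ | ⟨p, hp, rfl, rfl⟩
  · rw [word_C h2 Y r s hr hs hk (X_zero Y hadd) t u]
    have e := hcomm r s ⟨hr, hs, h1, h2', hk⟩ t u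
    calc (Y s u)⁻¹ * (Y r t)⁻¹ * Y s u * Y r t = (Y s u)⁻¹ * (Y r t)⁻¹ * (Y s u * Y r t) := by group
      _ = (Y s u)⁻¹ * (Y r t)⁻¹ * (Y r t * Y s u) := by rw [e]
      _ = 1 := by group
  · obtain ⟨_, _, _, _, _, _, _, _, e1, _⟩ := tab_LS p hp
    rw [word_eq h2, e1, hLS p hp t u]
    simp
  · obtain ⟨_, _, h3, h4, _, _, _, _, _, e2, _, _, _, _, c12⟩ := tab_LS p hp
    rw [word_eq h2, e2]
    have e := hLS p hp u t
    have e' : (Y p.1 u)⁻¹ * (Y p.2.1 t)⁻¹ * Y p.1 u * Y p.2.1 t =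
        ((Y p.2.1 t)⁻¹ * (Y p.1 u)⁻¹ * Y p.2.1 t * Y p.1 u)⁻¹ := by group
    rw [e', e, mul_inv_rev, X_inv h2 Y hadd _ h3, X_inv h2 Y hadd _ h4, ← hcomm _ _ c12]
    simp only [List.map_cons, List.map_nil, List.prod_cons, List.prod_nil, Int.cast_one, one_mul,
      pow_one, mul_one]
    rw [mul_comm u t, mul_comm u (t ^ 2)]

end Char2

/-! ## Central extensions -/

section Lift

variable {K : Type u} [Field K] {G : Type v} [Group G] {E : Type w} [Group E]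
  (ω : K) (hω : ω ^ 2 + ω + 1 = 0) (h2 : (2 : K) = 0)
  (ρ : E →* G) (hc : ρ.ker ≤ Subgroup.center E)

include hc in
/-- An element whose image commutes with the images of `a` and `b` commutes with `a b a⁻¹ b⁻¹`. -/
theorem comm_commutator (w a b : E) (ha : ρ w * ρ a = ρ a * ρ w) (hb : ρ w * ρ b = ρ b * ρ w) :
    w * (a * b * a⁻¹ * b⁻¹) = (a * b * a⁻¹ * b⁻¹) * w := by
  have e1 : ρ (w * a * w⁻¹) = ρ a := by rw [map_mul, map_mul, map_inv, ha]; group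
  have e2 : ρ (w * b * w⁻¹) = ρ b := by rw [map_mul, map_mul, map_inv, hb]; group
  have key := Cfsg.Agent.H24.Univ.comm_eq_of_map_eq ρ hc e1 e2
  have e3 : w * (a * b * a⁻¹ * b⁻¹) * w⁻¹ = a * b * a⁻¹ * b⁻¹ := by
    calc w * (a * b * a⁻¹ * b⁻¹) * w⁻¹
        = w * a * w⁻¹ * (w * b * w⁻¹) * (w * a * w⁻¹)⁻¹ * (w * b * w⁻¹)⁻¹ := by group
      _ = _ := key
  calc w * (a * b * a⁻¹ * b⁻¹) = w * (a * b * a⁻¹ * b⁻¹) * w⁻¹ * w := by group
    _ = _ := by rw [e3]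

theorem comm_inv' {Γ : Type*} [Group Γ] (a b : Γ) (h : a * b = b * a) : a * b⁻¹ = b⁻¹ * a := by
  calc a * b⁻¹ = b⁻¹ * (b * a) * b⁻¹ := by group
    _ = b⁻¹ * (a * b) * b⁻¹ := by rw [h]
    _ = b⁻¹ * a := by group

include hω h2 hc in
/-- The elements of the two root subgroups `l + s`, `l + 2 s` have lifts that commute with every
element whose image commutes with the root subgroups `l`, `s`. -/
theorem pre_comm (XL XS X1 X2 : K → G)
    (hadd1 : ∀ t u, X1 t * X1 u = X1 (t + u)) (hadd2 : ∀ t u, X2 t * X2 u = X2 (t + u))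
    (h12 : ∀ t u, X1 t * X2 u = X2 u * X1 t)
    (hrel : ∀ t u, (XS u)⁻¹ * (XL t)⁻¹ * XS u * XL t = X1 (t * u) * X2 (t * u ^ 2))
    (hL : ∀ t, ∃ e : E, ρ e = XL t) (hS : ∀ u, ∃ e : E, ρ e = XS u) (c : K) :
    (∃ d : E, ρ d = X1 c ∧ ∀ w : E, (∀ t, ρ w * XL t = XL t * ρ w) →
      (∀ u, ρ w * XS u = XS u * ρ w) → w * d = d * w) ∧
    (∃ d : E, ρ d = X2 c ∧ ∀ w : E, (∀ t, ρ w * XL t = XL t * ρ w) →
      (∀ u, ρ w * XS u = XS u * ρ w) → w * d = d * w) := by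
  choose L hL using hL
  choose S hS using hS
  obtain ⟨D, hD, hDc⟩ : ∃ D : K → K → E, (∀ t u, ρ (D t u) = X1 (t * u) * X2 (t * u ^ 2)) ∧
      (∀ t u (w : E), (∀ t, ρ w * XL t = XL t * ρ w) → (∀ u, ρ w * XS u = XS u * ρ w) →
        w * D t u = D t u * w) := by
    refine ⟨fun t u => (S u)⁻¹ * (L t)⁻¹ * ((S u)⁻¹)⁻¹ * ((L t)⁻¹)⁻¹, ?_, ?_⟩
    · intro t u
      simp only [map_mul, map_inv, hL, hS, inv_inv]
      exact hrel t u
    · intro t u w h1 h2'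
      apply comm_commutator ρ hc
      · rw [map_inv, hS]; exact comm_inv' _ _ (h2' u)
      · rw [map_inv, hL]; exact comm_inv' _ _ (h1 t)
  have z1 : X1 0 = 1 := by
    have := hadd1 0 0
    rw [add_zero] at this
    exact mul_left_cancel (a := X1 0) (by rw [this, mul_one])
  have z2 : X2 0 = 1 := by
    have := hadd2 0 0
    rw [add_zero] at this
    exact mul_left_cancel (a := X2 0) (by rw [this, mul_one])
  have hom := om_add ω hω h2
  have key : ∀ a b a' b' : K, X1 a * X2 b * (X1 a' * X2 b') = X1 (a + a') * X2 (b + b') := by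
    intro a b a' b'
    calc X1 a * X2 b * (X1 a' * X2 b') = X1 a * (X2 b * X1 a') * X2 b' := by group
      _ = X1 a * (X1 a' * X2 b) * X2 b' := by rw [h12]
      _ = (X1 a * X1 a') * (X2 b * X2 b') := by group
      _ = _ := by rw [hadd1, hadd2]
  refine ⟨⟨D (ω ^ 2 * c) 1 * D c ω, ?_, ?_⟩, ⟨D (ω * c) 1 * D c ω, ?_, ?_⟩⟩
  · rw [map_mul, hD, hD, key]
    have e1 : ω ^ 2 * c * 1 + c * ω = c := by linear_combination c * hom
    have e2 : ω ^ 2 * c * 1 ^ 2 + c * ω ^ 2 = 0 := by linear_combination (ω ^ 2 * c) * h2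
    rw [e1, e2, z2, mul_one]
  · intro w h1 h2'
    rw [← mul_assoc, hDc _ _ w h1 h2', mul_assoc, hDc _ _ w h1 h2', mul_assoc]
  · rw [map_mul, hD, hD, key]
    have e1 : ω * c * 1 + c * ω = 0 := by linear_combination (ω * c) * h2
    have e2 : ω * c * 1 ^ 2 + c * ω ^ 2 = c := by linear_combination c * hom
    rw [e1, e2, z1, one_mul]
  · intro w h1 h2'
    rw [← mul_assoc, hDc _ _ w h1 h2', mul_assoc, hDc _ _ w h1 h2', mul_assoc]

theorem act_pow {Γ : Type*} [Group Γ] (X : K → Γ) (h : Γ) (c : K)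
    (hact : ∀ t, h * X t * h⁻¹ = X (c * t)) (a : ℕ) :
    ∀ t, h ^ a * X t * (h ^ a)⁻¹ = X (c ^ a * t) := by
  induction a with
  | zero => intro t; simp
  | succ a ih =>
    intro t
    calc h ^ (a + 1) * X t * (h ^ (a + 1))⁻¹ = h ^ a * (h * X t * h⁻¹) * (h ^ a)⁻¹ := by
          rw [pow_succ]; group
      _ = X (c ^ a * (c * t)) := by rw [hact, ih]
      _ = X (c ^ (a + 1) * t) := by rw [pow_succ, mul_assoc]

include hω h2 hc in
/-- The long-short relation for the lifts. -/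
theorem ls_rel (hK : ∀ t : K, t = 0 ∨ t = 1 ∨ t = ω ∨ t = ω + 1)
    (YL YS Y1 Y2 : K → E)
    (aL : ∀ t u, YL (t + u) = YL t * YL u) (aS : ∀ t u, YS (t + u) = YS t * YS u)
    (a1 : ∀ t u, Y1 (t + u) = Y1 t * Y1 u) (a2 : ∀ t u, Y2 (t + u) = Y2 t * Y2 u)
    (cL1 : ∀ t u, YL t * Y1 u = Y1 u * YL t) (cL2 : ∀ t u, YL t * Y2 u = Y2 u * YL t)
    (c12 : ∀ t u, Y1 t * Y2 u = Y2 u * Y1 t)
    (hρ : ∀ t u, ρ ((YS u)⁻¹ * (YL t)⁻¹ * YS u * YL t) = ρ (Y1 (t * u) * Y2 (t * u ^ 2)))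
    (htor : ∀ i < 3, ∀ j < 3, ∃ g : E, (∀ t, g * YL t * g⁻¹ = YL (ω ^ i * t)) ∧
      (∀ u, g * YS u * g⁻¹ = YS (ω ^ j * u)) ∧ (∀ t, g * Y1 t * g⁻¹ = Y1 (ω ^ i * ω ^ j * t)) ∧
      (∀ t, g * Y2 t * g⁻¹ = Y2 (ω ^ i * (ω ^ j * ω ^ j) * t))) :
    ∀ t u, (YS u)⁻¹ * (YL t)⁻¹ * YS u * YL t = Y1 (t * u) * Y2 (t * u ^ 2) := by
  have zero_of : ∀ Y : K → E, (∀ t u, Y (t + u) = Y t * Y u) → Y 0 = 1 := by
    intro Y hY
    have := hY 0 0
    rw [add_zero] at this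
    exact mul_left_cancel (a := Y 0) (by rw [← this, mul_one])
  have zL := zero_of YL aL
  have zS := zero_of YS aS
  have z1 := zero_of Y1 a1
  have z2 := zero_of Y2 a2
  obtain ⟨F, hF⟩ : ∃ F : K → K → E, ∀ t u, F t u = (YS u)⁻¹ * (YL t)⁻¹ * YS u * YL t :=
    ⟨_, fun _ _ => rfl⟩
  obtain ⟨R, hR⟩ : ∃ R : K → K → E, ∀ t u, R t u = Y1 (t * u) * Y2 (t * u ^ 2) :=
    ⟨_, fun _ _ => rfl⟩
  have hcen : ∀ t u (g : E), (F t u * (R t u)⁻¹) * g = g * (F t u * (R t u)⁻¹) := by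
    intro t u g
    have hmem : F t u * (R t u)⁻¹ ∈ Subgroup.center E := hc (by
      rw [MonoidHom.mem_ker, map_mul, map_inv, hF, hR, hρ, mul_inv_cancel])
    exact (Subgroup.mem_center_iff.mp hmem g).symm
  have hinv : ∀ i < 3, ∀ j < 3, ∀ t u,
      F (ω ^ i * t) (ω ^ j * u) * (R (ω ^ i * t) (ω ^ j * u))⁻¹ = F t u * (R t u)⁻¹ := by
    intro i hi j hj t u
    obtain ⟨g, g1, g2, g3, g4⟩ := htor i hi j hj
    have eF : g * F t u * g⁻¹ = F (ω ^ i * t) (ω ^ j * u) := by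
      rw [hF, hF, ← g1, ← g2]; group
    have eR : g * R t u * g⁻¹ = R (ω ^ i * t) (ω ^ j * u) := by
      rw [hR, hR]
      have e1 : ω ^ i * t * (ω ^ j * u) = ω ^ i * ω ^ j * (t * u) := by ring
      have e2 : ω ^ i * t * (ω ^ j * u) ^ 2 = ω ^ i * (ω ^ j * ω ^ j) * (t * u ^ 2) := by ring
      rw [e1, e2, ← g3, ← g4]; group
    calc F (ω ^ i * t) (ω ^ j * u) * (R (ω ^ i * t) (ω ^ j * u))⁻¹
        = g * (F t u * (R t u)⁻¹) * g⁻¹ := by rw [← eF, ← eR]; group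
      _ = F t u * (R t u)⁻¹ * g * g⁻¹ := by rw [hcen t u g]
      _ = _ := by group
  have hRadd : ∀ t t' u, R (t + t') u = R t u * R t' u := by
    intro t t' u
    rw [hR, hR, hR, add_mul, add_mul, a1, a2]
    calc Y1 (t * u) * Y1 (t' * u) * (Y2 (t * u ^ 2) * Y2 (t' * u ^ 2))
        = Y1 (t * u) * (Y1 (t' * u) * Y2 (t * u ^ 2)) * Y2 (t' * u ^ 2) := by group
      _ = Y1 (t * u) * (Y2 (t * u ^ 2) * Y1 (t' * u)) * Y2 (t' * u ^ 2) := by rw [c12]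
      _ = _ := by group
  have hadd : ∀ t t' u, F (t + t') u * (R (t + t') u)⁻¹ =
      (F t u * (R t u)⁻¹) * (F t' u * (R t' u)⁻¹) := by
    intro t t' u
    have e1 : F (t + t') u = F t' u * ((YL t')⁻¹ * F t u * YL t') := by
      rw [hF, hF, hF, aL]; group
    have e2 : (YL t')⁻¹ * F t u * YL t' = F t u := by
      have hRc : YL t' * R t u = R t u * YL t' := by
        rw [hR, ← mul_assoc, cL1, mul_assoc, cL2, ← mul_assoc]
      calc (YL t')⁻¹ * F t u * YL t'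
          = (YL t')⁻¹ * ((F t u * (R t u)⁻¹) * (R t u * YL t')) := by group
        _ = (YL t')⁻¹ * ((F t u * (R t u)⁻¹) * (YL t' * R t u)) := by rw [hRc]
        _ = (YL t')⁻¹ * ((F t u * (R t u)⁻¹) * YL t') * R t u := by group
        _ = (YL t')⁻¹ * (YL t' * (F t u * (R t u)⁻¹)) * R t u := by rw [hcen t u (YL t')]
        _ = _ := by group
    have e3 : R (t + t') u = R t' u * R t u := by rw [add_comm, hRadd]
    rw [e1, e2, e3]
    calc F t' u * F t u * (R t' u * R t u)⁻¹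
        = F t' u * (F t u * (R t u)⁻¹) * (R t' u)⁻¹ := by group
      _ = (F t u * (R t u)⁻¹) * F t' u * (R t' u)⁻¹ := by rw [← hcen t u (F t' u)]
      _ = _ := by group
  have h11 : F 1 1 * (R 1 1)⁻¹ = 1 := by
    have e := hadd ω (ω ^ 2) 1
    rw [om_add ω hω h2] at e
    have e1 := hinv 1 (by norm_num) 0 (by norm_num) 1 1
    have e2 := hinv 2 (by norm_num) 0 (by norm_num) 1 1
    simp only [pow_one, pow_zero, mul_one] at e1 e2
    rw [e1, e2] at e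
    exact mul_left_cancel (a := F 1 1 * (R 1 1)⁻¹) (by rw [← e, mul_one])
  intro t u
  rcases eq_or_ne t 0 with rfl | ht
  · rw [zL, zero_mul, zero_mul, z1, z2]; group
  rcases eq_or_ne u 0 with rfl | hu
  · rw [zS, mul_zero, z1]
    have : (0 : K) ^ 2 = 0 := by norm_num
    rw [this, mul_zero, z2]; group
  obtain ⟨i, hi, rfl⟩ := exists_pow ω hω h2 hK t ht
  obtain ⟨j, hj, rfl⟩ := exists_pow ω hω h2 hK u hu
  have e := hinv i hi j hj 1 1
  rw [mul_one, mul_one, h11] at e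
  have e' := mul_inv_eq_one.mp e
  rw [hF, hR] at e'
  exact e'

end Lift

/-- **S2400-B2F4.** Lifting the relations of type B2 through a central extension over the field with
four elements. -/
theorem b2f4 : Stmt4.{u, v, w} := by
  intro K _ G _ E _ ω hω h2 hK ρ hc x hx hl h5 h4 hh5 hh4 h54 hact5 hact4
  obtain ⟨H5, hH5⟩ := hh5
  obtain ⟨H4, hH4⟩ := hh4
  have hω0 := om_ne_zero ω hω
  have xadd : ∀ q < 8, ∀ t u : K, x q (t + u) = x q t * x q u :=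
    fun q hq t u => (hx.add q hq t u).symm
  have xcomm : ∀ r s, CP r s → ∀ t u : K, x r t * x s u = x s u * x r t :=
    fun r s h t u => X_comm h2 x hx r s h t u
  have xLS := fun p hp t u => X_LS h2 x hx p hp t u
  -- the torus action
  have tor : ∀ a b : ℕ, ∀ q < 8, ∀ t : K,
      (h5 ^ a * h4 ^ b) * x q t * (h5 ^ a * h4 ^ b)⁻¹ = x q (ω ^ (ex a b q) * t) := by
    intro a b q hq t
    have e5 := act_pow (x q) h5 _ (hact5 q hq) a
    have e4 := act_pow (x q) h4 _ (hact4 q hq) b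
    have e : ω ^ (ex a b q) = (ω ^ z5.getD q 0) ^ a * (ω ^ z4.getD q 0) ^ b := by
      unfold ex
      rw [zpow_add₀ hω0, mul_comm (a : ℤ), mul_comm (b : ℤ), zpow_mul, zpow_mul, zpow_natCast,
        zpow_natCast]
    calc (h5 ^ a * h4 ^ b) * x q t * (h5 ^ a * h4 ^ b)⁻¹
        = h5 ^ a * (h4 ^ b * x q t * (h4 ^ b)⁻¹) * (h5 ^ a)⁻¹ := by group
      _ = x q ((ω ^ z5.getD q 0) ^ a * ((ω ^ z4.getD q 0) ^ b * t)) := by rw [e4, e5]
      _ = _ := by rw [e, mul_assoc]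
  have rtor : ∀ a b : ℕ, ρ (H5 ^ a * H4 ^ b) = h5 ^ a * h4 ^ b := by
    intro a b; rw [map_mul, map_pow, map_pow, hH5, hH4]
  -- the preimages of the root subgroups are commutative
  have pc : ∀ q < 8, ∀ (e e' : E) (t u : K), ρ e = x q t → ρ e' = x q u → e * e' = e' * e := by
    intro q hq e e' t u he he'
    obtain ⟨p, hp, hpq⟩ := tab_cover q hq
    obtain ⟨h1, h2', h3, h4', _, _, _, _, _, _, cl1, cl2, cs1, cs2, c12⟩ := tab_LS p hp
    obtain ⟨⟨d1, hd1, hd1c⟩, ⟨d2, hd2, hd2c⟩⟩ := pre_comm ω hω h2 ρ hc (x p.1) (x p.2.1)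
      (x p.2.2.1) (x p.2.2.2) (hx.add _ h3) (hx.add _ h4') (xcomm _ _ c12) (xLS p hp)
      (hl _ h1) (hl _ h2') u
    have fin : ∀ d : E, ρ d = x q u → e * d = d * e → e * e' = e' * e := by
      intro d hd hed
      have hk := Cfsg.Agent.H24.Univ.conj_eq_of_map_eq ρ hc (he'.trans hd.symm) e
      have e0 : d * e * d⁻¹ = e := by rw [← hed]; group
      rw [e0] at hk
      calc e * e' = (e' * e * e'⁻¹) * e' := by rw [hk]
        _ = e' * e := by group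
    rcases hpq with rfl | rfl
    · refine fin d1 hd1 (hd1c e ?_ ?_)
      · intro t'; rw [he]; exact (xcomm _ _ cl1 t' t).symm
      · intro u'; rw [he]; exact (xcomm _ _ cs1 u' t).symm
    · refine fin d2 hd2 (hd2c e ?_ ?_)
      · intro t'; rw [he]; exact (xcomm _ _ cl2 t' t).symm
      · intro u'; rw [he]; exact (xcomm _ _ cs2 u' t).symm
  -- the lifts
  have ex_y : ∀ q < 8, ∃ y : K → E, (∀ t, ρ (y t) = x q t) ∧ (∀ t u, y (t + u) = y t * y u) ∧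
      (∀ a b : ℕ, ∀ t, (H5 ^ a * H4 ^ b) * y t * (H5 ^ a * H4 ^ b)⁻¹ = y (ω ^ (ex a b q) * t)) := by
    intro q hq
    have hm : ω ^ (eq0 q) - 1 ≠ 0 := om_zpow_ne ω hω h2 _ (tab_eq0 q hq)
    have c54 : Commute h5 h4 := h54
    obtain ⟨h₀, Hq, hHq, hact, hcomm⟩ : ∃ (h₀ : G) (Hq : E), ρ Hq = h₀ ∧
        (∀ t : K, h₀ * x q t * h₀⁻¹ = x q (ω ^ (eq0 q) * t)) ∧
        (∀ a b : ℕ, (h5 ^ a * h4 ^ b) * h₀ = h₀ * (h5 ^ a * h4 ^ b)) := by
      by_cases hq' : q = 1 ∨ q = 6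
      · refine ⟨h4, H4, hH4, ?_, ?_⟩
        · intro t; rw [hact4 q hq t]; unfold eq0; rw [if_pos hq']
        · intro a b; exact ((c54.pow_left a).mul_left ((Commute.refl h4).pow_left b)).eq
      · refine ⟨h5, H5, hH5, ?_, ?_⟩
        · intro t; rw [hact5 q hq t]; unfold eq0; rw [if_neg hq']
        · intro a b; exact (((Commute.refl h5).pow_left a).mul_left (c54.symm.pow_left b)).eq
    obtain ⟨y, hy1, hy2, hy3⟩ := Cfsg.Agent.H24.Univ.exists_lift ρ hc (x q)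
      {g | ∃ a b : ℕ, g = h5 ^ a * h4 ^ b} (xadd q hq) (hl q hq) h₀ ⟨Hq, hHq⟩ (ω ^ (eq0 q)) hm hact
      (by rintro _ ⟨a, b, rfl⟩; exact hcomm a b)
    refine ⟨y, hy1, ?_, ?_⟩
    · exact Cfsg.Agent.H24.Univ.add_of_comm ρ (x q) y (xadd q hq) hy1 Hq _ hm
        (fun e t he => hy3 Hq e t hHq he) (fun t u => pc q hq _ _ t u (hy1 t) (hy1 u))
    · intro a b t
      refine hy2 (H5 ^ a * H4 ^ b) _ ?_ ?_ t
      · rw [rtor]; exact ⟨a, b, rfl⟩
      · intro t'; rw [rtor]; exact tor a b q hq t'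
  choose! Y hY using ex_y
  -- commuting pairs
  have Ycomm : ∀ r s, CP r s → ∀ t u : K, Y r t * Y s u = Y s u * Y r t := by
    rintro r s ⟨hr, hs, h1, h2', hk⟩ t u
    obtain ⟨a, _, b, _, e1, e2⟩ := tab_sep r hr s hs ⟨h1, h2'⟩
    refine Cfsg.Agent.H24.Univ.comm_of_sep ρ hc (Y r t) (Y s) ?_ ?_ (H5 ^ a * H4 ^ b)
      (ω ^ (ex a b s)) (om_zpow_ne ω hω h2 _ e2) ?_ ((hY s hs).2.2 a b) u
    · intro t' u'; rw [(hY s hs).2.1, map_mul]
    · intro u'; rw [(hY r hr).1, (hY s hs).1]; exact xcomm r s ⟨hr, hs, h1, h2', hk⟩ t u'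
    · rw [(hY r hr).2.2 a b t, om_zpow_one ω hω h2 _ e1, one_mul]
  refine ⟨Y, fun q hq t => (hY q hq).1 t, rel_of h2 Y ?_ Ycomm ?_⟩
  · intro r hr t u
    exact ((hY r hr).2.1 t u).symm
  · -- the long-short relations
    intro p hp
    obtain ⟨h1, h2', h3, h4', _, _, _, _, _, _, cl1, cl2, cs1, cs2, c12⟩ := tab_LS p hp
    refine ls_rel ω hω h2 ρ hc hK (Y p.1) (Y p.2.1) (Y p.2.2.1) (Y p.2.2.2) (hY _ h1).2.1
      (hY _ h2').2.1 (hY _ h3).2.1 (hY _ h4').2.1 (Ycomm _ _ cl1) (Ycomm _ _ cl2) (Ycomm _ _ c12)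
      ?_ ?_
    · intro t u
      simp only [map_mul, map_inv]
      rw [(hY _ h1).1, (hY _ h2').1, (hY _ h3).1, (hY _ h4').1]
      exact xLS p hp t u
    · intro i hi j hj
      obtain ⟨a, ha, b, hb, e1, e2⟩ := tab_all p hp i hi j hj
      obtain ⟨s1, s2⟩ := tab_sum p hp a ha b hb
      have w1 : ω ^ (ex a b p.1) = ω ^ i := om_zpow_nat ω hω h2 _ i e1
      have w2 : ω ^ (ex a b p.2.1) = ω ^ j := om_zpow_nat ω hω h2 _ j e2
      refine ⟨H5 ^ a * H4 ^ b, ?_, ?_, ?_, ?_⟩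
      · intro t; rw [(hY _ h1).2.2 a b t, w1]
      · intro u; rw [(hY _ h2').2.2 a b u, w2]
      · intro t; rw [(hY _ h3).2.2 a b t, s1, zpow_add₀ hω0, w1, w2]
      · intro t; rw [(hY _ h4').2.2 a b t, s2, zpow_add₀ hω0, two_mul, zpow_add₀ hω0, w1, w2]

example : Stmt4.{u, v, w} := b2f4

end Cfsg.Agent.H23.B2
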