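import Mathlib
import Cfsg.Agent.H18.DkMk

/-!
# S4701 piece (helper23, for helper78): `p ^ 3 ≤ 3 * |PSL(2, p)|` and `p ^ 3 ≤ 3 * |SL(2, 2^m)|`
for `p = 2 ^ m + 1`
-/

set_option autoImplicit false
set_option linter.unusedVariables false

namespace Cfsg.Agent.H23.BR

theorem cube_le {M : Type*} [Group M] [Finite M] (p : ℕ) (hp : p.Prime)
    (h : (∃ (F : Type) (_ : Field F) (_ : Fintype F), Fintype.card F = p ∧ 3 < p ∧
        Nonempty (M ≃* Matrix.ProjectiveSpecialLinearGroup (Fin 2) F)) ∨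
      (∃ (m : ℕ) (F : Type) (_ : Field F) (_ : Fintype F), Fintype.card F = 2 ^ m ∧
        p = 2 ^ m + 1 ∧ 3 < p ∧ Nonempty (M ≃* Matrix.ProjectiveSpecialLinearGroup (Fin 2) F))) :
    p ^ 3 ≤ 3 * Nat.card M := by
  rcases h with ⟨F, _, _, hF, h3, ⟨e⟩⟩ | ⟨m, F, _, _, hF, hpm, h3, ⟨e⟩⟩
  · have hN : Nat.card M = Nat.card (Matrix.ProjectiveSpecialLinearGroup (Fin 2) F) :=
      Nat.card_congr e.toEquiv
    have h2 := Cfsg.Agent.H18.Dk.card_PSL2_mul (F := F)
    rw [hF, ← hN] at h2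
    have hodd : Odd p := by
      rcases hp.eq_two_or_odd' with h | h
      · omega
      · exact h
    have hg : Nat.gcd 2 (p - 1) = 2 := by
      apply Nat.gcd_eq_left
      obtain ⟨k, hk⟩ := hodd
      exact ⟨k, by omega⟩
    rw [hg] at h2
    obtain ⟨c, hc⟩ : ∃ c, p ^ 2 = c + 1 := ⟨p ^ 2 - 1, by
      have : 1 ≤ p ^ 2 := Nat.one_le_pow _ _ hp.pos
      omega⟩
    have hc' : p ^ 2 - 1 = c := by omega
    rw [hc'] at h2
    have hc2 : 2 ≤ c := by nlinarith
    have h4 : p ^ 3 = p * (c + 1) := by rw [← hc]; ring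
    nlinarith [Nat.mul_le_mul_left p hc2]
  · have hN : Nat.card M = Nat.card (Matrix.ProjectiveSpecialLinearGroup (Fin 2) F) :=
      Nat.card_congr e.toEquiv
    have h2 := Cfsg.Agent.H18.Dk.card_PSL2_mul (F := F)
    rw [hF, ← hN] at h2
    set q := 2 ^ m with hq
    have hq4 : 4 ≤ q := by
      have hm : 2 ≤ m := by
        by_contra hcon
        have hm1 : m ≤ 1 := by omega
        have : q ≤ 2 ^ 1 := Nat.pow_le_pow_right (by norm_num) hm1
        omega
      calc 4 = 2 ^ 2 := by norm_num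
        _ ≤ 2 ^ m := Nat.pow_le_pow_right (by norm_num) hm
    have heven : Even q := by
      have hm : m ≠ 0 := by
        rintro rfl
        simp at hq
        omega
      rw [hq]
      exact (Nat.even_pow.mpr ⟨even_two, hm⟩)
    have hg : Nat.gcd 2 (q - 1) = 1 := by
      have hodd : Odd (q - 1) := by
        obtain ⟨k, hk⟩ := heven
        exact ⟨k - 1, by omega⟩
      exact Nat.coprime_two_left.mpr hodd
    rw [hg, one_mul] at h2
    obtain ⟨c, hc⟩ : ∃ c, q ^ 2 = c + 1 := ⟨q ^ 2 - 1, by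
      have : 1 ≤ q ^ 2 := Nat.one_le_pow _ _ (by omega)
      omega⟩
    have hc' : q ^ 2 - 1 = c := by omega
    rw [hc'] at h2
    rw [hpm, h2]
    have h5 : (q + 1) ^ 3 = q * (c + 1) + 3 * (c + 1) + 3 * q + 1 := by rw [← hc]; ring
    rw [h5]
    have h6 : 16 ≤ c + 1 := by rw [← hc]; nlinarith
    nlinarith [Nat.mul_le_mul_left q h6, Nat.mul_le_mul hq4 h6]

example : ∀ {M : Type*} [Group M] [Finite M] (p : ℕ) (hp : p.Prime)
    (h : (∃ (F : Type) (_ : Field F) (_ : Fintype F), Fintype.card F = p ∧ 3 < p ∧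
        Nonempty (M ≃* Matrix.ProjectiveSpecialLinearGroup (Fin 2) F)) ∨
      (∃ (m : ℕ) (F : Type) (_ : Field F) (_ : Fintype F), Fintype.card F = 2 ^ m ∧
        p = 2 ^ m + 1 ∧ 3 < p ∧ Nonempty (M ≃* Matrix.ProjectiveSpecialLinearGroup (Fin 2) F))),
    p ^ 3 ≤ 3 * Nat.card M := @cube_le

end Cfsg.Agent.H23.BR
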