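import Mathlib

/-!
# S4701 pieces (helper23, for helper78): perfect groups, quotients and index two
-/

set_option autoImplicit false
set_option linter.unusedVariables false
set_option linter.style.haveILetI false
set_option linter.deprecated false

namespace Cfsg.Agent.H23.BR

theorem perfect_quot {G : Type*} [Group G] (hperf : commutator G = ⊤) (K : Subgroup G)
    [K.Normal] : commutator (G ⧸ K) = ⊤ := by
  rw [commutator_def] at hperf ⊢
  have h := Subgroup.map_commutator (⊤ : Subgroup G) ⊤ (QuotientGroup.mk' K)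
  rw [hperf, Subgroup.map_top_of_surjective _ (QuotientGroup.mk'_surjective K)] at h
  exact h.symm

theorem perfect_index_two {Q : Type*} [Group Q] [Finite Q] (hperf : commutator Q = ⊤)
    (M : Subgroup Q) (hM : M.index = 2) : False := by
  haveI : M.Normal := Subgroup.normal_of_index_eq_two hM
  have hc : Nat.card (Q ⧸ M) = 2 := hM
  haveI : Fact (Nat.Prime 2) := ⟨Nat.prime_two⟩
  haveI hcyc : IsCyclic (Q ⧸ M) := isCyclic_of_prime_card hc
  have hcomm : IsMulCommutative (Q ⧸ M) := ⟨⟨fun a b => by
    obtain ⟨g, hg⟩ := IsCyclic.exists_generator (α := Q ⧸ M)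
    obtain ⟨m, rfl⟩ := Subgroup.mem_zpowers_iff.mp (hg a)
    obtain ⟨n, rfl⟩ := Subgroup.mem_zpowers_iff.mp (hg b)
    rw [← zpow_add, ← zpow_add, add_comm]⟩⟩
  have hle : commutator Q ≤ M :=
    Subgroup.Normal.quotient_commutative_iff_commutator_le.mp hcomm
  rw [hperf] at hle
  have hM1 : M = ⊤ := top_le_iff.mp hle
  rw [hM1, Subgroup.index_top] at hM
  omega

example : ∀ {G : Type*} [Group G] (hperf : commutator G = ⊤) (K : Subgroup G)
    [K.Normal], commutator (G ⧸ K) = ⊤ := @perfect_quot

example : ∀ {Q : Type*} [Group Q] [Finite Q] (hperf : commutator Q = ⊤)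
    (M : Subgroup Q) (hM : M.index = 2), False := @perfect_index_two

end Cfsg.Agent.H23.BR
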