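import Mathlib

/-!
# S4701 piece (helper23, for helper78): a non-normal Sylow `p`-subgroup of a group of order
`< p ^ 3` divisible by `p` has order `p`
-/

set_option autoImplicit false
set_option linter.unusedVariables false
set_option linter.style.haveILetI false
set_option linter.deprecated false

namespace Cfsg.Agent.H23.BR

theorem sylow_card {G : Type*} [Group G] [Finite G] (p : ℕ) [Fact p.Prime]
    (hdvd : p ∣ Nat.card G) (hbig : Nat.card G < p ^ 3) (P : Sylow p G)
    (hP : ¬ (P : Subgroup G).Normal) : Nat.card (P : Subgroup G) = p := by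
  have hp : p.Prime := Fact.out
  have hcard := P.card_eq_multiplicity
  set k := (Nat.card G).factorization p with hk
  have hGpos : 0 < Nat.card G := Nat.card_pos
  have hk1 : 1 ≤ k := by
    rw [hk]
    exact (hp.dvd_iff_one_le_factorization hGpos.ne').mp hdvd
  have hmul : Nat.card (P : Subgroup G) * (P : Subgroup G).index = Nat.card G :=
    Subgroup.card_mul_index _
  have hidx : 0 < (P : Subgroup G).index := Nat.pos_of_ne_zero (Subgroup.index_ne_zero_of_finite)
  by_cases hk2 : 2 ≤ k
  · exfalso
    -- index < p
    have h1 : p ^ 2 * (P : Subgroup G).index ≤ Nat.card G := by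
      rw [← hmul, hcard]
      exact Nat.mul_le_mul_right _ (Nat.pow_le_pow_right hp.pos hk2)
    have h2 : (P : Subgroup G).index < p := by
      by_contra hcon
      have hcon := not_lt.mp hcon
      have : p ^ 3 ≤ p ^ 2 * (P : Subgroup G).index := by
        calc p ^ 3 = p ^ 2 * p := by ring
          _ ≤ p ^ 2 * (P : Subgroup G).index := Nat.mul_le_mul_left _ hcon
      omega
    have h3 : Nat.card (Sylow p G) ≡ 1 [MOD p] := card_sylow_modEq_one p G
    have h4 : Nat.card (Sylow p G) ∣ (P : Subgroup G).index := P.card_dvd_index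
    have h5 : Nat.card (Sylow p G) ≤ (P : Subgroup G).index := Nat.le_of_dvd hidx h4
    have h6 : Nat.card (Sylow p G) < p := lt_of_le_of_lt h5 h2
    have h7 : Nat.card (Sylow p G) = 1 := by
      have h8 := h3
      unfold Nat.ModEq at h8
      rw [Nat.mod_eq_of_lt h6, Nat.mod_eq_of_lt hp.one_lt] at h8
      exact h8
    haveI : Subsingleton (Sylow p G) := (Nat.card_eq_one_iff_unique.mp h7).1
    exact hP (Sylow.normal_of_subsingleton P)
  · have hk' : k = 1 := by omega
    rw [hcard, hk', pow_one]

example : ∀ {G : Type*} [Group G] [Finite G] (p : ℕ) [Fact p.Prime]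
    (hdvd : p ∣ Nat.card G) (hbig : Nat.card G < p ^ 3) (P : Sylow p G)
    (hP : ¬ (P : Subgroup G).Normal), Nat.card (P : Subgroup G) = p := @sylow_card

end Cfsg.Agent.H23.BR
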