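import Cfsg.Agent.H23.WeylLevel
import Cfsg.Agent.H23.TabB2

set_option autoImplicit false
set_option maxRecDepth 1000000

namespace Cfsg.Agent.H23

open Cfsg.Lie

/-- Bit mask of the positive roots of type B2. -/
def pmB2 : ℕ := 240

theorem pmB2_ok : ∀ s < chevB2.nroots, (tb pmB2 s = true ↔ chevB2.IsPosRoot s) := by decide +kernel

/-- The chain of subsets of fundamental reflections of type B2. -/
def wJB2_0 : List ℕ := [0, 1]

/-- Level 1 of the chain of type B2: 4 coset representatives. -/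
def wJB2_1 : List ℕ := [1]

/-- Bit mask of the roots of the subsystem at level 1 of type B2. -/
def qmB2_1 : ℕ := 24

/-- Packed coset representatives at level 1 of type B2. -/
def wUB2_1 : List ℕ := [506097522914230528, 289921455100330243, 217581286574129668, 564066695644423]

/-- Parents of the coset representatives at level 1 of type B2. -/
def wParB2_1 : List ℕ := [0, 0, 1, 2]

/-- Generators leading to the coset representatives at level 1 of type B2. -/
def wGenB2_1 : List ℕ := [0, 0, 1, 0]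

/-- Action of the generators on the cosets at level 1 of type B2. -/
def wNxtB2_1 : List (List ℕ) := [[1, 0, 3, 2], [5, 2, 1, 5]]

/-- Lengths of the coset representatives at level 1 of type B2. -/
def wLenB2_1 : List ℕ := [0, 1, 2, 3]

theorem wB2_1_Jlt : ∀ j ∈ wJB2_0, j < chevB2.rank := by decide

theorem wB2_1_sub : ∀ j ∈ wJB2_1, j ∈ wJB2_0 := by decide

theorem wB2_1_qm : ∀ s < chevB2.nroots, (tb qmB2_1 s = true ↔ inSub chevB2 wJB2_1 s) := by decide +kernel

theorem wB2_1_rpos : 0 < wUB2_1.length := by decide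

theorem wB2_1_id0 : idEq (wUB2_1.getD 0 0) chevB2.nroots = true := by decide +kernel

theorem wB2_1_tree : ∀ a < wUB2_1.length, a = 0 ∨ (wParB2_1.getD a 0 < a ∧ wGenB2_1.getD a 0 ∈ wJB2_0 ∧
    compEq (rTB2.getD (wGenB2_1.getD a 0) 0) (wUB2_1.getD (wParB2_1.getD a 0) 0) (wUB2_1.getD a 0) chevB2.nroots = true) := by
  decide +kernel

theorem wB2_1_clos : ∀ j ∈ wJB2_0, ∀ a < wUB2_1.length,
    closOne rTB2 wJB2_1 wUB2_1 chevB2.nroots j a ((wNxtB2_1.getD j []).getD a 0) = true := by decide +kernel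

theorem wB2_1_posJ : ∀ a < wUB2_1.length, posOK pmB2 qmB2_1 (wUB2_1.getD a 0) chevB2.nroots = true := by decide +kernel

theorem wB2_1_nodup : ((List.range wUB2_1.length).map (fun a => maskT pmB2 qmB2_1 (wUB2_1.getD a 0) chevB2.nroots)).Nodup := by
  decide +kernel

theorem wB2_1_len : (List.range wUB2_1.length).map (fun a => ellT pmB2 (wUB2_1.getD a 0) chevB2.nroots) = wLenB2_1 := by
  decide +kernel

theorem wB2_1_ok : LevelOK chevB2 rTB2 pmB2 qmB2_1 wJB2_0 wJB2_1 wUB2_1 wParB2_1 wGenB2_1 wNxtB2_1 where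
  Jlt := wB2_1_Jlt
  sub := wB2_1_sub
  pmOK := pmB2_ok
  qmOK := wB2_1_qm
  rpos := wB2_1_rpos
  id0 := wB2_1_id0
  tree := wB2_1_tree
  clos := wB2_1_clos
  posJ := wB2_1_posJ
  nodup := wB2_1_nodup

/-- Level 2 of the chain of type B2: 2 coset representatives. -/
def wJB2_2 : List ℕ := []

/-- Bit mask of the roots of the subsystem at level 2 of type B2. -/
def qmB2_2 : ℕ := 0

/-- Packed coset representatives at level 2 of type B2. -/
def wUB2_2 : List ℕ := [506097522914230528, 505817143170892288]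

/-- Parents of the coset representatives at level 2 of type B2. -/
def wParB2_2 : List ℕ := [0, 0]

/-- Generators leading to the coset representatives at level 2 of type B2. -/
def wGenB2_2 : List ℕ := [0, 1]

/-- Action of the generators on the cosets at level 2 of type B2. -/
def wNxtB2_2 : List (List ℕ) := [[], [1, 0]]

/-- Lengths of the coset representatives at level 2 of type B2. -/
def wLenB2_2 : List ℕ := [0, 1]

theorem wB2_2_Jlt : ∀ j ∈ wJB2_1, j < chevB2.rank := by decide

theorem wB2_2_sub : ∀ j ∈ wJB2_2, j ∈ wJB2_1 := by decide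

theorem wB2_2_qm : ∀ s < chevB2.nroots, (tb qmB2_2 s = true ↔ inSub chevB2 wJB2_2 s) := by decide +kernel

theorem wB2_2_rpos : 0 < wUB2_2.length := by decide

theorem wB2_2_id0 : idEq (wUB2_2.getD 0 0) chevB2.nroots = true := by decide +kernel

theorem wB2_2_tree : ∀ a < wUB2_2.length, a = 0 ∨ (wParB2_2.getD a 0 < a ∧ wGenB2_2.getD a 0 ∈ wJB2_1 ∧
    compEq (rTB2.getD (wGenB2_2.getD a 0) 0) (wUB2_2.getD (wParB2_2.getD a 0) 0) (wUB2_2.getD a 0) chevB2.nroots = true) := by
  decide +kernel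

theorem wB2_2_clos : ∀ j ∈ wJB2_1, ∀ a < wUB2_2.length,
    closOne rTB2 wJB2_2 wUB2_2 chevB2.nroots j a ((wNxtB2_2.getD j []).getD a 0) = true := by decide +kernel

theorem wB2_2_posJ : ∀ a < wUB2_2.length, posOK pmB2 qmB2_2 (wUB2_2.getD a 0) chevB2.nroots = true := by decide +kernel

theorem wB2_2_nodup : ((List.range wUB2_2.length).map (fun a => maskT pmB2 qmB2_2 (wUB2_2.getD a 0) chevB2.nroots)).Nodup := by
  decide +kernel

theorem wB2_2_len : (List.range wUB2_2.length).map (fun a => ellT pmB2 (wUB2_2.getD a 0) chevB2.nroots) = wLenB2_2 := by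
  decide +kernel

theorem wB2_2_ok : LevelOK chevB2 rTB2 pmB2 qmB2_2 wJB2_1 wJB2_2 wUB2_2 wParB2_2 wGenB2_2 wNxtB2_2 where
  Jlt := wB2_2_Jlt
  sub := wB2_2_sub
  pmOK := pmB2_ok
  qmOK := wB2_2_qm
  rpos := wB2_2_rpos
  id0 := wB2_2_id0
  tree := wB2_2_tree
  clos := wB2_2_clos
  posJ := wB2_2_posJ
  nodup := wB2_2_nodup

/-- The Poincaré sum of the Weyl group of type B2 as a product over the chain. -/
theorem weylSum_B2 (q : ℕ) : ∑ σ ∈ weylFin tab_B2, q ^ ell chevB2 σ =
    (wLenB2_1.map (fun k => q ^ k)).sum * (wLenB2_2.map (fun k => q ^ k)).sum := by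
  have e0 : List.range chevB2.rank = wJB2_0 := by decide
  have e1 : wJB2_2 = [] := rfl
  rw [← poin_range, e0]
  have h1 : ((List.range wUB2_1.length).map (fun a => q ^ ellT pmB2 (wUB2_1.getD a 0) chevB2.nroots)).sum =
      (wLenB2_1.map (fun k => q ^ k)).sum := map_pow_sum q _ _ _ wB2_1_len
  rw [(wB2_1_ok).sum tabT_B2 q, h1]
  have h2 : ((List.range wUB2_2.length).map (fun a => q ^ ellT pmB2 (wUB2_2.getD a 0) chevB2.nroots)).sum =
      (wLenB2_2.map (fun k => q ^ k)).sum := map_pow_sum q _ _ _ wB2_2_len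
  rw [(wB2_2_ok).sum tabT_B2 q, h2]
  rw [e1, poin_nil]
  simp only [mul_one, mul_assoc]

end Cfsg.Agent.H23
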