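import Cfsg.Agent.H23.WeylLevel
import Cfsg.Agent.H23.TabD4

set_option autoImplicit false
set_option maxRecDepth 1000000

namespace Cfsg.Agent.H23

open Cfsg.Lie

/-- Bit mask of the positive roots of type D4. -/
def pmD4 : ℕ := 16773120

theorem pmD4_ok : ∀ s < chevD4.nroots, (tb pmD4 s = true ↔ chevD4.IsPosRoot s) := by decide +kernel

/-- The chain of subsets of fundamental reflections of type D4. -/
def wJD4_0 : List ℕ := [0, 1, 2, 3]

/-- Level 1 of the chain of type D4: 8 coset representatives. -/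
def wJD4_1 : List ℕ := [1, 2, 3]

/-- Bit mask of the roots of the subsystem at level 1 of type D4. -/
def qmD4_1 : ℕ := 262080

/-- Packed coset representatives at level 1 of type D4. -/
def wUD4_1 : List ℕ := [566073426779046459040877649791461066728553822781039575296, 565592643864087472290204273757603651193062799363369534976, 541071588363903700943283858585254758103210847676006008321, 491839046668866967525129721356063660621451894724370434051, 516455877271512432647930780239236669359234506711202662146, 467223335576475699229776643010045571877475553759567087876, 442223375248316117244176840918139260137695490883323956741, 122983519833541283103520991599571938277842329370686198546]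

/-- Parents of the coset representatives at level 1 of type D4. -/
def wParD4_1 : List ℕ := [0, 0, 1, 2, 2, 3, 5, 6]

/-- Generators leading to the coset representatives at level 1 of type D4. -/
def wGenD4_1 : List ℕ := [0, 0, 1, 2, 3, 3, 1, 0]

/-- Action of the generators on the cosets at level 1 of type D4. -/
def wNxtD4_1 : List (List ℕ) := [[1, 0, 9, 9, 9, 9, 7, 6], [9, 2, 1, 10, 11, 6, 5, 9], [10, 10, 3, 2, 5, 4, 11, 11], [11, 11, 4, 5, 2, 3, 10, 10]]

/-- Lengths of the coset representatives at level 1 of type D4. -/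
def wLenD4_1 : List ℕ := [0, 1, 2, 3, 3, 4, 5, 6]

theorem wD4_1_Jlt : ∀ j ∈ wJD4_0, j < chevD4.rank := by decide

theorem wD4_1_sub : ∀ j ∈ wJD4_1, j ∈ wJD4_0 := by decide

theorem wD4_1_qm : ∀ s < chevD4.nroots, (tb qmD4_1 s = true ↔ inSub chevD4 wJD4_1 s) := by decide +kernel

theorem wD4_1_rpos : 0 < wUD4_1.length := by decide

theorem wD4_1_id0 : idEq (wUD4_1.getD 0 0) chevD4.nroots = true := by decide +kernel

theorem wD4_1_tree : ∀ a < wUD4_1.length, a = 0 ∨ (wParD4_1.getD a 0 < a ∧ wGenD4_1.getD a 0 ∈ wJD4_0 ∧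
    compEq (rTD4.getD (wGenD4_1.getD a 0) 0) (wUD4_1.getD (wParD4_1.getD a 0) 0) (wUD4_1.getD a 0) chevD4.nroots = true) := by
  decide +kernel

theorem wD4_1_clos : ∀ j ∈ wJD4_0, ∀ a < wUD4_1.length,
    closOne rTD4 wJD4_1 wUD4_1 chevD4.nroots j a ((wNxtD4_1.getD j []).getD a 0) = true := by decide +kernel

theorem wD4_1_posJ : ∀ a < wUD4_1.length, posOK pmD4 qmD4_1 (wUD4_1.getD a 0) chevD4.nroots = true := by decide +kernel

theorem wD4_1_nodup : ((List.range wUD4_1.length).map (fun a => maskT pmD4 qmD4_1 (wUD4_1.getD a 0) chevD4.nroots)).Nodup := by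
  decide +kernel

theorem wD4_1_len : (List.range wUD4_1.length).map (fun a => ellT pmD4 (wUD4_1.getD a 0) chevD4.nroots) = wLenD4_1 := by
  decide +kernel

theorem wD4_1_ok : LevelOK chevD4 rTD4 pmD4 qmD4_1 wJD4_0 wJD4_1 wUD4_1 wParD4_1 wGenD4_1 wNxtD4_1 where
  Jlt := wD4_1_Jlt
  sub := wD4_1_sub
  pmOK := pmD4_ok
  qmOK := wD4_1_qm
  rpos := wD4_1_rpos
  id0 := wD4_1_id0
  tree := wD4_1_tree
  clos := wD4_1_clos
  posJ := wD4_1_posJ
  nodup := wD4_1_nodup

/-- Level 2 of the chain of type D4: 4 coset representatives. -/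
def wJD4_2 : List ℕ := [1, 3]

/-- Bit mask of the roots of the subsystem at level 2 of type D4. -/
def qmD4_2 : ℕ := 56064

/-- Packed coset representatives at level 2 of type D4. -/
def wUD4_2 : List ℕ := [566073426779046459040877649791461066728553822781039575296, 565881119482020990812274433957960368099339668429056770816, 541360818145271287405210002820587615059322471851766383361, 516745108525844151679953876806063355221564466780040397826]

/-- Parents of the coset representatives at level 2 of type D4. -/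
def wParD4_2 : List ℕ := [0, 0, 1, 2]

/-- Generators leading to the coset representatives at level 2 of type D4. -/
def wGenD4_2 : List ℕ := [0, 2, 1, 3]

/-- Action of the generators on the cosets at level 2 of type D4. -/
def wNxtD4_2 : List (List ℕ) := [[], [5, 2, 1, 7], [1, 0, 5, 5], [7, 7, 3, 2]]

/-- Lengths of the coset representatives at level 2 of type D4. -/
def wLenD4_2 : List ℕ := [0, 1, 2, 3]

theorem wD4_2_Jlt : ∀ j ∈ wJD4_1, j < chevD4.rank := by decide

theorem wD4_2_sub : ∀ j ∈ wJD4_2, j ∈ wJD4_1 := by decide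

theorem wD4_2_qm : ∀ s < chevD4.nroots, (tb qmD4_2 s = true ↔ inSub chevD4 wJD4_2 s) := by decide +kernel

theorem wD4_2_rpos : 0 < wUD4_2.length := by decide

theorem wD4_2_id0 : idEq (wUD4_2.getD 0 0) chevD4.nroots = true := by decide +kernel

theorem wD4_2_tree : ∀ a < wUD4_2.length, a = 0 ∨ (wParD4_2.getD a 0 < a ∧ wGenD4_2.getD a 0 ∈ wJD4_1 ∧
    compEq (rTD4.getD (wGenD4_2.getD a 0) 0) (wUD4_2.getD (wParD4_2.getD a 0) 0) (wUD4_2.getD a 0) chevD4.nroots = true) := by
  decide +kernel

theorem wD4_2_clos : ∀ j ∈ wJD4_1, ∀ a < wUD4_2.length,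
    closOne rTD4 wJD4_2 wUD4_2 chevD4.nroots j a ((wNxtD4_2.getD j []).getD a 0) = true := by decide +kernel

theorem wD4_2_posJ : ∀ a < wUD4_2.length, posOK pmD4 qmD4_2 (wUD4_2.getD a 0) chevD4.nroots = true := by decide +kernel

theorem wD4_2_nodup : ((List.range wUD4_2.length).map (fun a => maskT pmD4 qmD4_2 (wUD4_2.getD a 0) chevD4.nroots)).Nodup := by
  decide +kernel

theorem wD4_2_len : (List.range wUD4_2.length).map (fun a => ellT pmD4 (wUD4_2.getD a 0) chevD4.nroots) = wLenD4_2 := by
  decide +kernel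

theorem wD4_2_ok : LevelOK chevD4 rTD4 pmD4 qmD4_2 wJD4_1 wJD4_2 wUD4_2 wParD4_2 wGenD4_2 wNxtD4_2 where
  Jlt := wD4_2_Jlt
  sub := wD4_2_sub
  pmOK := pmD4_ok
  qmOK := wD4_2_qm
  rpos := wD4_2_rpos
  id0 := wD4_2_id0
  tree := wD4_2_tree
  clos := wD4_2_clos
  posJ := wD4_2_posJ
  nodup := wD4_2_nodup

/-- Level 3 of the chain of type D4: 3 coset representatives. -/
def wJD4_3 : List ℕ := [3]

/-- Bit mask of the roots of the subsystem at level 3 of type D4. -/
def qmD4_3 : ℕ := 6144

/-- Packed coset representatives at level 3 of type D4. -/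
def wUD4_3 : List ℕ := [566073426779046459040877649791461066728553822781039575296, 541649279090809664310305499994679834166397163664360734721, 517129723119895175588394288273648390236729482356549812226]

/-- Parents of the coset representatives at level 3 of type D4. -/
def wParD4_3 : List ℕ := [0, 0, 1]

/-- Generators leading to the coset representatives at level 3 of type D4. -/
def wGenD4_3 : List ℕ := [0, 1, 3]

/-- Action of the generators on the cosets at level 3 of type D4. -/
def wNxtD4_3 : List (List ℕ) := [[], [1, 0, 6], [], [6, 2, 1]]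

/-- Lengths of the coset representatives at level 3 of type D4. -/
def wLenD4_3 : List ℕ := [0, 1, 2]

theorem wD4_3_Jlt : ∀ j ∈ wJD4_2, j < chevD4.rank := by decide

theorem wD4_3_sub : ∀ j ∈ wJD4_3, j ∈ wJD4_2 := by decide

theorem wD4_3_qm : ∀ s < chevD4.nroots, (tb qmD4_3 s = true ↔ inSub chevD4 wJD4_3 s) := by decide +kernel

theorem wD4_3_rpos : 0 < wUD4_3.length := by decide

theorem wD4_3_id0 : idEq (wUD4_3.getD 0 0) chevD4.nroots = true := by decide +kernel

theorem wD4_3_tree : ∀ a < wUD4_3.length, a = 0 ∨ (wParD4_3.getD a 0 < a ∧ wGenD4_3.getD a 0 ∈ wJD4_2 ∧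
    compEq (rTD4.getD (wGenD4_3.getD a 0) 0) (wUD4_3.getD (wParD4_3.getD a 0) 0) (wUD4_3.getD a 0) chevD4.nroots = true) := by
  decide +kernel

theorem wD4_3_clos : ∀ j ∈ wJD4_2, ∀ a < wUD4_3.length,
    closOne rTD4 wJD4_3 wUD4_3 chevD4.nroots j a ((wNxtD4_3.getD j []).getD a 0) = true := by decide +kernel

theorem wD4_3_posJ : ∀ a < wUD4_3.length, posOK pmD4 qmD4_3 (wUD4_3.getD a 0) chevD4.nroots = true := by decide +kernel

theorem wD4_3_nodup : ((List.range wUD4_3.length).map (fun a => maskT pmD4 qmD4_3 (wUD4_3.getD a 0) chevD4.nroots)).Nodup := by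
  decide +kernel

theorem wD4_3_len : (List.range wUD4_3.length).map (fun a => ellT pmD4 (wUD4_3.getD a 0) chevD4.nroots) = wLenD4_3 := by
  decide +kernel

theorem wD4_3_ok : LevelOK chevD4 rTD4 pmD4 qmD4_3 wJD4_2 wJD4_3 wUD4_3 wParD4_3 wGenD4_3 wNxtD4_3 where
  Jlt := wD4_3_Jlt
  sub := wD4_3_sub
  pmOK := pmD4_ok
  qmOK := wD4_3_qm
  rpos := wD4_3_rpos
  id0 := wD4_3_id0
  tree := wD4_3_tree
  clos := wD4_3_clos
  posJ := wD4_3_posJ
  nodup := wD4_3_nodup

/-- Level 4 of the chain of type D4: 2 coset representatives. -/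
def wJD4_4 : List ℕ := []

/-- Bit mask of the roots of the subsystem at level 4 of type D4. -/
def qmD4_4 : ℕ := 0

/-- Packed coset representatives at level 4 of type D4. -/
def wUD4_4 : List ℕ := [566073426779046459040877649791461066728553822781039575296, 565978018496368764364970633948976412520310965285293195776]

/-- Parents of the coset representatives at level 4 of type D4. -/
def wParD4_4 : List ℕ := [0, 0]

/-- Generators leading to the coset representatives at level 4 of type D4. -/
def wGenD4_4 : List ℕ := [0, 3]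

/-- Action of the generators on the cosets at level 4 of type D4. -/
def wNxtD4_4 : List (List ℕ) := [[], [], [], [1, 0]]

/-- Lengths of the coset representatives at level 4 of type D4. -/
def wLenD4_4 : List ℕ := [0, 1]

theorem wD4_4_Jlt : ∀ j ∈ wJD4_3, j < chevD4.rank := by decide

theorem wD4_4_sub : ∀ j ∈ wJD4_4, j ∈ wJD4_3 := by decide

theorem wD4_4_qm : ∀ s < chevD4.nroots, (tb qmD4_4 s = true ↔ inSub chevD4 wJD4_4 s) := by decide +kernel

theorem wD4_4_rpos : 0 < wUD4_4.length := by decide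

theorem wD4_4_id0 : idEq (wUD4_4.getD 0 0) chevD4.nroots = true := by decide +kernel

theorem wD4_4_tree : ∀ a < wUD4_4.length, a = 0 ∨ (wParD4_4.getD a 0 < a ∧ wGenD4_4.getD a 0 ∈ wJD4_3 ∧
    compEq (rTD4.getD (wGenD4_4.getD a 0) 0) (wUD4_4.getD (wParD4_4.getD a 0) 0) (wUD4_4.getD a 0) chevD4.nroots = true) := by
  decide +kernel

theorem wD4_4_clos : ∀ j ∈ wJD4_3, ∀ a < wUD4_4.length,
    closOne rTD4 wJD4_4 wUD4_4 chevD4.nroots j a ((wNxtD4_4.getD j []).getD a 0) = true := by decide +kernel

theorem wD4_4_posJ : ∀ a < wUD4_4.length, posOK pmD4 qmD4_4 (wUD4_4.getD a 0) chevD4.nroots = true := by decide +kernel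

theorem wD4_4_nodup : ((List.range wUD4_4.length).map (fun a => maskT pmD4 qmD4_4 (wUD4_4.getD a 0) chevD4.nroots)).Nodup := by
  decide +kernel

theorem wD4_4_len : (List.range wUD4_4.length).map (fun a => ellT pmD4 (wUD4_4.getD a 0) chevD4.nroots) = wLenD4_4 := by
  decide +kernel

theorem wD4_4_ok : LevelOK chevD4 rTD4 pmD4 qmD4_4 wJD4_3 wJD4_4 wUD4_4 wParD4_4 wGenD4_4 wNxtD4_4 where
  Jlt := wD4_4_Jlt
  sub := wD4_4_sub
  pmOK := pmD4_ok
  qmOK := wD4_4_qm
  rpos := wD4_4_rpos
  id0 := wD4_4_id0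
  tree := wD4_4_tree
  clos := wD4_4_clos
  posJ := wD4_4_posJ
  nodup := wD4_4_nodup

/-- The Poincaré sum of the Weyl group of type D4 as a product over the chain. -/
theorem weylSum_D4 (q : ℕ) : ∑ σ ∈ weylFin tab_D4, q ^ ell chevD4 σ =
    (wLenD4_1.map (fun k => q ^ k)).sum * (wLenD4_2.map (fun k => q ^ k)).sum * (wLenD4_3.map (fun k => q ^ k)).sum * (wLenD4_4.map (fun k => q ^ k)).sum := by
  have e0 : List.range chevD4.rank = wJD4_0 := by decide
  have e1 : wJD4_4 = [] := rfl
  rw [← poin_range, e0]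
  have h1 : ((List.range wUD4_1.length).map (fun a => q ^ ellT pmD4 (wUD4_1.getD a 0) chevD4.nroots)).sum =
      (wLenD4_1.map (fun k => q ^ k)).sum := map_pow_sum q _ _ _ wD4_1_len
  rw [(wD4_1_ok).sum tabT_D4 q, h1]
  have h2 : ((List.range wUD4_2.length).map (fun a => q ^ ellT pmD4 (wUD4_2.getD a 0) chevD4.nroots)).sum =
      (wLenD4_2.map (fun k => q ^ k)).sum := map_pow_sum q _ _ _ wD4_2_len
  rw [(wD4_2_ok).sum tabT_D4 q, h2]
  have h3 : ((List.range wUD4_3.length).map (fun a => q ^ ellT pmD4 (wUD4_3.getD a 0) chevD4.nroots)).sum =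
      (wLenD4_3.map (fun k => q ^ k)).sum := map_pow_sum q _ _ _ wD4_3_len
  rw [(wD4_3_ok).sum tabT_D4 q, h3]
  have h4 : ((List.range wUD4_4.length).map (fun a => q ^ ellT pmD4 (wUD4_4.getD a 0) chevD4.nroots)).sum =
      (wLenD4_4.map (fun k => q ^ k)).sum := map_pow_sum q _ _ _ wD4_4_len
  rw [(wD4_4_ok).sum tabT_D4 q, h4]
  rw [e1, poin_nil]
  simp only [mul_one, mul_assoc]

end Cfsg.Agent.H23
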