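import Cfsg.Agent.H23.WeylLevel
import Cfsg.Agent.H23.TabE6

set_option autoImplicit false
set_option maxRecDepth 1000000

namespace Cfsg.Agent.H23

open Cfsg.Lie

/-- Bit mask of the positive roots of type E6. -/
def pmE6 : ℕ := 4722366482800925736960

theorem pmE6_ok : ∀ s < chevE6.nroots, (tb pmE6 s = true ↔ chevE6.IsPosRoot s) := by decide +kernel

/-- The chain of subsets of fundamental reflections of type E6. -/
def wJE6_0 : List ℕ := [0, 1, 2, 3, 4, 5]

/-- Level 1 of the chain of type E6: 27 coset representatives. -/
def wJE6_1 : List ℕ := [1, 2, 3, 4, 5]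

/-- Bit mask of the roots of the subsystem at level 1 of type E6. -/
def qmE6_1 : ℕ := 72057594037862400

/-- Packed coset representatives at level 1 of type E6. -/
def wUE6_1 : List ℕ := [68860739535087804454153596932559672870373209444495796229207190580635315083870094936584515568054503444700903398640464230674619186175923474129218848011759691072083798584852736, 68860739535078100914596739045472550060558126031925906698557184978812794185875324317535844633006154102049939227231216439978584304288106533539790046234022772551535750302269696, 68860695135522808257361057987451698175533405471761757976349976478606868710698429109313445531598046029637118042379134903614241088945198375916547217091944406309431842198323456, 68856921057475895304635392595575169929884741249873368810256892157680763910560031222656872863473617105573915693424612301510905017087942357253327367167972178281085848344920576, 67890786503288429817754220623128488382279751810200670063301354374648276220232213611267374810602757991427810989561701941809152493630785318955045267297787815784249473659896321, 68853132352784527406901574787101836546084810363851403861870623560210365300785084250462177534945590278130307224951933456234334979775526599599145721343797419098936841960030976,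 67886997798597061920020402814655154998479820924178705114915085777177877610457266639072679482074731163984202521089023096532582456318369561300863621473613056602100467275006721, 68849343590732005209698811302764669247724225897121732449848375216651755404639998868735942860805977220142792376486724921630133015285430075722853629991245328248458334658036736, 66920833933534600324060233612832653182849606034637141778346540149027344717264623063882109692606160019502403128625022302773082924519387735744452452653633635440854014957716226, 67883209036544539722817639330317987700119236457449033702892837433619267714312181257346444807935118105996687672623814561928380491828273037424571530121060965751621959973012481, 64011108903769596265555700961942644730660943296160940134136183122238612415258914491999459995359801090839319468273507526882245930105948312136405596758290302541184207193376261, 66917045171482078126857470128495485884489021567907470366324291805468734821119537682155875018466546961514888280159813768168880960029291211868160361301081544590375507655721986, 53341954093336935279936392403944191527420569228292577973374344908194837598537358023351780164317194334383032181619281039537459604476032279811336209561101410386991138907296016,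 64007320141717074068352937477605477432300358829431268722113934778680002519113829110273225321220188032851804619808298992278043965615851788260113505405738211690705699891382021, 65950895991100062884728156337363504503404628111623703118712934211781237325414035511117352460796178219712203448512580466709709231466715675977791921172858192216915741827007491, 53338165331284413082733628919607024229059984761562906561352096564636227702392272641625545490177581276395517333154072504933257639985935755935044118208549319536512631605301776, 63041170961335058826223623686473496051215965373147501474502577184992505023408326939234702763549819291049119788161065690818872237053276252369745065277514859317245934062667526, 52372016150902397840604315128475042847975591305279139313740738970948730206686770470587022932507212534592832501506839203474085911423360220044675678080325967163052865776587281, 61101354217389787266561311469870902231946242915177693456028675263311840239258817941941981566762621719959794332835387689434984240685281003648245202980613702827898932417923336, 50432199406957126280942002911872449028705868847309331295266837049268065422537261473294301735720014963503507046181161202090197915055364971323175815783424810673705864131843091,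 58191584961711732876969198064999280550193791370205961835555982353099032218711006164458580897396947892128661589575789725127980206060333667667529851593316320205574630781291531, 43642737810399639598293992690925698740251692379718369143309913043330169791080900924170204008931454025206347407443595927083224918689190483475250932517707929341874090637269786, 47522429402453337189406185160283805805252651972610496517510197059175801960027374936889279005946409394476234309720293842122969268666081060318957973268014173362653428977243926, 39763044720675995852537392536603432737594074414376441956975727432761932571928789455223265721992796309320686403123079172678580302819376472528536125656865829995081795926761246, 36853216439041612801852075682947916512823438334199950893046781378184104660142509412158445570096648403602563032004017648840805365945602780528050515116425743241375772953748001, 34909610990405872646514559644625993436288145057054962797847051617825975452518190298031512090757815139571909591028846001059905195757547048488734750439942820870885276738135331, 33939687847374090160002785055526073588621618874341948852837005323598849162602301719320325797897583409992523004980258111499015700677858546434807374035433689605801277693437476]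

/-- Parents of the coset representatives at level 1 of type E6. -/
def wParE6_1 : List ℕ := [0, 0, 1, 2, 3, 3, 4, 5, 6, 6, 8, 8, 10, 10, 11, 12, 13, 15, 16, 17, 18, 19, 19, 21, 23, 24, 25]

/-- Generators leading to the coset representatives at level 1 of type E6. -/
def wGenE6_1 : List ℕ := [0, 0, 2, 3, 1, 4, 4, 5, 3, 5, 2, 5, 0, 5, 4, 5, 4, 4, 3, 3, 1, 1, 2, 2, 3, 4, 5]

/-- Action of the generators on the cosets at level 1 of type E6. -/
def wNxtE6_1 : List (List ℕ) := [[1, 0, 29, 29, 29, 29, 29, 29, 29, 29, 12, 29, 10, 15, 29, 13, 17, 16, 19, 18, 21, 20, 32, 32, 32, 32, 32], [28, 28, 28, 4, 3, 6, 5, 9, 31, 7, 31, 31, 31, 31, 31, 31, 31, 31, 20, 21, 18, 19, 23, 22, 29, 29, 29], [29, 2, 1, 30, 30, 30, 30, 30, 10, 30, 8, 13, 29, 11, 16, 29, 14, 29, 32, 22, 32, 23, 19, 21, 31, 31, 31], [30, 30, 3, 2, 28, 31, 8, 31, 6, 11, 30, 9, 30, 30, 32, 30, 18, 19, 16, 17, 31, 31, 29, 24, 23, 30, 30], [31, 31, 31, 5, 6, 3, 4, 32, 28, 32, 28, 14, 28, 16, 11, 17, 13, 15, 30, 30, 30, 30, 30, 30, 25, 24, 28], [32, 32, 32, 32, 32, 7, 9, 5, 11, 6, 13, 8, 15, 10, 28, 12, 28, 28, 28, 28, 28, 28, 28, 28, 28, 26, 25]]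

/-- Lengths of the coset representatives at level 1 of type E6. -/
def wLenE6_1 : List ℕ := [0, 1, 2, 3, 4, 4, 5, 5, 6, 6, 7, 7, 8, 8, 8, 9, 9, 10, 10, 11, 11, 12, 12, 13, 14, 15, 16]

theorem wE6_1_Jlt : ∀ j ∈ wJE6_0, j < chevE6.rank := by decide

theorem wE6_1_sub : ∀ j ∈ wJE6_1, j ∈ wJE6_0 := by decide

theorem wE6_1_qm : ∀ s < chevE6.nroots, (tb qmE6_1 s = true ↔ inSub chevE6 wJE6_1 s) := by decide +kernel

theorem wE6_1_rpos : 0 < wUE6_1.length := by decide

theorem wE6_1_id0 : idEq (wUE6_1.getD 0 0) chevE6.nroots = true := by decide +kernel

theorem wE6_1_tree : ∀ a < wUE6_1.length, a = 0 ∨ (wParE6_1.getD a 0 < a ∧ wGenE6_1.getD a 0 ∈ wJE6_0 ∧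
    compEq (rTE6.getD (wGenE6_1.getD a 0) 0) (wUE6_1.getD (wParE6_1.getD a 0) 0) (wUE6_1.getD a 0) chevE6.nroots = true) := by
  decide +kernel

theorem wE6_1_clos : ∀ j ∈ wJE6_0, ∀ a < wUE6_1.length,
    closOne rTE6 wJE6_1 wUE6_1 chevE6.nroots j a ((wNxtE6_1.getD j []).getD a 0) = true := by decide +kernel

theorem wE6_1_posJ : ∀ a < wUE6_1.length, posOK pmE6 qmE6_1 (wUE6_1.getD a 0) chevE6.nroots = true := by decide +kernel

theorem wE6_1_nodup : ((List.range wUE6_1.length).map (fun a => maskT pmE6 qmE6_1 (wUE6_1.getD a 0) chevE6.nroots)).Nodup := by
  decide +kernel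

theorem wE6_1_len : (List.range wUE6_1.length).map (fun a => ellT pmE6 (wUE6_1.getD a 0) chevE6.nroots) = wLenE6_1 := by
  decide +kernel

theorem wE6_1_ok : LevelOK chevE6 rTE6 pmE6 qmE6_1 wJE6_0 wJE6_1 wUE6_1 wParE6_1 wGenE6_1 wNxtE6_1 where
  Jlt := wE6_1_Jlt
  sub := wE6_1_sub
  pmOK := pmE6_ok
  qmOK := wE6_1_qm
  rpos := wE6_1_rpos
  id0 := wE6_1_id0
  tree := wE6_1_tree
  clos := wE6_1_clos
  posJ := wE6_1_posJ
  nodup := wE6_1_nodup

/-- Level 2 of the chain of type E6: 10 coset representatives. -/
def wJE6_2 : List ℕ := [1, 2, 3, 4]

/-- Bit mask of the roots of the subsystem at level 2 of type E6. -/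
def qmE6_2 : ℕ := 12910077840457728

/-- Packed coset representatives at level 2 of type E6. -/
def wUE6_2 : List ℕ := [68860739535087804454153596932559672870373209444495796229207190580635315083870094936584515568054503444700903398640464230674619186175923474129218848011759691072083798584852736, 68860739477726650154684651250440147524905899556371060941805998667168077050675229181777609482453672249988869994526207384147299178654162362870440666247900439482662894518272256, 68860724735909995204520841634226761575894190318403251737442972729014515811185719674202625265719871647035201886275281244262938744027543441754963733846900366831998408402862336, 68856950773708355099897517101129046299153003267563348633885590126051517695470148163604281347443185831405901910757844111984294431607479433243560657667464569662933092255597056, 67890816393176339823795735848349162507268001516910868877451028211203571980423026342177511612341085221051969845133243982181669936746214835891213974218497735532091138145190401, 68845584487553434928168369701691566759469515438457194336893429942260918316816332122295228349550119143985808323124040489204006739814590103236300237362285003990229010056873216,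 67879450107021419652066588448911682967581663383189928054812474297819193499024390832981867599517289828431353143201524424721481372487945774346544829431706889740276948663665921, 66913286127013468020650542369324479123021802011175668638476066772969703748778937695040541660547406090453901086788069664567720212774264698041818310360239186922692667765163266, 65943377726248231890572923663655931654658573993218682890107597556606469676356152616784528540598667929814986940894556034118872427093166916322005126407123838549571833508136451, 64973454641027495109800441023893523582756636143630959136869149221462774005398175387232674847586379912310406287882086653395120063520908711568765066063153414488699270056183556]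

/-- Parents of the coset representatives at level 2 of type E6. -/
def wParE6_2 : List ℕ := [0, 0, 1, 2, 3, 3, 4, 6, 7, 8]

/-- Generators leading to the coset representatives at level 2 of type E6. -/
def wGenE6_2 : List ℕ := [0, 5, 4, 3, 1, 2, 2, 3, 4, 5]

/-- Action of the generators on the cosets at level 2 of type E6. -/
def wNxtE6_2 : List (List ℕ) := [[], [11, 11, 11, 4, 3, 6, 5, 12, 12, 12], [12, 12, 12, 5, 6, 3, 4, 11, 11, 11], [13, 13, 3, 2, 11, 12, 7, 6, 13, 13], [14, 2, 1, 13, 13, 13, 13, 8, 7, 14], [1, 0, 14, 14, 14, 14, 14, 14, 9, 8]]

/-- Lengths of the coset representatives at level 2 of type E6. -/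
def wLenE6_2 : List ℕ := [0, 1, 2, 3, 4, 4, 5, 6, 7, 8]

theorem wE6_2_Jlt : ∀ j ∈ wJE6_1, j < chevE6.rank := by decide

theorem wE6_2_sub : ∀ j ∈ wJE6_2, j ∈ wJE6_1 := by decide

theorem wE6_2_qm : ∀ s < chevE6.nroots, (tb qmE6_2 s = true ↔ inSub chevE6 wJE6_2 s) := by decide +kernel

theorem wE6_2_rpos : 0 < wUE6_2.length := by decide

theorem wE6_2_id0 : idEq (wUE6_2.getD 0 0) chevE6.nroots = true := by decide +kernel

theorem wE6_2_tree : ∀ a < wUE6_2.length, a = 0 ∨ (wParE6_2.getD a 0 < a ∧ wGenE6_2.getD a 0 ∈ wJE6_1 ∧
    compEq (rTE6.getD (wGenE6_2.getD a 0) 0) (wUE6_2.getD (wParE6_2.getD a 0) 0) (wUE6_2.getD a 0) chevE6.nroots = true) := by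
  decide +kernel

theorem wE6_2_clos : ∀ j ∈ wJE6_1, ∀ a < wUE6_2.length,
    closOne rTE6 wJE6_2 wUE6_2 chevE6.nroots j a ((wNxtE6_2.getD j []).getD a 0) = true := by decide +kernel

theorem wE6_2_posJ : ∀ a < wUE6_2.length, posOK pmE6 qmE6_2 (wUE6_2.getD a 0) chevE6.nroots = true := by decide +kernel

theorem wE6_2_nodup : ((List.range wUE6_2.length).map (fun a => maskT pmE6 qmE6_2 (wUE6_2.getD a 0) chevE6.nroots)).Nodup := by
  decide +kernel

theorem wE6_2_len : (List.range wUE6_2.length).map (fun a => ellT pmE6 (wUE6_2.getD a 0) chevE6.nroots) = wLenE6_2 := by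
  decide +kernel

theorem wE6_2_ok : LevelOK chevE6 rTE6 pmE6 qmE6_2 wJE6_1 wJE6_2 wUE6_2 wParE6_2 wGenE6_2 wNxtE6_2 where
  Jlt := wE6_2_Jlt
  sub := wE6_2_sub
  pmOK := pmE6_ok
  qmOK := wE6_2_qm
  rpos := wE6_2_rpos
  id0 := wE6_2_id0
  tree := wE6_2_tree
  clos := wE6_2_clos
  posJ := wE6_2_posJ
  nodup := wE6_2_nodup

/-- Level 3 of the chain of type E6: 8 coset representatives. -/
def wJE6_3 : List ℕ := [2, 3, 4]

/-- Bit mask of the roots of the subsystem at level 3 of type E6. -/
def qmE6_3 : ℕ := 32597593817088

/-- Packed coset representatives at level 3 of type E6. -/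
def wUE6_3 : List ℕ := [68860739535087804454153596932559672870373209444495796229207190580635315083870094936584515568054503444700903398640464230674619186175923474129218848011759691072083798584852736, 67898379116758311409174261616388753868225998791303625563428882050626415270252589797741478371984307561973422256644613195820774439032392954730690482532434882508821640184463361, 66932259478044711890533054053833686902885781095349477362187133220192043064948140997423104460762749410410289992403434828488233522530186973930933149653915422876476988633186306, 64033856162351277434672808942653189734878618509666449044368543092714410320216265190185166385109402365878426395895921010463175396598766649471294489543136349187207945298968581, 65966125154875615167003620549298271043934935646421018876232776050804663233705114482439974988764462348651982245301809890647176210040804572472694995705223560590659078022299651, 63067721839182180711143375438117773875927773060737990558414185923327030488973238675202036913111115304120118648794296072622118084109384248013056335594444486901390034688081926, 61135438335182945064992928207616709659860702680906169483685200757760291298580281287683064456716262390906934250996238287473477698995130040067760830387015376771968576495157256,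 58233261229820342655871392239888122728319935626114948672511631735051953655514436084425176755450760689456056394541316481191251606301301570812632021143090960871723493471944971]

/-- Parents of the coset representatives at level 3 of type E6. -/
def wParE6_3 : List ℕ := [0, 0, 1, 2, 2, 3, 5, 6]

/-- Generators leading to the coset representatives at level 3 of type E6. -/
def wGenE6_3 : List ℕ := [0, 1, 3, 2, 4, 4, 3, 1]

/-- Action of the generators on the cosets at level 3 of type E6. -/
def wNxtE6_3 : List (List ℕ) := [[], [1, 0, 11, 11, 11, 11, 7, 6], [10, 10, 3, 2, 5, 4, 12, 12], [11, 2, 1, 10, 12, 6, 5, 11], [12, 12, 4, 5, 2, 3, 10, 10], []]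

/-- Lengths of the coset representatives at level 3 of type E6. -/
def wLenE6_3 : List ℕ := [0, 1, 2, 3, 3, 4, 5, 6]

theorem wE6_3_Jlt : ∀ j ∈ wJE6_2, j < chevE6.rank := by decide

theorem wE6_3_sub : ∀ j ∈ wJE6_3, j ∈ wJE6_2 := by decide

theorem wE6_3_qm : ∀ s < chevE6.nroots, (tb qmE6_3 s = true ↔ inSub chevE6 wJE6_3 s) := by decide +kernel

theorem wE6_3_rpos : 0 < wUE6_3.length := by decide

theorem wE6_3_id0 : idEq (wUE6_3.getD 0 0) chevE6.nroots = true := by decide +kernel

theorem wE6_3_tree : ∀ a < wUE6_3.length, a = 0 ∨ (wParE6_3.getD a 0 < a ∧ wGenE6_3.getD a 0 ∈ wJE6_2 ∧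
    compEq (rTE6.getD (wGenE6_3.getD a 0) 0) (wUE6_3.getD (wParE6_3.getD a 0) 0) (wUE6_3.getD a 0) chevE6.nroots = true) := by
  decide +kernel

theorem wE6_3_clos : ∀ j ∈ wJE6_2, ∀ a < wUE6_3.length,
    closOne rTE6 wJE6_3 wUE6_3 chevE6.nroots j a ((wNxtE6_3.getD j []).getD a 0) = true := by decide +kernel

theorem wE6_3_posJ : ∀ a < wUE6_3.length, posOK pmE6 qmE6_3 (wUE6_3.getD a 0) chevE6.nroots = true := by decide +kernel

theorem wE6_3_nodup : ((List.range wUE6_3.length).map (fun a => maskT pmE6 qmE6_3 (wUE6_3.getD a 0) chevE6.nroots)).Nodup := by
  decide +kernel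

theorem wE6_3_len : (List.range wUE6_3.length).map (fun a => ellT pmE6 (wUE6_3.getD a 0) chevE6.nroots) = wLenE6_3 := by
  decide +kernel

theorem wE6_3_ok : LevelOK chevE6 rTE6 pmE6 qmE6_3 wJE6_2 wJE6_3 wUE6_3 wParE6_3 wGenE6_3 wNxtE6_3 where
  Jlt := wE6_3_Jlt
  sub := wE6_3_sub
  pmOK := pmE6_ok
  qmOK := wE6_3_qm
  rpos := wE6_3_rpos
  id0 := wE6_3_id0
  tree := wE6_3_tree
  clos := wE6_3_clos
  posJ := wE6_3_posJ
  nodup := wE6_3_nodup

/-- Level 4 of the chain of type E6: 4 coset representatives. -/
def wJE6_4 : List ℕ := [3, 4]

/-- Bit mask of the roots of the subsystem at level 4 of type E6. -/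
def qmE6_4 : ℕ := 1810328715264

/-- Packed coset representatives at level 4 of type E6. -/
def wUE6_4 : List ℕ := [68860739535087804454153596932559672870373209444495796229207190580635315083870094936584515568054503444700903398640464230674619186175923474129218848011759691072083798584852736, 68860695135535158216797058934368584078938789528211777354868258615236502524939434476014300653026239562496047166733737140692285179851664431971808751874688785261135318011412736, 68856921057489130849890324732878889770018775990781486464836665669743972493495178981995368028195660638024191505326398926778349063617440026429602733656793312561820312875106816, 68853132352798645092116221279771422902532154264480176760411242526499234434469268290997018570036030620990167522865301794158368538946919845419822096398481486820413881767559936]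

/-- Parents of the coset representatives at level 4 of type E6. -/
def wParE6_4 : List ℕ := [0, 0, 1, 2]

/-- Generators leading to the coset representatives at level 4 of type E6. -/
def wGenE6_4 : List ℕ := [0, 2, 3, 4]

/-- Action of the generators on the cosets at level 4 of type E6. -/
def wNxtE6_4 : List (List ℕ) := [[], [], [1, 0, 7, 7], [7, 2, 1, 8], [8, 8, 3, 2], []]

/-- Lengths of the coset representatives at level 4 of type E6. -/
def wLenE6_4 : List ℕ := [0, 1, 2, 3]

theorem wE6_4_Jlt : ∀ j ∈ wJE6_3, j < chevE6.rank := by decide

theorem wE6_4_sub : ∀ j ∈ wJE6_4, j ∈ wJE6_3 := by decide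

theorem wE6_4_qm : ∀ s < chevE6.nroots, (tb qmE6_4 s = true ↔ inSub chevE6 wJE6_4 s) := by decide +kernel

theorem wE6_4_rpos : 0 < wUE6_4.length := by decide

theorem wE6_4_id0 : idEq (wUE6_4.getD 0 0) chevE6.nroots = true := by decide +kernel

theorem wE6_4_tree : ∀ a < wUE6_4.length, a = 0 ∨ (wParE6_4.getD a 0 < a ∧ wGenE6_4.getD a 0 ∈ wJE6_3 ∧
    compEq (rTE6.getD (wGenE6_4.getD a 0) 0) (wUE6_4.getD (wParE6_4.getD a 0) 0) (wUE6_4.getD a 0) chevE6.nroots = true) := by
  decide +kernel

theorem wE6_4_clos : ∀ j ∈ wJE6_3, ∀ a < wUE6_4.length,
    closOne rTE6 wJE6_4 wUE6_4 chevE6.nroots j a ((wNxtE6_4.getD j []).getD a 0) = true := by decide +kernel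

theorem wE6_4_posJ : ∀ a < wUE6_4.length, posOK pmE6 qmE6_4 (wUE6_4.getD a 0) chevE6.nroots = true := by decide +kernel

theorem wE6_4_nodup : ((List.range wUE6_4.length).map (fun a => maskT pmE6 qmE6_4 (wUE6_4.getD a 0) chevE6.nroots)).Nodup := by
  decide +kernel

theorem wE6_4_len : (List.range wUE6_4.length).map (fun a => ellT pmE6 (wUE6_4.getD a 0) chevE6.nroots) = wLenE6_4 := by
  decide +kernel

theorem wE6_4_ok : LevelOK chevE6 rTE6 pmE6 qmE6_4 wJE6_3 wJE6_4 wUE6_4 wParE6_4 wGenE6_4 wNxtE6_4 where
  Jlt := wE6_4_Jlt
  sub := wE6_4_sub
  pmOK := pmE6_ok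
  qmOK := wE6_4_qm
  rpos := wE6_4_rpos
  id0 := wE6_4_id0
  tree := wE6_4_tree
  clos := wE6_4_clos
  posJ := wE6_4_posJ
  nodup := wE6_4_nodup

/-- Level 5 of the chain of type E6: 3 coset representatives. -/
def wJE6_5 : List ℕ := [4]

/-- Bit mask of the roots of the subsystem at level 5 of type E6. -/
def qmE6_5 : ℕ := 154618822656

/-- Packed coset representatives at level 5 of type E6. -/
def wUE6_5 : List ℕ := [68860739535087804454153596932559672870373209444495796229207190580635315083870094936584515568054503444700903398640464230674619186175923474129218848011759691072083798584852736, 68856980314703697980439144254334973515401028023823060939175680109056393390696631820261994746199928716884708600540244424635743493790229057459399689936210111163618278074548736, 68853206409864094301783886800624536368621796066536262252914948296810495803957805428781503176398872928352915302629126638923266893307774591594425130794137721043979546050757376]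

/-- Parents of the coset representatives at level 5 of type E6. -/
def wParE6_5 : List ℕ := [0, 0, 1]

/-- Generators leading to the coset representatives at level 5 of type E6. -/
def wGenE6_5 : List ℕ := [0, 3, 4]

/-- Action of the generators on the cosets at level 5 of type E6. -/
def wNxtE6_5 : List (List ℕ) := [[], [], [], [1, 0, 7], [7, 2, 1], []]

/-- Lengths of the coset representatives at level 5 of type E6. -/
def wLenE6_5 : List ℕ := [0, 1, 2]

theorem wE6_5_Jlt : ∀ j ∈ wJE6_4, j < chevE6.rank := by decide

theorem wE6_5_sub : ∀ j ∈ wJE6_5, j ∈ wJE6_4 := by decide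

theorem wE6_5_qm : ∀ s < chevE6.nroots, (tb qmE6_5 s = true ↔ inSub chevE6 wJE6_5 s) := by decide +kernel

theorem wE6_5_rpos : 0 < wUE6_5.length := by decide

theorem wE6_5_id0 : idEq (wUE6_5.getD 0 0) chevE6.nroots = true := by decide +kernel

theorem wE6_5_tree : ∀ a < wUE6_5.length, a = 0 ∨ (wParE6_5.getD a 0 < a ∧ wGenE6_5.getD a 0 ∈ wJE6_4 ∧
    compEq (rTE6.getD (wGenE6_5.getD a 0) 0) (wUE6_5.getD (wParE6_5.getD a 0) 0) (wUE6_5.getD a 0) chevE6.nroots = true) := by
  decide +kernel

theorem wE6_5_clos : ∀ j ∈ wJE6_4, ∀ a < wUE6_5.length,
    closOne rTE6 wJE6_5 wUE6_5 chevE6.nroots j a ((wNxtE6_5.getD j []).getD a 0) = true := by decide +kernel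

theorem wE6_5_posJ : ∀ a < wUE6_5.length, posOK pmE6 qmE6_5 (wUE6_5.getD a 0) chevE6.nroots = true := by decide +kernel

theorem wE6_5_nodup : ((List.range wUE6_5.length).map (fun a => maskT pmE6 qmE6_5 (wUE6_5.getD a 0) chevE6.nroots)).Nodup := by
  decide +kernel

theorem wE6_5_len : (List.range wUE6_5.length).map (fun a => ellT pmE6 (wUE6_5.getD a 0) chevE6.nroots) = wLenE6_5 := by
  decide +kernel

theorem wE6_5_ok : LevelOK chevE6 rTE6 pmE6 qmE6_5 wJE6_4 wJE6_5 wUE6_5 wParE6_5 wGenE6_5 wNxtE6_5 where
  Jlt := wE6_5_Jlt
  sub := wE6_5_sub
  pmOK := pmE6_ok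
  qmOK := wE6_5_qm
  rpos := wE6_5_rpos
  id0 := wE6_5_id0
  tree := wE6_5_tree
  clos := wE6_5_clos
  posJ := wE6_5_posJ
  nodup := wE6_5_nodup

/-- Level 6 of the chain of type E6: 2 coset representatives. -/
def wJE6_6 : List ℕ := []

/-- Bit mask of the roots of the subsystem at level 6 of type E6. -/
def qmE6_6 : ℕ := 0

/-- Packed coset representatives at level 6 of type E6. -/
def wUE6_6 : List ℕ := [68860739535087804454153596932559672870373209444495796229207190580635315083870094936584515568054503444700903398640464230674619186175923474129218848011759691072083798584852736, 68860724850632303803458732998465812266828810094652722312245356555948991877575451183817923578624086719198522082862514929281160200302940551006277733868069131789022201037127936]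

/-- Parents of the coset representatives at level 6 of type E6. -/
def wParE6_6 : List ℕ := [0, 0]

/-- Generators leading to the coset representatives at level 6 of type E6. -/
def wGenE6_6 : List ℕ := [0, 4]

/-- Action of the generators on the cosets at level 6 of type E6. -/
def wNxtE6_6 : List (List ℕ) := [[], [], [], [], [1, 0], []]

/-- Lengths of the coset representatives at level 6 of type E6. -/
def wLenE6_6 : List ℕ := [0, 1]

theorem wE6_6_Jlt : ∀ j ∈ wJE6_5, j < chevE6.rank := by decide

theorem wE6_6_sub : ∀ j ∈ wJE6_6, j ∈ wJE6_5 := by decide

theorem wE6_6_qm : ∀ s < chevE6.nroots, (tb qmE6_6 s = true ↔ inSub chevE6 wJE6_6 s) := by decide +kernel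

theorem wE6_6_rpos : 0 < wUE6_6.length := by decide

theorem wE6_6_id0 : idEq (wUE6_6.getD 0 0) chevE6.nroots = true := by decide +kernel

theorem wE6_6_tree : ∀ a < wUE6_6.length, a = 0 ∨ (wParE6_6.getD a 0 < a ∧ wGenE6_6.getD a 0 ∈ wJE6_5 ∧
    compEq (rTE6.getD (wGenE6_6.getD a 0) 0) (wUE6_6.getD (wParE6_6.getD a 0) 0) (wUE6_6.getD a 0) chevE6.nroots = true) := by
  decide +kernel

theorem wE6_6_clos : ∀ j ∈ wJE6_5, ∀ a < wUE6_6.length,
    closOne rTE6 wJE6_6 wUE6_6 chevE6.nroots j a ((wNxtE6_6.getD j []).getD a 0) = true := by decide +kernel

theorem wE6_6_posJ : ∀ a < wUE6_6.length, posOK pmE6 qmE6_6 (wUE6_6.getD a 0) chevE6.nroots = true := by decide +kernel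

theorem wE6_6_nodup : ((List.range wUE6_6.length).map (fun a => maskT pmE6 qmE6_6 (wUE6_6.getD a 0) chevE6.nroots)).Nodup := by
  decide +kernel

theorem wE6_6_len : (List.range wUE6_6.length).map (fun a => ellT pmE6 (wUE6_6.getD a 0) chevE6.nroots) = wLenE6_6 := by
  decide +kernel

theorem wE6_6_ok : LevelOK chevE6 rTE6 pmE6 qmE6_6 wJE6_5 wJE6_6 wUE6_6 wParE6_6 wGenE6_6 wNxtE6_6 where
  Jlt := wE6_6_Jlt
  sub := wE6_6_sub
  pmOK := pmE6_ok
  qmOK := wE6_6_qm
  rpos := wE6_6_rpos
  id0 := wE6_6_id0
  tree := wE6_6_tree
  clos := wE6_6_clos
  posJ := wE6_6_posJ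
  nodup := wE6_6_nodup

/-- The Poincaré sum of the Weyl group of type E6 as a product over the chain. -/
theorem weylSum_E6 (q : ℕ) : ∑ σ ∈ weylFin tab_E6, q ^ ell chevE6 σ =
    (wLenE6_1.map (fun k => q ^ k)).sum * (wLenE6_2.map (fun k => q ^ k)).sum * (wLenE6_3.map (fun k => q ^ k)).sum * (wLenE6_4.map (fun k => q ^ k)).sum * (wLenE6_5.map (fun k => q ^ k)).sum * (wLenE6_6.map (fun k => q ^ k)).sum := by
  have e0 : List.range chevE6.rank = wJE6_0 := by decide
  have e1 : wJE6_6 = [] := rfl
  rw [← poin_range, e0]
  have h1 : ((List.range wUE6_1.length).map (fun a => q ^ ellT pmE6 (wUE6_1.getD a 0) chevE6.nroots)).sum =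
      (wLenE6_1.map (fun k => q ^ k)).sum := map_pow_sum q _ _ _ wE6_1_len
  rw [(wE6_1_ok).sum tabT_E6 q, h1]
  have h2 : ((List.range wUE6_2.length).map (fun a => q ^ ellT pmE6 (wUE6_2.getD a 0) chevE6.nroots)).sum =
      (wLenE6_2.map (fun k => q ^ k)).sum := map_pow_sum q _ _ _ wE6_2_len
  rw [(wE6_2_ok).sum tabT_E6 q, h2]
  have h3 : ((List.range wUE6_3.length).map (fun a => q ^ ellT pmE6 (wUE6_3.getD a 0) chevE6.nroots)).sum =
      (wLenE6_3.map (fun k => q ^ k)).sum := map_pow_sum q _ _ _ wE6_3_len
  rw [(wE6_3_ok).sum tabT_E6 q, h3]
  have h4 : ((List.range wUE6_4.length).map (fun a => q ^ ellT pmE6 (wUE6_4.getD a 0) chevE6.nroots)).sum =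
      (wLenE6_4.map (fun k => q ^ k)).sum := map_pow_sum q _ _ _ wE6_4_len
  rw [(wE6_4_ok).sum tabT_E6 q, h4]
  have h5 : ((List.range wUE6_5.length).map (fun a => q ^ ellT pmE6 (wUE6_5.getD a 0) chevE6.nroots)).sum =
      (wLenE6_5.map (fun k => q ^ k)).sum := map_pow_sum q _ _ _ wE6_5_len
  rw [(wE6_5_ok).sum tabT_E6 q, h5]
  have h6 : ((List.range wUE6_6.length).map (fun a => q ^ ellT pmE6 (wUE6_6.getD a 0) chevE6.nroots)).sum =
      (wLenE6_6.map (fun k => q ^ k)).sum := map_pow_sum q _ _ _ wE6_6_len
  rw [(wE6_6_ok).sum tabT_E6 q, h6]
  rw [e1, poin_nil]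
  simp only [mul_one, mul_assoc]

end Cfsg.Agent.H23
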