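import Cfsg.Agent.H23.WeylLevel
import Cfsg.Agent.H23.TabF4

set_option autoImplicit false
set_option maxRecDepth 1000000

namespace Cfsg.Agent.H23

open Cfsg.Lie

/-- Bit mask of the positive roots of type F4. -/
def pmF4 : ℕ := 281474959933440

theorem pmF4_ok : ∀ s < chevF4.nroots, (tb pmF4 s = true ↔ chevF4.IsPosRoot s) := by decide +kernel

/-- The chain of subsets of fundamental reflections of type F4. -/
def wJF4_0 : List ℕ := [0, 1, 2, 3]

/-- Level 1 of the chain of type F4: 24 coset representatives. -/
def wJF4_1 : List ℕ := [1, 2, 3]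

/-- Bit mask of the roots of the subsystem at level 1 of type F4. -/
def qmF4_1 : ℕ := 8589901824

/-- Packed coset representatives at level 1 of type F4. -/
def wUF4_1 : List ℕ := [7261724602192871032371426629144499313188398237866326995289386361499126946706998415489251315625387605373727486902528, 7261724565101152271001196648824430191705409898545041084742521782222439549395075633586971079114467536390968217567488, 7261719858841289605087396540417521525862667578151761015339826255811939738062164597854180763560115748146668454019328, 7261116274187404741581882089989982241012950948981437996855896407348526173554172833739220463514225364469699026682368, 7259913801857853297602721625892187476074779118354657454367778395094126963400898298175322197827845276553016701682688, 7107199829730185122631458384716903663019787480282518028020632122121972065297201107005450765122032381767294243963393, 7253274407758384399862032026663035553446900065980632858690771050929501419850513861990307270949750447046029825019648, 7105997357400633678652297920619108898081615649655737485532514109867572855143926571441552499435652293850611918963713,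 7099357963301164780911608321389956975453736597281712889855506765702947311593542135256537572557557464343625042300673, 6951482034512994916424375443507471262336565130098536211117913197135863960461305585043076523748389724616257647805698, 6944842640413526018683685844278319339708686077724511615440905852971238416910921148858061596870294895109270771142658, 6643653851749789083995252035585532137938509604217387003466288830362698365301168779680623825146779326837434664486148, 6633996525387487931033658496053474023097014526550085970144342276799549184074241596867876313900320716355223313323268, 4943959393415326440886341570552708227224821147791947168230265703255374998277447468146204031922581840094136632414223, 4940941507022466505466867223405861154477108768763781645286169439522474373747545332291958854714313665014527742579983, 6478872930078558475542957302384229464996786518624800224693349438291501147569394272096106460109195169047956225070853, 4785817911713537049976166029736616596376880760838495899835176601014426337242698007520189000923188117707260654327568, 6324355258720288737188281733317817535813881348973534675399601536296956672121822625713907301853438071130196377475078,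 4016235717129024608409655041600200735451208091323157010407109617089405381295374538440169750996996295684476167395093, 4631300240355267311621490460670204667193975591187230350541428699019881861795126361137989842667431019789500806731793, 3861718045770754870054979472533788806268302921671891461113361715094860905847802892057970592741239197766716319799318, 3398770974101823724314296812885794678547213996561625706668292167754444939880209548110924324731708882244388668840473, 2626194396826877247763404562151955946089412226208604512833912377590844766194902066027589447767760504401266581970718, 926500076498072446092013193185309317734775444005830538143479743825788745281975636915801571318801513419295859354153]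

/-- Parents of the coset representatives at level 1 of type F4. -/
def wParF4_1 : List ℕ := [0, 0, 1, 2, 3, 3, 4, 4, 6, 7, 8, 9, 10, 11, 12, 12, 14, 15, 16, 16, 18, 20, 21, 22]

/-- Generators leading to the coset representatives at level 1 of type F4. -/
def wGenF4_1 : List ℕ := [0, 0, 1, 2, 1, 3, 0, 3, 3, 2, 2, 1, 1, 0, 0, 2, 2, 3, 1, 3, 3, 2, 1, 0]

/-- Action of the generators on the cosets at level 1 of type F4. -/
def wNxtF4_1 : List (List ℕ) := [[1, 0, 25, 25, 6, 25, 4, 8, 7, 10, 9, 13, 14, 11, 12, 16, 15, 19, 25, 17, 25, 25, 23, 22], [25, 2, 1, 4, 3, 7, 25, 5, 25, 11, 12, 9, 10, 14, 13, 25, 18, 25, 16, 20, 19, 22, 21, 25], [26, 26, 3, 2, 26, 27, 26, 9, 10, 7, 8, 27, 15, 27, 16, 12, 14, 26, 27, 26, 21, 20, 26, 26], [27, 27, 27, 5, 7, 3, 8, 4, 6, 26, 26, 26, 26, 26, 26, 17, 19, 15, 20, 16, 18, 27, 27, 27]]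

/-- Lengths of the coset representatives at level 1 of type F4. -/
def wLenF4_1 : List ℕ := [0, 1, 2, 3, 4, 4, 5, 5, 6, 6, 7, 7, 8, 8, 9, 9, 10, 10, 11, 11, 12, 13, 14, 15]

theorem wF4_1_Jlt : ∀ j ∈ wJF4_0, j < chevF4.rank := by decide

theorem wF4_1_sub : ∀ j ∈ wJF4_1, j ∈ wJF4_0 := by decide

theorem wF4_1_qm : ∀ s < chevF4.nroots, (tb qmF4_1 s = true ↔ inSub chevF4 wJF4_1 s) := by decide +kernel

theorem wF4_1_rpos : 0 < wUF4_1.length := by decide

theorem wF4_1_id0 : idEq (wUF4_1.getD 0 0) chevF4.nroots = true := by decide +kernel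

theorem wF4_1_tree : ∀ a < wUF4_1.length, a = 0 ∨ (wParF4_1.getD a 0 < a ∧ wGenF4_1.getD a 0 ∈ wJF4_0 ∧
    compEq (rTF4.getD (wGenF4_1.getD a 0) 0) (wUF4_1.getD (wParF4_1.getD a 0) 0) (wUF4_1.getD a 0) chevF4.nroots = true) := by
  decide +kernel

theorem wF4_1_clos : ∀ j ∈ wJF4_0, ∀ a < wUF4_1.length,
    closOne rTF4 wJF4_1 wUF4_1 chevF4.nroots j a ((wNxtF4_1.getD j []).getD a 0) = true := by decide +kernel

theorem wF4_1_posJ : ∀ a < wUF4_1.length, posOK pmF4 qmF4_1 (wUF4_1.getD a 0) chevF4.nroots = true := by decide +kernel

theorem wF4_1_nodup : ((List.range wUF4_1.length).map (fun a => maskT pmF4 qmF4_1 (wUF4_1.getD a 0) chevF4.nroots)).Nodup := by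
  decide +kernel

theorem wF4_1_len : (List.range wUF4_1.length).map (fun a => ellT pmF4 (wUF4_1.getD a 0) chevF4.nroots) = wLenF4_1 := by
  decide +kernel

theorem wF4_1_ok : LevelOK chevF4 rTF4 pmF4 qmF4_1 wJF4_0 wJF4_1 wUF4_1 wParF4_1 wGenF4_1 wNxtF4_1 where
  Jlt := wF4_1_Jlt
  sub := wF4_1_sub
  pmOK := pmF4_ok
  qmOK := wF4_1_qm
  rpos := wF4_1_rpos
  id0 := wF4_1_id0
  tree := wF4_1_tree
  clos := wF4_1_clos
  posJ := wF4_1_posJ
  nodup := wF4_1_nodup

/-- Level 2 of the chain of type F4: 6 coset representatives. -/
def wJF4_2 : List ℕ := [1, 2]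

/-- Bit mask of the roots of the subsystem at level 2 of type F4. -/
def qmF4_2 : ℕ := 1515847680

/-- Packed coset representatives at level 2 of type F4. -/
def wUF4_2 : List ℕ := [7261724602192871032371426629144499313188398237866326995289386361499126946706998415489251315625387605373727486902528, 7108411742389255762021063953019659246634323563397623500971045033854480450961950488139841120255260502304031118589953, 6954500004191337232360819597951498879102528002055349823327631308914109720374505841029475291387403595679121308450818, 6646671830782006454987512495706130014975281201588391351697461782710486538052736688672081099149838696092916649099268, 6492755395570594207282826040461658667956468663989874659995543950184350219562995589827492418499885326417806057668613, 6338240081964878700268257906273867020191971730841003853592713508080887441746895239626946334036114136769352165359878]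

/-- Parents of the coset representatives at level 2 of type F4. -/
def wParF4_2 : List ℕ := [0, 0, 1, 2, 3, 4]

/-- Generators leading to the coset representatives at level 2 of type F4. -/
def wGenF4_2 : List ℕ := [0, 3, 2, 1, 2, 3]

/-- Action of the generators on the cosets at level 2 of type F4. -/
def wNxtF4_2 : List (List ℕ) := [[], [7, 7, 3, 2, 7, 7], [8, 2, 1, 4, 3, 8], [1, 0, 8, 8, 5, 4]]

/-- Lengths of the coset representatives at level 2 of type F4. -/
def wLenF4_2 : List ℕ := [0, 1, 2, 3, 4, 5]

theorem wF4_2_Jlt : ∀ j ∈ wJF4_1, j < chevF4.rank := by decide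

theorem wF4_2_sub : ∀ j ∈ wJF4_2, j ∈ wJF4_1 := by decide

theorem wF4_2_qm : ∀ s < chevF4.nroots, (tb qmF4_2 s = true ↔ inSub chevF4 wJF4_2 s) := by decide +kernel

theorem wF4_2_rpos : 0 < wUF4_2.length := by decide

theorem wF4_2_id0 : idEq (wUF4_2.getD 0 0) chevF4.nroots = true := by decide +kernel

theorem wF4_2_tree : ∀ a < wUF4_2.length, a = 0 ∨ (wParF4_2.getD a 0 < a ∧ wGenF4_2.getD a 0 ∈ wJF4_1 ∧
    compEq (rTF4.getD (wGenF4_2.getD a 0) 0) (wUF4_2.getD (wParF4_2.getD a 0) 0) (wUF4_2.getD a 0) chevF4.nroots = true) := by
  decide +kernel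

theorem wF4_2_clos : ∀ j ∈ wJF4_1, ∀ a < wUF4_2.length,
    closOne rTF4 wJF4_2 wUF4_2 chevF4.nroots j a ((wNxtF4_2.getD j []).getD a 0) = true := by decide +kernel

theorem wF4_2_posJ : ∀ a < wUF4_2.length, posOK pmF4 qmF4_2 (wUF4_2.getD a 0) chevF4.nroots = true := by decide +kernel

theorem wF4_2_nodup : ((List.range wUF4_2.length).map (fun a => maskT pmF4 qmF4_2 (wUF4_2.getD a 0) chevF4.nroots)).Nodup := by
  decide +kernel

theorem wF4_2_len : (List.range wUF4_2.length).map (fun a => ellT pmF4 (wUF4_2.getD a 0) chevF4.nroots) = wLenF4_2 := by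
  decide +kernel

theorem wF4_2_ok : LevelOK chevF4 rTF4 pmF4 qmF4_2 wJF4_1 wJF4_2 wUF4_2 wParF4_2 wGenF4_2 wNxtF4_2 where
  Jlt := wF4_2_Jlt
  sub := wF4_2_sub
  pmOK := pmF4_ok
  qmOK := wF4_2_qm
  rpos := wF4_2_rpos
  id0 := wF4_2_id0
  tree := wF4_2_tree
  clos := wF4_2_clos
  posJ := wF4_2_posJ
  nodup := wF4_2_nodup

/-- Level 3 of the chain of type F4: 4 coset representatives. -/
def wJF4_3 : List ℕ := [2]

/-- Bit mask of the roots of the subsystem at level 3 of type F4. -/
def qmF4_3 : ℕ := 37748736

/-- Packed coset representatives at level 3 of type F4. -/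
def wUF4_3 : List ℕ := [7261724602192871032371426629144499313188398237866326995289386361499126946706998415489251315625387605373727486902528, 7261719905179377314326951809577084366435515108925945206036271551105028264520922437528663364052125838431098365018368, 7261116329771580336972628030457453086086567568186383424097503663070172288458390046716066146233999923548288855638528, 7259913875969480098172468129047270134545879356524446259009406085958777896526523732052534421963243953478281371911168]

/-- Parents of the coset representatives at level 3 of type F4. -/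
def wParF4_3 : List ℕ := [0, 0, 1, 2]

/-- Generators leading to the coset representatives at level 3 of type F4. -/
def wGenF4_3 : List ℕ := [0, 1, 2, 1]

/-- Action of the generators on the cosets at level 3 of type F4. -/
def wNxtF4_3 : List (List ℕ) := [[], [1, 0, 3, 2], [6, 2, 1, 6], []]

/-- Lengths of the coset representatives at level 3 of type F4. -/
def wLenF4_3 : List ℕ := [0, 1, 2, 3]

theorem wF4_3_Jlt : ∀ j ∈ wJF4_2, j < chevF4.rank := by decide

theorem wF4_3_sub : ∀ j ∈ wJF4_3, j ∈ wJF4_2 := by decide

theorem wF4_3_qm : ∀ s < chevF4.nroots, (tb qmF4_3 s = true ↔ inSub chevF4 wJF4_3 s) := by decide +kernel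

theorem wF4_3_rpos : 0 < wUF4_3.length := by decide

theorem wF4_3_id0 : idEq (wUF4_3.getD 0 0) chevF4.nroots = true := by decide +kernel

theorem wF4_3_tree : ∀ a < wUF4_3.length, a = 0 ∨ (wParF4_3.getD a 0 < a ∧ wGenF4_3.getD a 0 ∈ wJF4_2 ∧
    compEq (rTF4.getD (wGenF4_3.getD a 0) 0) (wUF4_3.getD (wParF4_3.getD a 0) 0) (wUF4_3.getD a 0) chevF4.nroots = true) := by
  decide +kernel

theorem wF4_3_clos : ∀ j ∈ wJF4_2, ∀ a < wUF4_3.length,
    closOne rTF4 wJF4_3 wUF4_3 chevF4.nroots j a ((wNxtF4_3.getD j []).getD a 0) = true := by decide +kernel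

theorem wF4_3_posJ : ∀ a < wUF4_3.length, posOK pmF4 qmF4_3 (wUF4_3.getD a 0) chevF4.nroots = true := by decide +kernel

theorem wF4_3_nodup : ((List.range wUF4_3.length).map (fun a => maskT pmF4 qmF4_3 (wUF4_3.getD a 0) chevF4.nroots)).Nodup := by
  decide +kernel

theorem wF4_3_len : (List.range wUF4_3.length).map (fun a => ellT pmF4 (wUF4_3.getD a 0) chevF4.nroots) = wLenF4_3 := by
  decide +kernel

theorem wF4_3_ok : LevelOK chevF4 rTF4 pmF4 qmF4_3 wJF4_2 wJF4_3 wUF4_3 wParF4_3 wGenF4_3 wNxtF4_3 where
  Jlt := wF4_3_Jlt
  sub := wF4_3_sub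
  pmOK := pmF4_ok
  qmOK := wF4_3_qm
  rpos := wF4_3_rpos
  id0 := wF4_3_id0
  tree := wF4_3_tree
  clos := wF4_3_clos
  posJ := wF4_3_posJ
  nodup := wF4_3_nodup

/-- Level 4 of the chain of type F4: 2 coset representatives. -/
def wJF4_4 : List ℕ := []

/-- Bit mask of the roots of the subsystem at level 4 of type F4. -/
def qmF4_4 : ℕ := 0

/-- Packed coset representatives at level 4 of type F4. -/
def wUF4_4 : List ℕ := [7261724602192871032371426629144499313188398237866326995289386361499126946706998415489251315625387605373727486902528, 7261125723798567773061544950201179012210677350992756811983071709623601191490907863340615466535151168674041335710208]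

/-- Parents of the coset representatives at level 4 of type F4. -/
def wParF4_4 : List ℕ := [0, 0]

/-- Generators leading to the coset representatives at level 4 of type F4. -/
def wGenF4_4 : List ℕ := [0, 2]

/-- Action of the generators on the cosets at level 4 of type F4. -/
def wNxtF4_4 : List (List ℕ) := [[], [], [1, 0], []]

/-- Lengths of the coset representatives at level 4 of type F4. -/
def wLenF4_4 : List ℕ := [0, 1]

theorem wF4_4_Jlt : ∀ j ∈ wJF4_3, j < chevF4.rank := by decide

theorem wF4_4_sub : ∀ j ∈ wJF4_4, j ∈ wJF4_3 := by decide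

theorem wF4_4_qm : ∀ s < chevF4.nroots, (tb qmF4_4 s = true ↔ inSub chevF4 wJF4_4 s) := by decide +kernel

theorem wF4_4_rpos : 0 < wUF4_4.length := by decide

theorem wF4_4_id0 : idEq (wUF4_4.getD 0 0) chevF4.nroots = true := by decide +kernel

theorem wF4_4_tree : ∀ a < wUF4_4.length, a = 0 ∨ (wParF4_4.getD a 0 < a ∧ wGenF4_4.getD a 0 ∈ wJF4_3 ∧
    compEq (rTF4.getD (wGenF4_4.getD a 0) 0) (wUF4_4.getD (wParF4_4.getD a 0) 0) (wUF4_4.getD a 0) chevF4.nroots = true) := by
  decide +kernel

theorem wF4_4_clos : ∀ j ∈ wJF4_3, ∀ a < wUF4_4.length,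
    closOne rTF4 wJF4_4 wUF4_4 chevF4.nroots j a ((wNxtF4_4.getD j []).getD a 0) = true := by decide +kernel

theorem wF4_4_posJ : ∀ a < wUF4_4.length, posOK pmF4 qmF4_4 (wUF4_4.getD a 0) chevF4.nroots = true := by decide +kernel

theorem wF4_4_nodup : ((List.range wUF4_4.length).map (fun a => maskT pmF4 qmF4_4 (wUF4_4.getD a 0) chevF4.nroots)).Nodup := by
  decide +kernel

theorem wF4_4_len : (List.range wUF4_4.length).map (fun a => ellT pmF4 (wUF4_4.getD a 0) chevF4.nroots) = wLenF4_4 := by
  decide +kernel

theorem wF4_4_ok : LevelOK chevF4 rTF4 pmF4 qmF4_4 wJF4_3 wJF4_4 wUF4_4 wParF4_4 wGenF4_4 wNxtF4_4 where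
  Jlt := wF4_4_Jlt
  sub := wF4_4_sub
  pmOK := pmF4_ok
  qmOK := wF4_4_qm
  rpos := wF4_4_rpos
  id0 := wF4_4_id0
  tree := wF4_4_tree
  clos := wF4_4_clos
  posJ := wF4_4_posJ
  nodup := wF4_4_nodup

/-- The Poincaré sum of the Weyl group of type F4 as a product over the chain. -/
theorem weylSum_F4 (q : ℕ) : ∑ σ ∈ weylFin tab_F4, q ^ ell chevF4 σ =
    (wLenF4_1.map (fun k => q ^ k)).sum * (wLenF4_2.map (fun k => q ^ k)).sum * (wLenF4_3.map (fun k => q ^ k)).sum * (wLenF4_4.map (fun k => q ^ k)).sum := by
  have e0 : List.range chevF4.rank = wJF4_0 := by decide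
  have e1 : wJF4_4 = [] := rfl
  rw [← poin_range, e0]
  have h1 : ((List.range wUF4_1.length).map (fun a => q ^ ellT pmF4 (wUF4_1.getD a 0) chevF4.nroots)).sum =
      (wLenF4_1.map (fun k => q ^ k)).sum := map_pow_sum q _ _ _ wF4_1_len
  rw [(wF4_1_ok).sum tabT_F4 q, h1]
  have h2 : ((List.range wUF4_2.length).map (fun a => q ^ ellT pmF4 (wUF4_2.getD a 0) chevF4.nroots)).sum =
      (wLenF4_2.map (fun k => q ^ k)).sum := map_pow_sum q _ _ _ wF4_2_len
  rw [(wF4_2_ok).sum tabT_F4 q, h2]
  have h3 : ((List.range wUF4_3.length).map (fun a => q ^ ellT pmF4 (wUF4_3.getD a 0) chevF4.nroots)).sum =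
      (wLenF4_3.map (fun k => q ^ k)).sum := map_pow_sum q _ _ _ wF4_3_len
  rw [(wF4_3_ok).sum tabT_F4 q, h3]
  have h4 : ((List.range wUF4_4.length).map (fun a => q ^ ellT pmF4 (wUF4_4.getD a 0) chevF4.nroots)).sum =
      (wLenF4_4.map (fun k => q ^ k)).sum := map_pow_sum q _ _ _ wF4_4_len
  rw [(wF4_4_ok).sum tabT_F4 q, h4]
  rw [e1, poin_nil]
  simp only [mul_one, mul_assoc]

end Cfsg.Agent.H23
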