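import Cfsg.Agent.H23.WeylLevel
import Cfsg.Agent.H23.TabG2

set_option autoImplicit false
set_option maxRecDepth 1000000

namespace Cfsg.Agent.H23

open Cfsg.Lie

/-- Bit mask of the positive roots of type G2. -/
def pmG2 : ℕ := 4032

theorem pmG2_ok : ∀ s < chevG2.nroots, (tb pmG2 s = true ↔ chevG2.IsPosRoot s) := by decide +kernel

/-- The chain of subsets of fundamental reflections of type G2. -/
def wJG2_0 : List ℕ := [0, 1]

/-- Level 1 of the chain of type G2: 6 coset representatives. -/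
def wJG2_1 : List ℕ := [1]

/-- Bit mask of the roots of the subsystem at level 1 of type G2. -/
def qmG2_1 : ℕ := 96

/-- Packed coset representatives at level 1 of type G2. -/
def wUG2_1 : List ℕ := [3416467015609337987117220096, 3411626608196089407097472256, 3100927950116869625274959361, 1858138021934780561305831941, 1547439345480313544603339526, 309494528559154266863373066]

/-- Parents of the coset representatives at level 1 of type G2. -/
def wParG2_1 : List ℕ := [0, 0, 1, 2, 3, 4]

/-- Generators leading to the coset representatives at level 1 of type G2. -/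
def wGenG2_1 : List ℕ := [0, 0, 1, 0, 1, 0]

/-- Action of the generators on the cosets at level 1 of type G2. -/
def wNxtG2_1 : List (List ℕ) := [[1, 0, 3, 2, 5, 4], [7, 2, 1, 4, 3, 7]]

/-- Lengths of the coset representatives at level 1 of type G2. -/
def wLenG2_1 : List ℕ := [0, 1, 2, 3, 4, 5]

theorem wG2_1_Jlt : ∀ j ∈ wJG2_0, j < chevG2.rank := by decide

theorem wG2_1_sub : ∀ j ∈ wJG2_1, j ∈ wJG2_0 := by decide

theorem wG2_1_qm : ∀ s < chevG2.nroots, (tb qmG2_1 s = true ↔ inSub chevG2 wJG2_1 s) := by decide +kernel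

theorem wG2_1_rpos : 0 < wUG2_1.length := by decide

theorem wG2_1_id0 : idEq (wUG2_1.getD 0 0) chevG2.nroots = true := by decide +kernel

theorem wG2_1_tree : ∀ a < wUG2_1.length, a = 0 ∨ (wParG2_1.getD a 0 < a ∧ wGenG2_1.getD a 0 ∈ wJG2_0 ∧
    compEq (rTG2.getD (wGenG2_1.getD a 0) 0) (wUG2_1.getD (wParG2_1.getD a 0) 0) (wUG2_1.getD a 0) chevG2.nroots = true) := by
  decide +kernel

theorem wG2_1_clos : ∀ j ∈ wJG2_0, ∀ a < wUG2_1.length,
    closOne rTG2 wJG2_1 wUG2_1 chevG2.nroots j a ((wNxtG2_1.getD j []).getD a 0) = true := by decide +kernel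

theorem wG2_1_posJ : ∀ a < wUG2_1.length, posOK pmG2 qmG2_1 (wUG2_1.getD a 0) chevG2.nroots = true := by decide +kernel

theorem wG2_1_nodup : ((List.range wUG2_1.length).map (fun a => maskT pmG2 qmG2_1 (wUG2_1.getD a 0) chevG2.nroots)).Nodup := by
  decide +kernel

theorem wG2_1_len : (List.range wUG2_1.length).map (fun a => ellT pmG2 (wUG2_1.getD a 0) chevG2.nroots) = wLenG2_1 := by
  decide +kernel

theorem wG2_1_ok : LevelOK chevG2 rTG2 pmG2 qmG2_1 wJG2_0 wJG2_1 wUG2_1 wParG2_1 wGenG2_1 wNxtG2_1 where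
  Jlt := wG2_1_Jlt
  sub := wG2_1_sub
  pmOK := pmG2_ok
  qmOK := wG2_1_qm
  rpos := wG2_1_rpos
  id0 := wG2_1_id0
  tree := wG2_1_tree
  clos := wG2_1_clos
  posJ := wG2_1_posJ
  nodup := wG2_1_nodup

/-- Level 2 of the chain of type G2: 2 coset representatives. -/
def wJG2_2 : List ℕ := []

/-- Bit mask of the roots of the subsystem at level 2 of type G2. -/
def qmG2_2 : ℕ := 0

/-- Packed coset representatives at level 2 of type G2. -/
def wUG2_2 : List ℕ := [3416467015609337987117220096, 3108190913232640688152248321]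

/-- Parents of the coset representatives at level 2 of type G2. -/
def wParG2_2 : List ℕ := [0, 0]

/-- Generators leading to the coset representatives at level 2 of type G2. -/
def wGenG2_2 : List ℕ := [0, 1]

/-- Action of the generators on the cosets at level 2 of type G2. -/
def wNxtG2_2 : List (List ℕ) := [[], [1, 0]]

/-- Lengths of the coset representatives at level 2 of type G2. -/
def wLenG2_2 : List ℕ := [0, 1]

theorem wG2_2_Jlt : ∀ j ∈ wJG2_1, j < chevG2.rank := by decide

theorem wG2_2_sub : ∀ j ∈ wJG2_2, j ∈ wJG2_1 := by decide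

theorem wG2_2_qm : ∀ s < chevG2.nroots, (tb qmG2_2 s = true ↔ inSub chevG2 wJG2_2 s) := by decide +kernel

theorem wG2_2_rpos : 0 < wUG2_2.length := by decide

theorem wG2_2_id0 : idEq (wUG2_2.getD 0 0) chevG2.nroots = true := by decide +kernel

theorem wG2_2_tree : ∀ a < wUG2_2.length, a = 0 ∨ (wParG2_2.getD a 0 < a ∧ wGenG2_2.getD a 0 ∈ wJG2_1 ∧
    compEq (rTG2.getD (wGenG2_2.getD a 0) 0) (wUG2_2.getD (wParG2_2.getD a 0) 0) (wUG2_2.getD a 0) chevG2.nroots = true) := by
  decide +kernel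

theorem wG2_2_clos : ∀ j ∈ wJG2_1, ∀ a < wUG2_2.length,
    closOne rTG2 wJG2_2 wUG2_2 chevG2.nroots j a ((wNxtG2_2.getD j []).getD a 0) = true := by decide +kernel

theorem wG2_2_posJ : ∀ a < wUG2_2.length, posOK pmG2 qmG2_2 (wUG2_2.getD a 0) chevG2.nroots = true := by decide +kernel

theorem wG2_2_nodup : ((List.range wUG2_2.length).map (fun a => maskT pmG2 qmG2_2 (wUG2_2.getD a 0) chevG2.nroots)).Nodup := by
  decide +kernel

theorem wG2_2_len : (List.range wUG2_2.length).map (fun a => ellT pmG2 (wUG2_2.getD a 0) chevG2.nroots) = wLenG2_2 := by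
  decide +kernel

theorem wG2_2_ok : LevelOK chevG2 rTG2 pmG2 qmG2_2 wJG2_1 wJG2_2 wUG2_2 wParG2_2 wGenG2_2 wNxtG2_2 where
  Jlt := wG2_2_Jlt
  sub := wG2_2_sub
  pmOK := pmG2_ok
  qmOK := wG2_2_qm
  rpos := wG2_2_rpos
  id0 := wG2_2_id0
  tree := wG2_2_tree
  clos := wG2_2_clos
  posJ := wG2_2_posJ
  nodup := wG2_2_nodup

/-- The Poincaré sum of the Weyl group of type G2 as a product over the chain. -/
theorem weylSum_G2 (q : ℕ) : ∑ σ ∈ weylFin tab_G2, q ^ ell chevG2 σ =
    (wLenG2_1.map (fun k => q ^ k)).sum * (wLenG2_2.map (fun k => q ^ k)).sum := by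
  have e0 : List.range chevG2.rank = wJG2_0 := by decide
  have e1 : wJG2_2 = [] := rfl
  rw [← poin_range, e0]
  have h1 : ((List.range wUG2_1.length).map (fun a => q ^ ellT pmG2 (wUG2_1.getD a 0) chevG2.nroots)).sum =
      (wLenG2_1.map (fun k => q ^ k)).sum := map_pow_sum q _ _ _ wG2_1_len
  rw [(wG2_1_ok).sum tabT_G2 q, h1]
  have h2 : ((List.range wUG2_2.length).map (fun a => q ^ ellT pmG2 (wUG2_2.getD a 0) chevG2.nroots)).sum =
      (wLenG2_2.map (fun k => q ^ k)).sum := map_pow_sum q _ _ _ wG2_2_len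
  rw [(wG2_2_ok).sum tabT_G2 q, h2]
  rw [e1, poin_nil]
  simp only [mul_one, mul_assoc]

end Cfsg.Agent.H23
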