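import Cfsg.Agent.H23.UProd2
import Cfsg.Agent.H23.CommAllTab
import Cfsg.Agent.H23.LeviTab

set_option autoImplicit false
set_option maxRecDepth 100000

/-!
# Unique factorisation in `U` for the seven tabulated types (generated by scripts/gen_uprod.py)
-/

namespace Cfsg.Agent.H23

open Cfsg.Lie

/-- The positive roots of type G2 are the roots of index at least `nroots / 2`. -/
theorem tabHalf_G2 : ∀ r < chevG2.nroots, chevG2.IsPosRoot r ↔ chevG2.nroots / 2 ≤ r := by decide +kernel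

/-- A weight function of type G2 for which the positive roots are in lexicographic order. -/
def omLexG2 : List ℤ := [9, 14]

theorem htLex_G2_pos : ∀ r < chevG2.nroots, chevG2.nroots / 2 ≤ r → 0 < zRl omLexG2 ctblG2 chevG2.nroots r := by
  decide +kernel

theorem htLex_G2_mono : ∀ r < chevG2.nroots, chevG2.nroots / 2 ≤ r → ∀ s < chevG2.nroots, r < s →
    zRl omLexG2 ctblG2 chevG2.nroots r < zRl omLexG2 ctblG2 chevG2.nroots s := by decide +kernel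

theorem htLex_G2 : HtLex chevG2 (zRl omLexG2 ctblG2 chevG2.nroots) :=
  htLex_of chk_G2.admZ tabHalf_G2 htLex_G2_pos htLex_G2_mono

theorem tabCP_G2_rows : allFrom (cpRowF chevG2.nroots chFG2) (chevG2.nroots / 2) (chevG2.nroots - chevG2.nroots / 2) = true := by
  decide +kernel

theorem tabCP_G2 : TabCP chevG2 := tabCP_of chfOK_G2 tabHalf_G2 tabCP_G2_rows

/-- Bezout coefficients for the coroot coordinates of the positive roots of type G2. -/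
def bzG2 : List (List ℤ) := [[0, 1], [1, 0], [1, 0], [-1, 1], [0, 1], [1, 0]]

theorem bez_G2 : ∀ k < chevG2.nroots, chevG2.nroots / 2 ≤ k →
    ((List.range chevG2.rank).map fun i => bzF chevG2 bzG2 k i * (chevG2.coroot.getD k #[]).getD i 0).sum = 1 := by
  decide +kernel

/-- Unique factorisation in `U` for type G2. -/
theorem factor_G2 {F : Type*} [Field F] :
    (∀ g : GL chevG2.Idx F, g ∈ chevG2.posUnipotent F →
      ∃! t : ℕ → F, (∀ r, ¬ chevG2.IsPosRoot r → t r = 0) ∧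
        (g : Matrix chevG2.Idx chevG2.Idx F) = chevG2.wordMat F (chevG2.posRoots.map fun r => (r, t r))) ∧
    (∀ t : ℕ → F, ∃ g : GL chevG2.Idx F, g ∈ chevG2.posUnipotent F ∧
      (g : Matrix chevG2.Idx chevG2.Idx F) = chevG2.wordMat F (chevG2.posRoots.map fun r => (r, t r))) :=
  factor_of (chk_G2.sem F) tab_G2 tab2_G2 (fun r s hr hs h1 h2 => commAll_G2 r s hr hs h1 h2) tabCP_G2
    htLex_G2 (bzF chevG2 bzG2) (bez_of bzG2 tabHalf_G2 bez_G2)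

/-- The positive roots of type B2 are the roots of index at least `nroots / 2`. -/
theorem tabHalf_B2 : ∀ r < chevB2.nroots, chevB2.IsPosRoot r ↔ chevB2.nroots / 2 ≤ r := by decide +kernel

/-- A weight function of type B2 for which the positive roots are in lexicographic order. -/
def omLexB2 : List ℤ := [7, 8]

theorem htLex_B2_pos : ∀ r < chevB2.nroots, chevB2.nroots / 2 ≤ r → 0 < zRl omLexB2 ctblB2 chevB2.nroots r := by
  decide +kernel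

theorem htLex_B2_mono : ∀ r < chevB2.nroots, chevB2.nroots / 2 ≤ r → ∀ s < chevB2.nroots, r < s →
    zRl omLexB2 ctblB2 chevB2.nroots r < zRl omLexB2 ctblB2 chevB2.nroots s := by decide +kernel

theorem htLex_B2 : HtLex chevB2 (zRl omLexB2 ctblB2 chevB2.nroots) :=
  htLex_of chk_B2.admZ tabHalf_B2 htLex_B2_pos htLex_B2_mono

theorem tabCP_B2_rows : allFrom (cpRowF chevB2.nroots chFB2) (chevB2.nroots / 2) (chevB2.nroots - chevB2.nroots / 2) = true := by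
  decide +kernel

theorem tabCP_B2 : TabCP chevB2 := tabCP_of chfOK_B2 tabHalf_B2 tabCP_B2_rows

/-- Bezout coefficients for the coroot coordinates of the positive roots of type B2. -/
def bzB2 : List (List ℤ) := [[0, 1], [1, 0], [1, 0], [0, 1]]

theorem bez_B2 : ∀ k < chevB2.nroots, chevB2.nroots / 2 ≤ k →
    ((List.range chevB2.rank).map fun i => bzF chevB2 bzB2 k i * (chevB2.coroot.getD k #[]).getD i 0).sum = 1 := by
  decide +kernel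

/-- Unique factorisation in `U` for type B2. -/
theorem factor_B2 {F : Type*} [Field F] :
    (∀ g : GL chevB2.Idx F, g ∈ chevB2.posUnipotent F →
      ∃! t : ℕ → F, (∀ r, ¬ chevB2.IsPosRoot r → t r = 0) ∧
        (g : Matrix chevB2.Idx chevB2.Idx F) = chevB2.wordMat F (chevB2.posRoots.map fun r => (r, t r))) ∧
    (∀ t : ℕ → F, ∃ g : GL chevB2.Idx F, g ∈ chevB2.posUnipotent F ∧
      (g : Matrix chevB2.Idx chevB2.Idx F) = chevB2.wordMat F (chevB2.posRoots.map fun r => (r, t r))) :=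
  factor_of (chk_B2.sem F) tab_B2 tab2_B2 (fun r s hr hs h1 h2 => commAll_B2 r s hr hs h1 h2) tabCP_B2
    htLex_B2 (bzF chevB2 bzB2) (bez_of bzB2 tabHalf_B2 bez_B2)

/-- The positive roots of type D4 are the roots of index at least `nroots / 2`. -/
theorem tabHalf_D4 : ∀ r < chevD4.nroots, chevD4.IsPosRoot r ↔ chevD4.nroots / 2 ≤ r := by decide +kernel

/-- A weight function of type D4 for which the positive roots are in lexicographic order. -/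
def omLexD4 : List ℤ := [76, 98, 52, 50]

theorem htLex_D4_pos : ∀ r < chevD4.nroots, chevD4.nroots / 2 ≤ r → 0 < zRl omLexD4 ctblD4 chevD4.nroots r := by
  decide +kernel

theorem htLex_D4_mono : ∀ r < chevD4.nroots, chevD4.nroots / 2 ≤ r → ∀ s < chevD4.nroots, r < s →
    zRl omLexD4 ctblD4 chevD4.nroots r < zRl omLexD4 ctblD4 chevD4.nroots s := by decide +kernel

theorem htLex_D4 : HtLex chevD4 (zRl omLexD4 ctblD4 chevD4.nroots) :=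
  htLex_of chk_D4.admZ tabHalf_D4 htLex_D4_pos htLex_D4_mono

theorem tabCP_D4_rows : allFrom (cpRowF chevD4.nroots chFD4) (chevD4.nroots / 2) (chevD4.nroots - chevD4.nroots / 2) = true := by
  decide +kernel

theorem tabCP_D4 : TabCP chevD4 := tabCP_of chfOK_D4 tabHalf_D4 tabCP_D4_rows

/-- Bezout coefficients for the coroot coordinates of the positive roots of type D4. -/
def bzD4 : List (List ℤ) := [[0, 0, 0, 1], [0, 0, 1, 0], [0, 1, 0, 0], [0, 0, 0, 1], [0, 0, 1, 0], [0, 0, 0, 1], [1, 0, 0, 0], [0, 1, 0, 0], [0, 0, 0, 1], [0, 0, 1, 0], [0, 0, 0, 1], [0, 0, 0, 1]]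

theorem bez_D4 : ∀ k < chevD4.nroots, chevD4.nroots / 2 ≤ k →
    ((List.range chevD4.rank).map fun i => bzF chevD4 bzD4 k i * (chevD4.coroot.getD k #[]).getD i 0).sum = 1 := by
  decide +kernel

/-- Unique factorisation in `U` for type D4. -/
theorem factor_D4 {F : Type*} [Field F] :
    (∀ g : GL chevD4.Idx F, g ∈ chevD4.posUnipotent F →
      ∃! t : ℕ → F, (∀ r, ¬ chevD4.IsPosRoot r → t r = 0) ∧
        (g : Matrix chevD4.Idx chevD4.Idx F) = chevD4.wordMat F (chevD4.posRoots.map fun r => (r, t r))) ∧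
    (∀ t : ℕ → F, ∃ g : GL chevD4.Idx F, g ∈ chevD4.posUnipotent F ∧
      (g : Matrix chevD4.Idx chevD4.Idx F) = chevD4.wordMat F (chevD4.posRoots.map fun r => (r, t r))) :=
  factor_of (chk_D4.sem F) tab_D4 tab2_D4 (fun r s hr hs h1 h2 => commAll_D4 r s hr hs h1 h2) tabCP_D4
    htLex_D4 (bzF chevD4 bzD4) (bez_of bzD4 tabHalf_D4 bez_D4)

/-- The positive roots of type F4 are the roots of index at least `nroots / 2`. -/
theorem tabHalf_F4 : ∀ r < chevF4.nroots, chevF4.IsPosRoot r ↔ chevF4.nroots / 2 ≤ r := by decide +kernel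

/-- A weight function of type F4 for which the positive roots are in lexicographic order. -/
def omLexF4 : List ℤ := [336, 547, 733, 367]

theorem htLex_F4_pos : ∀ r < chevF4.nroots, chevF4.nroots / 2 ≤ r → 0 < zRl omLexF4 ctblF4 chevF4.nroots r := by
  decide +kernel

theorem htLex_F4_mono : ∀ r < chevF4.nroots, chevF4.nroots / 2 ≤ r → ∀ s < chevF4.nroots, r < s →
    zRl omLexF4 ctblF4 chevF4.nroots r < zRl omLexF4 ctblF4 chevF4.nroots s := by decide +kernel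

theorem htLex_F4 : HtLex chevF4 (zRl omLexF4 ctblF4 chevF4.nroots) :=
  htLex_of chk_F4.admZ tabHalf_F4 htLex_F4_pos htLex_F4_mono

theorem tabCP_F4_rows : allFrom (cpRowF chevF4.nroots chFF4) (chevF4.nroots / 2) (chevF4.nroots - chevF4.nroots / 2) = true := by
  decide +kernel

theorem tabCP_F4 : TabCP chevF4 := tabCP_of chfOK_F4 tabHalf_F4 tabCP_F4_rows

/-- Bezout coefficients for the coroot coordinates of the positive roots of type F4. -/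
def bzF4 : List (List ℤ) := [[0, 0, 0, 1], [0, 0, 1, 0], [0, 0, 0, 1], [0, 1, 0, 0], [0, 1, 0, 0], [0, 1, 0, 0], [0, 0, 1, 0], [0, 0, 0, 1], [0, 0, 0, 1], [1, 0, 0, 0], [0, 1, 0, 0], [0, 1, 0, 0], [0, 1, 0, 0], [1, 0, 0, 0], [1, 0, 0, 0], [1, 0, 0, 0], [1, 0, 0, 0], [0, 0, 1, 0], [0, 0, 0, 1], [0, 0, 0, 1], [-1, 1, 0, 0], [0, 0, 0, 1], [0, 0, 0, 1], [1, 0, 0, 0]]

theorem bez_F4 : ∀ k < chevF4.nroots, chevF4.nroots / 2 ≤ k →
    ((List.range chevF4.rank).map fun i => bzF chevF4 bzF4 k i * (chevF4.coroot.getD k #[]).getD i 0).sum = 1 := by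
  decide +kernel

/-- Unique factorisation in `U` for type F4. -/
theorem factor_F4 {F : Type*} [Field F] :
    (∀ g : GL chevF4.Idx F, g ∈ chevF4.posUnipotent F →
      ∃! t : ℕ → F, (∀ r, ¬ chevF4.IsPosRoot r → t r = 0) ∧
        (g : Matrix chevF4.Idx chevF4.Idx F) = chevF4.wordMat F (chevF4.posRoots.map fun r => (r, t r))) ∧
    (∀ t : ℕ → F, ∃ g : GL chevF4.Idx F, g ∈ chevF4.posUnipotent F ∧
      (g : Matrix chevF4.Idx chevF4.Idx F) = chevF4.wordMat F (chevF4.posRoots.map fun r => (r, t r))) :=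
  factor_of (chk_F4.sem F) tab_F4 tab2_F4 (fun r s hr hs h1 h2 => commAll_F4 r s hr hs h1 h2) tabCP_F4
    htLex_F4 (bzF chevF4 bzF4) (bez_of bzF4 tabHalf_F4 bez_F4)

/-- The positive roots of type E6 are the roots of index at least `nroots / 2`. -/
theorem tabHalf_E6 : ∀ r < chevE6.nroots, chevE6.IsPosRoot r ↔ chevE6.nroots / 2 ≤ r := by decide +kernel

/-- A weight function of type E6 for which the positive roots are in lexicographic order. -/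
def omLexE6 : List ℤ := [5298, 5163, 7524, 9558, 6381, 3192]

theorem htLex_E6_pos : ∀ r < chevE6.nroots, chevE6.nroots / 2 ≤ r → 0 < zRl omLexE6 ctblE6 chevE6.nroots r := by
  decide +kernel

theorem htLex_E6_mono : ∀ r < chevE6.nroots, chevE6.nroots / 2 ≤ r → ∀ s < chevE6.nroots, r < s →
    zRl omLexE6 ctblE6 chevE6.nroots r < zRl omLexE6 ctblE6 chevE6.nroots s := by decide +kernel

theorem htLex_E6 : HtLex chevE6 (zRl omLexE6 ctblE6 chevE6.nroots) :=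
  htLex_of chk_E6.admZ tabHalf_E6 htLex_E6_pos htLex_E6_mono

theorem tabCP_E6_rows : allFrom (cpRowF chevE6.nroots chFE6) (chevE6.nroots / 2) (chevE6.nroots - chevE6.nroots / 2) = true := by
  decide +kernel

theorem tabCP_E6 : TabCP chevE6 := tabCP_of chfOK_E6 tabHalf_E6 tabCP_E6_rows

/-- Bezout coefficients for the coroot coordinates of the positive roots of type E6. -/
def bzE6 : List (List ℤ) := [[0, 0, 0, 0, 0, 1], [0, 0, 0, 0, 1, 0], [0, 0, 0, 0, 0, 1], [0, 0, 0, 1, 0, 0], [0, 0, 0, 0, 1, 0], [0, 0, 0, 0, 0, 1], [0, 0, 1, 0, 0, 0], [0, 0, 0, 1, 0, 0], [0, 0, 0, 0, 1, 0], [0, 0, 0, 0, 0, 1], [0, 1, 0, 0, 0, 0], [0, 0, 0, 1, 0, 0], [0, 0, 0, 0, 1, 0], [0, 0, 0, 0, 0, 1], [0, 0, 0, 1, 0, 0], [0, 0, 0, 0, 1, 0], [0, 0, 0, 0, 0, 1], [0, 0, 0, 0, 1, 0], [0, 0, 0, 0, 0, 1], [0, 0, 0, 0, 0, 1], [1, 0, 0, 0, 0, 0], [0, 0, 1, 0, 0, 0], [0, 0, 0, 1, 0, 0], [0, 0,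 0, 0, 1, 0], [0, 0, 0, 0, 0, 1], [0, 0, 0, 1, 0, 0], [0, 0, 0, 0, 1, 0], [0, 0, 0, 0, 0, 1], [0, 0, 0, 0, 1, 0], [0, 0, 0, 0, 0, 1], [0, 0, 0, 0, 0, 1], [0, 0, 0, 0, 1, 0], [0, 0, 0, 0, 0, 1], [0, 0, 0, 0, 0, 1], [0, 0, 0, 0, 0, 1], [0, 0, 0, 0, 0, 1]]

theorem bez_E6 : ∀ k < chevE6.nroots, chevE6.nroots / 2 ≤ k →
    ((List.range chevE6.rank).map fun i => bzF chevE6 bzE6 k i * (chevE6.coroot.getD k #[]).getD i 0).sum = 1 := by
  decide +kernel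

/-- Unique factorisation in `U` for type E6. -/
theorem factor_E6 {F : Type*} [Field F] :
    (∀ g : GL chevE6.Idx F, g ∈ chevE6.posUnipotent F →
      ∃! t : ℕ → F, (∀ r, ¬ chevE6.IsPosRoot r → t r = 0) ∧
        (g : Matrix chevE6.Idx chevE6.Idx F) = chevE6.wordMat F (chevE6.posRoots.map fun r => (r, t r))) ∧
    (∀ t : ℕ → F, ∃ g : GL chevE6.Idx F, g ∈ chevE6.posUnipotent F ∧
      (g : Matrix chevE6.Idx chevE6.Idx F) = chevE6.wordMat F (chevE6.posRoots.map fun r => (r, t r))) :=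
  factor_of (chk_E6.sem F) tab_E6 tab2_E6 (fun r s hr hs h1 h2 => commAll_E6 r s hr hs h1 h2) tabCP_E6
    htLex_E6 (bzF chevE6 bzE6) (bez_of bzE6 tabHalf_E6 bez_E6)

/-- The positive roots of type E7 are the roots of index at least `nroots / 2`. -/
theorem tabHalf_E7 : ∀ r < chevE7.nroots, chevE7.IsPosRoot r ↔ chevE7.nroots / 2 ≤ r := by decide +kernel

/-- A weight function of type E7 for which the positive roots are in lexicographic order. -/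
def omLexE7 : List ℤ := [79922, 91133, 128594, 176016, 132055, 88044, 44023]

theorem htLex_E7_pos : ∀ r < chevE7.nroots, chevE7.nroots / 2 ≤ r → 0 < zRl omLexE7 ctblE7 chevE7.nroots r := by
  decide +kernel

theorem htLex_E7_mono : ∀ r < chevE7.nroots, chevE7.nroots / 2 ≤ r → ∀ s < chevE7.nroots, r < s →
    zRl omLexE7 ctblE7 chevE7.nroots r < zRl omLexE7 ctblE7 chevE7.nroots s := by decide +kernel

theorem htLex_E7 : HtLex chevE7 (zRl omLexE7 ctblE7 chevE7.nroots) :=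
  htLex_of chk_E7.admZ tabHalf_E7 htLex_E7_pos htLex_E7_mono

theorem tabCP_E7_rows : allFrom (cpRowF chevE7.nroots chFE7) (chevE7.nroots / 2) (chevE7.nroots - chevE7.nroots / 2) = true := by
  decide +kernel

theorem tabCP_E7 : TabCP chevE7 := tabCP_of chfOK_E7 tabHalf_E7 tabCP_E7_rows

/-- Bezout coefficients for the coroot coordinates of the positive roots of type E7. -/
def bzE7 : List (List ℤ) := [[0, 0, 0, 0, 0, 0, 1], [0, 0, 0, 0, 0, 1, 0], [0, 0, 0, 0, 0, 0, 1], [0, 0, 0, 0, 1, 0, 0], [0, 0, 0, 0, 0, 1, 0], [0, 0, 0, 0, 0, 0, 1], [0, 0, 0, 1, 0, 0, 0], [0, 0, 0, 0, 1, 0, 0], [0, 0, 0, 0, 0, 1, 0], [0, 0, 0, 0, 0, 0, 1], [0, 0, 1, 0, 0, 0, 0], [0, 0, 0, 1, 0, 0, 0], [0, 0, 0, 0, 1, 0, 0], [0, 0, 0, 0, 0, 1, 0], [0, 0, 0, 0, 0, 0, 1], [0, 1, 0, 0, 0, 0, 0], [0, 0, 0, 1, 0, 0, 0], [0, 0, 0, 0, 1, 0, 0], [0, 0, 0, 0, 0, 1, 0], [0, 0, 0, 0, 0, 0, 1], [0, 0,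 0, 1, 0, 0, 0], [0, 0, 0, 0, 1, 0, 0], [0, 0, 0, 0, 0, 1, 0], [0, 0, 0, 0, 0, 0, 1], [0, 0, 0, 0, 1, 0, 0], [0, 0, 0, 0, 0, 1, 0], [0, 0, 0, 0, 0, 0, 1], [0, 0, 0, 0, 0, 1, 0], [0, 0, 0, 0, 0, 0, 1], [0, 0, 0, 0, 0, 0, 1], [1, 0, 0, 0, 0, 0, 0], [0, 0, 1, 0, 0, 0, 0], [0, 0, 0, 1, 0, 0, 0], [0, 0, 0, 0, 1, 0, 0], [0, 0, 0, 0, 0, 1, 0], [0, 0, 0, 0, 0, 0, 1], [0, 0, 0, 1, 0, 0, 0], [0, 0, 0, 0, 1, 0, 0], [0, 0, 0, 0, 0, 1, 0], [0, 0, 0, 0, 0, 0, 1], [0, 0, 0, 0, 1, 0, 0], [0, 0, 0, 0, 0, 1, 0], [0, 0, 0, 0, 0, 0, 1], [0, 0, 0, 0, 0, 1, 0], [0, 0, 0, 0, 0, 0, 1], [0, 0, 0, 0, 0, 0, 1], [0, 0, 0, 0, 1, 0, 0], [0, 0, 0, 0, 0, 1, 0], [0, 0, 0, 0, 0, 0, 1], [0, 0, 0, 0, 0, 1, 0], [0, 0, 0, 0, 0, 0, 1], [0, 0, 0, 0, 0, 0, 1], [0, 0, 0, 0, 0, 1, 0], [0, 0, 0, 0, 0, 0, 1], [0, 0, 0, 0, 0, 0, 1], [0, 0, 0, 0, 0, 0, 1], [0, 0, 0, 0, 0, 1, 0], [0, 0, 0, 0, 0, 0, 1], [0,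 0, 0, 0, 0, 0, 1], [0, 0, 0, 0, 0, 0, 1], [0, 0, 0, 0, 0, 0, 1], [0, 0, 0, 0, 0, 0, 1], [0, 0, 0, 0, 0, 0, 1]]

theorem bez_E7 : ∀ k < chevE7.nroots, chevE7.nroots / 2 ≤ k →
    ((List.range chevE7.rank).map fun i => bzF chevE7 bzE7 k i * (chevE7.coroot.getD k #[]).getD i 0).sum = 1 := by
  decide +kernel

/-- Unique factorisation in `U` for type E7. -/
theorem factor_E7 {F : Type*} [Field F] :
    (∀ g : GL chevE7.Idx F, g ∈ chevE7.posUnipotent F →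
      ∃! t : ℕ → F, (∀ r, ¬ chevE7.IsPosRoot r → t r = 0) ∧
        (g : Matrix chevE7.Idx chevE7.Idx F) = chevE7.wordMat F (chevE7.posRoots.map fun r => (r, t r))) ∧
    (∀ t : ℕ → F, ∃ g : GL chevE7.Idx F, g ∈ chevE7.posUnipotent F ∧
      (g : Matrix chevE7.Idx chevE7.Idx F) = chevE7.wordMat F (chevE7.posRoots.map fun r => (r, t r))) :=
  factor_of (chk_E7.sem F) tab_E7 tab2_E7 (fun r s hr hs h1 h2 => commAll_E7 r s hr hs h1 h2) tabCP_E7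
    htLex_E7 (bzF chevE7 bzE7) (bez_of bzE7 tabHalf_E7 bez_E7)

/-- The positive roots of type E8 are the roots of index at least `nroots / 2`. -/
theorem tabHalf_E8 : ∀ r < chevE8.nroots, chevE8.IsPosRoot r ↔ chevE8.nroots / 2 ≤ r := by decide +kernel

/-- A weight function of type E8 for which the positive roots are in lexicographic order. -/
def omLexE8 : List ℤ := [4027144, 5267594, 7230745, 10417539, 8334338, 6250794, 4167201, 2083601]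

theorem htLex_E8_pos : ∀ r < chevE8.nroots, chevE8.nroots / 2 ≤ r → 0 < zRl omLexE8 ctblE8 chevE8.nroots r := by
  decide +kernel

theorem htLex_E8_mono : ∀ r < chevE8.nroots, chevE8.nroots / 2 ≤ r → ∀ s < chevE8.nroots, r < s →
    zRl omLexE8 ctblE8 chevE8.nroots r < zRl omLexE8 ctblE8 chevE8.nroots s := by decide +kernel

theorem htLex_E8 : HtLex chevE8 (zRl omLexE8 ctblE8 chevE8.nroots) :=
  htLex_of chk_E8.admZ tabHalf_E8 htLex_E8_pos htLex_E8_mono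

theorem tabCP_E8_rows : allFrom (cpRowF chevE8.nroots chFE8) (chevE8.nroots / 2) (chevE8.nroots - chevE8.nroots / 2) = true := by
  decide +kernel

theorem tabCP_E8 : TabCP chevE8 := tabCP_of chfOK_E8 tabHalf_E8 tabCP_E8_rows

/-- Bezout coefficients for the coroot coordinates of the positive roots of type E8. -/
def bzE8 : List (List ℤ) := [[0, 0, 0, 0, 0, 0, 0, 1], [0, 0, 0, 0, 0, 0, 1, 0], [0, 0, 0, 0, 0, 0, 0, 1], [0, 0, 0, 0, 0, 1, 0, 0], [0, 0, 0, 0, 0, 0, 1, 0], [0, 0, 0, 0, 0, 0, 0, 1], [0, 0, 0, 0, 1, 0, 0, 0], [0, 0, 0, 0, 0, 1, 0, 0], [0, 0, 0, 0, 0, 0, 1, 0], [0, 0, 0, 0, 0, 0, 0, 1], [0, 0, 0, 1, 0, 0, 0, 0], [0, 0, 0, 0, 1, 0, 0, 0], [0, 0, 0, 0, 0, 1, 0, 0], [0, 0, 0, 0, 0, 0, 1, 0], [0, 0, 0, 0, 0, 0, 0, 1], [0, 0, 1, 0, 0, 0, 0, 0], [0, 0, 0, 1, 0, 0, 0, 0], [0, 0, 0, 0, 1, 0, 0, 0], [0, 0, 0, 0, 0, 1, 0, 0], [0, 0, 0, 0, 0, 0, 1, 0], [0, 0,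 0, 0, 0, 0, 0, 1], [0, 1, 0, 0, 0, 0, 0, 0], [0, 0, 0, 1, 0, 0, 0, 0], [0, 0, 0, 0, 1, 0, 0, 0], [0, 0, 0, 0, 0, 1, 0, 0], [0, 0, 0, 0, 0, 0, 1, 0], [0, 0, 0, 0, 0, 0, 0, 1], [0, 0, 0, 1, 0, 0, 0, 0], [0, 0, 0, 0, 1, 0, 0, 0], [0, 0, 0, 0, 0, 1, 0, 0], [0, 0, 0, 0, 0, 0, 1, 0], [0, 0, 0, 0, 0, 0, 0, 1], [0, 0, 0, 0, 1, 0, 0, 0], [0, 0, 0, 0, 0, 1, 0, 0], [0, 0, 0, 0, 0, 0, 1, 0], [0, 0, 0, 0, 0, 0, 0, 1], [0, 0, 0, 0, 0, 1, 0, 0], [0, 0, 0, 0, 0, 0, 1, 0], [0, 0, 0, 0, 0, 0, 0, 1], [0, 0, 0, 0, 0, 0, 1, 0], [0, 0, 0, 0, 0, 0, 0, 1], [0, 0, 0, 0, 0, 0, 0, 1], [1, 0, 0, 0, 0, 0, 0, 0], [0, 0, 1, 0, 0, 0, 0, 0], [0, 0, 0, 1, 0, 0, 0, 0], [0, 0, 0, 0, 1, 0, 0, 0], [0, 0, 0, 0, 0, 1, 0, 0], [0, 0, 0, 0, 0, 0, 1, 0], [0, 0, 0, 0, 0, 0, 0, 1], [0, 0, 0, 1, 0, 0, 0, 0], [0, 0, 0, 0, 1, 0, 0, 0], [0, 0, 0, 0, 0, 1, 0, 0], [0, 0, 0, 0, 0, 0, 1, 0], [0, 0, 0, 0, 0, 0, 0,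 1], [0, 0, 0, 0, 1, 0, 0, 0], [0, 0, 0, 0, 0, 1, 0, 0], [0, 0, 0, 0, 0, 0, 1, 0], [0, 0, 0, 0, 0, 0, 0, 1], [0, 0, 0, 0, 0, 1, 0, 0], [0, 0, 0, 0, 0, 0, 1, 0], [0, 0, 0, 0, 0, 0, 0, 1], [0, 0, 0, 0, 0, 0, 1, 0], [0, 0, 0, 0, 0, 0, 0, 1], [0, 0, 0, 0, 0, 0, 0, 1], [0, 0, 0, 0, 1, 0, 0, 0], [0, 0, 0, 0, 0, 1, 0, 0], [0, 0, 0, 0, 0, 0, 1, 0], [0, 0, 0, 0, 0, 0, 0, 1], [0, 0, 0, 0, 0, 1, 0, 0], [0, 0, 0, 0, 0, 0, 1, 0], [0, 0, 0, 0, 0, 0, 0, 1], [0, 0, 0, 0, 0, 0, 1, 0], [0, 0, 0, 0, 0, 0, 0, 1], [0, 0, 0, 0, 0, 0, 0, 1], [0, 0, 0, 0, 0, 1, 0, 0], [0, 0, 0, 0, 0, 0, 1, 0], [0, 0, 0, 0, 0, 0, 0, 1], [0, 0, 0, 0, 0, 0, 1, 0], [0, 0, 0, 0, 0, 0, 0, 1], [0, 0, 0, 0, 0, 0, 0, 1], [0, 0, 0, 0, 0, 0, 1, 0], [0, 0, 0, 0, 0, 0, 0, 1], [0, 0, 0, 0, 0, 0, 0, 1], [0, 0, 0, 0, 0, 0, 0, 1], [0, 0, 0, 0, 0, 1, 0, 0], [0, 0, 0, 0, 0, 0, 1, 0], [0, 0, 0, 0, 0, 0, 0, 1], [0, 0, 0,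 0, 0, 0, 1, 0], [0, 0, 0, 0, 0, 0, 0, 1], [0, 0, 0, 0, 0, 0, 0, 1], [0, 0, 0, 0, 0, 0, 1, 0], [0, 0, 0, 0, 0, 0, 0, 1], [0, 0, 0, 0, 0, 0, 0, 1], [0, 0, 0, 0, 0, 0, 0, 1], [0, 0, 0, 0, 0, 0, 1, 0], [0, 0, 0, 0, 0, 0, 0, 1], [0, 0, 0, 0, 0, 0, 0, 1], [0, 0, 0, 0, 0, 0, 0, 1], [0, 0, 0, 0, 0, 0, 0, 1], [0, 0, 0, 0, 0, 0, 1, 0], [0, 0, 0, 0, 0, 0, 0, 1], [0, 0, 0, 0, 0, 0, 0, 1], [0, 0, 0, 0, 0, 0, 0, 1], [0, 0, 0, 0, 0, 0, 0, 1], [0, 0, 0, 0, 0, 0, 0, 1], [0, 0, 0, 0, 0, 0, 0, 1], [0, 0, 0, 0, 0, 0, 1, 0], [0, 0, 0, 0, 0, 0, 0, 1], [0, 0, 0, 0, 0, 0, 0, 1], [0, 0, 0, 0, 0, 0, 0, 1], [0, 0, 0, 0, 0, 0, 0, 1], [0, 0, 0, 0, 0, 0, 0, 1], [0, 0, 0, 0, 0, 0, 0, 1], [0, 0, 0, 0, 0, 0, 0, 1], [0, 0, 0, 0, 0, 0, 0, 1], [0, 0, 0, 0, 0, 0, 0, 1], [0, 0, 0, 0, 0, 0, 0, 1], [0, 0, 0, 0, 0, 0, 0, 1], [0, 0, 0, 0, 0, 0, 0, 1], [-1, 1, 0, 0, 0, 0, 0, 0]]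

theorem bez_E8 : ∀ k < chevE8.nroots, chevE8.nroots / 2 ≤ k →
    ((List.range chevE8.rank).map fun i => bzF chevE8 bzE8 k i * (chevE8.coroot.getD k #[]).getD i 0).sum = 1 := by
  decide +kernel

/-- Unique factorisation in `U` for type E8. -/
theorem factor_E8 {F : Type*} [Field F] :
    (∀ g : GL chevE8.Idx F, g ∈ chevE8.posUnipotent F →
      ∃! t : ℕ → F, (∀ r, ¬ chevE8.IsPosRoot r → t r = 0) ∧
        (g : Matrix chevE8.Idx chevE8.Idx F) = chevE8.wordMat F (chevE8.posRoots.map fun r => (r, t r))) ∧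
    (∀ t : ℕ → F, ∃ g : GL chevE8.Idx F, g ∈ chevE8.posUnipotent F ∧
      (g : Matrix chevE8.Idx chevE8.Idx F) = chevE8.wordMat F (chevE8.posRoots.map fun r => (r, t r))) :=
  factor_of (chk_E8.sem F) tab_E8 tab2_E8 (fun r s hr hs h1 h2 => commAll_E8 r s hr hs h1 h2) tabCP_E8
    htLex_E8 (bzF chevE8 bzE8) (bez_of bzE8 tabHalf_E8 bez_E8)

/-- Every element of `U` is uniquely a product of root elements over the positive roots in increasing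
order, and every such product lies in `U`. -/
theorem factor_all {F : Type*} [Field F] (D : ChevalleyDatum)
    (hD : D ∈ [chevG2, chevB2, chevD4, chevF4, chevE6, chevE7, chevE8]) :
    (∀ g : GL D.Idx F, g ∈ D.posUnipotent F →
      ∃! t : ℕ → F, (∀ r, ¬ D.IsPosRoot r → t r = 0) ∧
        (g : Matrix D.Idx D.Idx F) = D.wordMat F (D.posRoots.map fun r => (r, t r))) ∧
    (∀ t : ℕ → F, ∃ g : GL D.Idx F, g ∈ D.posUnipotent F ∧
      (g : Matrix D.Idx D.Idx F) = D.wordMat F (D.posRoots.map fun r => (r, t r))) := by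
  simp only [List.mem_cons, List.not_mem_nil, or_false] at hD
  rcases hD with rfl | rfl | rfl | rfl | rfl | rfl | rfl
  · exact factor_G2
  · exact factor_B2
  · exact factor_D4
  · exact factor_F4
  · exact factor_E6
  · exact factor_E7
  · exact factor_E8

end Cfsg.Agent.H23
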