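import Cfsg.Agent.H23.Centr3
import Cfsg.Agent.H23.CommAllTab
import Cfsg.Agent.H23.UProdTab
import Cfsg.Agent.H23.CardU
import Cfsg.Agent.H23.OrdH

set_option autoImplicit false
set_option maxRecDepth 100000

/-!
# Centralizers of root involutions and pairs of highest-root subgroups: the tables
(generated by scripts/gen_centr.py)
-/

namespace Cfsg.Agent.H23

open Cfsg.Lie

theorem centr_E6_71_neg : chevE6.neg 71 = 0 := by decide +kernel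

theorem centr_E6_71_h3F : ∀ s < chevE6.nroots, (chevE6.nroots / 2 ≤ s ∨ s ∈ ([15, 29, 32, 34, 35] : List ℕ)) → s ≠ 71 →
    s ≠ 0 ∧ evenB (commTermsG (chainF chevE6.nroots chFE6) 71 s) = true := by decide +kernel

theorem centr_E6_71_h3 : ∀ s < chevE6.nroots, (chevE6.IsPosRoot s ∨ s ∈ ([15, 29, 32, 34, 35] : List ℕ)) → s ≠ 71 →
    s ≠ chevE6.neg 71 ∧ ∀ c ∈ chevE6.commTerms 71 s, (2 : ℤ) ∣ c.2.1 :=
  h3_of_fast chfOK_E6 tabHalf_E6 71 0 centr_E6_71_neg _ centr_E6_71_h3F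

theorem centr_E6_71_hL : ∀ s ∈ ([15, 29, 32, 34, 35] : List ℕ), s < chevE6.nroots := by decide

theorem centr_E6_71_h1 : ∀ i < chevE6.rank, chevE6.reflectRoot i 71 = 71 →
    chevE6.neg (chevE6.simple i) ∈ ([15, 29, 32, 34, 35] : List ℕ) := by decide +kernel

theorem centr_E6_71_h2 : ∀ j < chevE6.rank, zR chevE6 ctblE6 (chevE6.simple j) 71 = (if j = 1 then 1 else 0) ∧
    (j ≠ 1 → chevE6.neg (chevE6.simple j) ∈ ([15, 29, 32, 34, 35] : List ℕ)) := by decide +kernel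

/-- The centralizer of `x_71(1)` in type E6, characteristic two. -/
theorem centr_E6_71 {F : Type*} [Field F] [CharP F 2] (t : GL chevE6.Idx F)
    (ht : (t : Matrix chevE6.Idx chevE6.Idx F) = chevE6.x F 71 1) :
    chevE6.group F ⊓ Subgroup.centralizer {t} =
      rootGen chevE6 F (fun s => chevE6.IsPosRoot s ∨ s ∈ ([15, 29, 32, 34, 35] : List ℕ)) :=
  centralizer_root_eq (⟨chk_E6.sem F, nconj_E6.semN chk_E6.tblOK F, comm_E6.semC chk_E6.tblOK F, tab_E6, tabC_E6, etaNeg_E6, tab2_E6⟩ : PackB chevE6 F (zR chevE6 ctblE6) _) tabH_E6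
    (fun r s hr hs h1 h2 => commAll_E6 r s hr hs h1 h2) 71 (by decide) _ 1 (by decide)
    centr_E6_71_hL centr_E6_71_h1 centr_E6_71_h2 centr_E6_71_h3 t ht

theorem centr_E7_125_neg : chevE7.neg 125 = 0 := by decide +kernel

theorem centr_E7_125_h3F : ∀ s < chevE7.nroots, (chevE7.nroots / 2 ≤ s ∨ s ∈ ([47, 52, 56, 59, 61, 62] : List ℕ)) → s ≠ 125 →
    s ≠ 0 ∧ evenB (commTermsG (chainF chevE7.nroots chFE7) 125 s) = true := by decide +kernel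

theorem centr_E7_125_h3 : ∀ s < chevE7.nroots, (chevE7.IsPosRoot s ∨ s ∈ ([47, 52, 56, 59, 61, 62] : List ℕ)) → s ≠ 125 →
    s ≠ chevE7.neg 125 ∧ ∀ c ∈ chevE7.commTerms 125 s, (2 : ℤ) ∣ c.2.1 :=
  h3_of_fast chfOK_E7 tabHalf_E7 125 0 centr_E7_125_neg _ centr_E7_125_h3F

theorem centr_E7_125_hL : ∀ s ∈ ([47, 52, 56, 59, 61, 62] : List ℕ), s < chevE7.nroots := by decide

theorem centr_E7_125_h1 : ∀ i < chevE7.rank, chevE7.reflectRoot i 125 = 125 →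
    chevE7.neg (chevE7.simple i) ∈ ([47, 52, 56, 59, 61, 62] : List ℕ) := by decide +kernel

theorem centr_E7_125_h2 : ∀ j < chevE7.rank, zR chevE7 ctblE7 (chevE7.simple j) 125 = (if j = 0 then 1 else 0) ∧
    (j ≠ 0 → chevE7.neg (chevE7.simple j) ∈ ([47, 52, 56, 59, 61, 62] : List ℕ)) := by decide +kernel

/-- The centralizer of `x_125(1)` in type E7, characteristic two. -/
theorem centr_E7_125 {F : Type*} [Field F] [CharP F 2] (t : GL chevE7.Idx F)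
    (ht : (t : Matrix chevE7.Idx chevE7.Idx F) = chevE7.x F 125 1) :
    chevE7.group F ⊓ Subgroup.centralizer {t} =
      rootGen chevE7 F (fun s => chevE7.IsPosRoot s ∨ s ∈ ([47, 52, 56, 59, 61, 62] : List ℕ)) :=
  centralizer_root_eq (⟨chk_E7.sem F, nconj_E7.semN chk_E7.tblOK F, comm_E7.semC chk_E7.tblOK F, tab_E7, tabC_E7, etaNeg_E7, tab2_E7⟩ : PackB chevE7 F (zR chevE7 ctblE7) _) tabH_E7
    (fun r s hr hs h1 h2 => commAll_E7 r s hr hs h1 h2) 125 (by decide) _ 0 (by decide)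
    centr_E7_125_hL centr_E7_125_h1 centr_E7_125_h2 centr_E7_125_h3 t ht

theorem centr_E8_239_neg : chevE8.neg 239 = 0 := by decide +kernel

theorem centr_E8_239_h3F : ∀ s < chevE8.nroots, (chevE8.nroots / 2 ≤ s ∨ s ∈ ([77, 98, 104, 109, 113, 116, 118] : List ℕ)) → s ≠ 239 →
    s ≠ 0 ∧ evenB (commTermsG (chainF chevE8.nroots chFE8) 239 s) = true := by decide +kernel

theorem centr_E8_239_h3 : ∀ s < chevE8.nroots, (chevE8.IsPosRoot s ∨ s ∈ ([77, 98, 104, 109, 113, 116, 118] : List ℕ)) → s ≠ 239 →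
    s ≠ chevE8.neg 239 ∧ ∀ c ∈ chevE8.commTerms 239 s, (2 : ℤ) ∣ c.2.1 :=
  h3_of_fast chfOK_E8 tabHalf_E8 239 0 centr_E8_239_neg _ centr_E8_239_h3F

theorem centr_E8_239_hL : ∀ s ∈ ([77, 98, 104, 109, 113, 116, 118] : List ℕ), s < chevE8.nroots := by decide

theorem centr_E8_239_h1 : ∀ i < chevE8.rank, chevE8.reflectRoot i 239 = 239 →
    chevE8.neg (chevE8.simple i) ∈ ([77, 98, 104, 109, 113, 116, 118] : List ℕ) := by decide +kernel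

theorem centr_E8_239_h2 : ∀ j < chevE8.rank, zR chevE8 ctblE8 (chevE8.simple j) 239 = (if j = 7 then 1 else 0) ∧
    (j ≠ 7 → chevE8.neg (chevE8.simple j) ∈ ([77, 98, 104, 109, 113, 116, 118] : List ℕ)) := by decide +kernel

/-- The centralizer of `x_239(1)` in type E8, characteristic two. -/
theorem centr_E8_239 {F : Type*} [Field F] [CharP F 2] (t : GL chevE8.Idx F)
    (ht : (t : Matrix chevE8.Idx chevE8.Idx F) = chevE8.x F 239 1) :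
    chevE8.group F ⊓ Subgroup.centralizer {t} =
      rootGen chevE8 F (fun s => chevE8.IsPosRoot s ∨ s ∈ ([77, 98, 104, 109, 113, 116, 118] : List ℕ)) :=
  centralizer_root_eq (⟨chk_E8.sem F, nconj_E8.semN chk_E8.tblOK F, comm_E8.semC chk_E8.tblOK F, tab_E8, tabC_E8, etaNeg_E8, tab2_E8⟩ : PackB chevE8 F (zR chevE8 ctblE8) _) tabH_E8
    (fun r s hr hs h1 h2 => commAll_E8 r s hr hs h1 h2) 239 (by decide) _ 7 (by decide)
    centr_E8_239_hL centr_E8_239_h1 centr_E8_239_h2 centr_E8_239_h3 t ht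

theorem centr_F4_47_neg : chevF4.neg 47 = 0 := by decide +kernel

theorem centr_F4_47_h3F : ∀ s < chevF4.nroots, (chevF4.nroots / 2 ≤ s ∨ s ∈ ([14, 20, 22] : List ℕ)) → s ≠ 47 →
    s ≠ 0 ∧ evenB (commTermsG (chainF chevF4.nroots chFF4) 47 s) = true := by decide +kernel

theorem centr_F4_47_h3 : ∀ s < chevF4.nroots, (chevF4.IsPosRoot s ∨ s ∈ ([14, 20, 22] : List ℕ)) → s ≠ 47 →
    s ≠ chevF4.neg 47 ∧ ∀ c ∈ chevF4.commTerms 47 s, (2 : ℤ) ∣ c.2.1 :=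
  h3_of_fast chfOK_F4 tabHalf_F4 47 0 centr_F4_47_neg _ centr_F4_47_h3F

theorem centr_F4_47_hL : ∀ s ∈ ([14, 20, 22] : List ℕ), s < chevF4.nroots := by decide

theorem centr_F4_47_h1 : ∀ i < chevF4.rank, chevF4.reflectRoot i 47 = 47 →
    chevF4.neg (chevF4.simple i) ∈ ([14, 20, 22] : List ℕ) := by decide +kernel

theorem centr_F4_47_h2 : ∀ j < chevF4.rank, zR chevF4 ctblF4 (chevF4.simple j) 47 = (if j = 3 then 1 else 0) ∧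
    (j ≠ 3 → chevF4.neg (chevF4.simple j) ∈ ([14, 20, 22] : List ℕ)) := by decide +kernel

/-- The centralizer of `x_47(1)` in type F4, characteristic two. -/
theorem centr_F4_47 {F : Type*} [Field F] [CharP F 2] (t : GL chevF4.Idx F)
    (ht : (t : Matrix chevF4.Idx chevF4.Idx F) = chevF4.x F 47 1) :
    chevF4.group F ⊓ Subgroup.centralizer {t} =
      rootGen chevF4 F (fun s => chevF4.IsPosRoot s ∨ s ∈ ([14, 20, 22] : List ℕ)) :=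
  centralizer_root_eq (⟨chk_F4.sem F, nconj_F4.semN chk_F4.tblOK F, comm_F4.semC chk_F4.tblOK F, tab_F4, tabC_F4, etaNeg_F4, tab2_F4⟩ : PackB chevF4 F (zR chevF4 ctblF4) _) tabH_F4
    (fun r s hr hs h1 h2 => commAll_F4 r s hr hs h1 h2) 47 (by decide) _ 3 (by decide)
    centr_F4_47_hL centr_F4_47_h1 centr_F4_47_h2 centr_F4_47_h3 t ht

theorem centr_F4_44_neg : chevF4.neg 44 = 3 := by decide +kernel

theorem centr_F4_44_h3F : ∀ s < chevF4.nroots, (chevF4.nroots / 2 ≤ s ∨ s ∈ ([20, 22, 23] : List ℕ)) → s ≠ 44 →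
    s ≠ 3 ∧ evenB (commTermsG (chainF chevF4.nroots chFF4) 44 s) = true := by decide +kernel

theorem centr_F4_44_h3 : ∀ s < chevF4.nroots, (chevF4.IsPosRoot s ∨ s ∈ ([20, 22, 23] : List ℕ)) → s ≠ 44 →
    s ≠ chevF4.neg 44 ∧ ∀ c ∈ chevF4.commTerms 44 s, (2 : ℤ) ∣ c.2.1 :=
  h3_of_fast chfOK_F4 tabHalf_F4 44 3 centr_F4_44_neg _ centr_F4_44_h3F

theorem centr_F4_44_hL : ∀ s ∈ ([20, 22, 23] : List ℕ), s < chevF4.nroots := by decide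

theorem centr_F4_44_h1 : ∀ i < chevF4.rank, chevF4.reflectRoot i 44 = 44 →
    chevF4.neg (chevF4.simple i) ∈ ([20, 22, 23] : List ℕ) := by decide +kernel

theorem centr_F4_44_h2 : ∀ j < chevF4.rank, zR chevF4 ctblF4 (chevF4.simple j) 44 = (if j = 0 then 1 else 0) ∧
    (j ≠ 0 → chevF4.neg (chevF4.simple j) ∈ ([20, 22, 23] : List ℕ)) := by decide +kernel

/-- The centralizer of `x_44(1)` in type F4, characteristic two. -/
theorem centr_F4_44 {F : Type*} [Field F] [CharP F 2] (t : GL chevF4.Idx F)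
    (ht : (t : Matrix chevF4.Idx chevF4.Idx F) = chevF4.x F 44 1) :
    chevF4.group F ⊓ Subgroup.centralizer {t} =
      rootGen chevF4 F (fun s => chevF4.IsPosRoot s ∨ s ∈ ([20, 22, 23] : List ℕ)) :=
  centralizer_root_eq (⟨chk_F4.sem F, nconj_F4.semN chk_F4.tblOK F, comm_F4.semC chk_F4.tblOK F, tab_F4, tabC_F4, etaNeg_F4, tab2_F4⟩ : PackB chevF4 F (zR chevF4 ctblF4) _) tabH_F4
    (fun r s hr hs h1 h2 => commAll_F4 r s hr hs h1 h2) 44 (by decide) _ 0 (by decide)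
    centr_F4_44_hL centr_F4_44_h1 centr_F4_44_h2 centr_F4_44_h3 t ht

theorem centr_G2_11_neg : chevG2.neg 11 = 0 := by decide +kernel

theorem centr_G2_11_h3F : ∀ s < chevG2.nroots, (chevG2.nroots / 2 ≤ s ∨ s ∈ ([4] : List ℕ)) → s ≠ 11 →
    s ≠ 0 ∧ evenB (commTermsG (chainF chevG2.nroots chFG2) 11 s) = true := by decide +kernel

theorem centr_G2_11_h3 : ∀ s < chevG2.nroots, (chevG2.IsPosRoot s ∨ s ∈ ([4] : List ℕ)) → s ≠ 11 →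
    s ≠ chevG2.neg 11 ∧ ∀ c ∈ chevG2.commTerms 11 s, (2 : ℤ) ∣ c.2.1 :=
  h3_of_fast chfOK_G2 tabHalf_G2 11 0 centr_G2_11_neg _ centr_G2_11_h3F

theorem centr_G2_11_hL : ∀ s ∈ ([4] : List ℕ), s < chevG2.nroots := by decide

theorem centr_G2_11_h1 : ∀ i < chevG2.rank, chevG2.reflectRoot i 11 = 11 →
    chevG2.neg (chevG2.simple i) ∈ ([4] : List ℕ) := by decide +kernel

theorem centr_G2_11_h2 : ∀ j < chevG2.rank, zR chevG2 ctblG2 (chevG2.simple j) 11 = (if j = 1 then 1 else 0) ∧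
    (j ≠ 1 → chevG2.neg (chevG2.simple j) ∈ ([4] : List ℕ)) := by decide +kernel

/-- The centralizer of `x_11(1)` in type G2, characteristic two. -/
theorem centr_G2_11 {F : Type*} [Field F] [CharP F 2] (t : GL chevG2.Idx F)
    (ht : (t : Matrix chevG2.Idx chevG2.Idx F) = chevG2.x F 11 1) :
    chevG2.group F ⊓ Subgroup.centralizer {t} =
      rootGen chevG2 F (fun s => chevG2.IsPosRoot s ∨ s ∈ ([4] : List ℕ)) :=
  centralizer_root_eq (⟨chk_G2.sem F, nconj_G2.semN chk_G2.tblOK F, comm_G2.semC chk_G2.tblOK F, tab_G2, tabC_G2, etaNeg_G2, tab2_G2⟩ : PackB chevG2 F (zR chevG2 ctblG2) _) tabH_G2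
    (fun r s hr hs h1 h2 => commAll_G2 r s hr hs h1 h2) 11 (by decide) _ 1 (by decide)
    centr_G2_11_hL centr_G2_11_h1 centr_G2_11_h2 centr_G2_11_h3 t ht

theorem centr_D4_23_neg : chevD4.neg 23 = 0 := by decide +kernel

theorem centr_D4_23_h3F : ∀ s < chevD4.nroots, (chevD4.nroots / 2 ≤ s ∨ s ∈ ([] : List ℕ)) → s ≠ 23 →
    s ≠ 0 ∧ evenB (commTermsG (chainF chevD4.nroots chFD4) 23 s) = true := by decide +kernel

theorem centr_D4_23_h3 : ∀ s < chevD4.nroots, (chevD4.IsPosRoot s ∨ s ∈ ([] : List ℕ)) → s ≠ 23 →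
    s ≠ chevD4.neg 23 ∧ ∀ c ∈ chevD4.commTerms 23 s, (2 : ℤ) ∣ c.2.1 :=
  h3_of_fast chfOK_D4 tabHalf_D4 23 0 centr_D4_23_neg _ centr_D4_23_h3F

/-- For each root `s` other than the lowest one, a word of fundamental reflections making the highest root
and `s` both positive (type G2). -/
def certLG2 : List (List ℕ) := [[], [1, 0], [0, 1, 0], [0, 1], [0], [1], [], [], [], [], [], []]

theorem certF_G2 : ∀ s < chevG2.nroots, s ≠ 0 → (∀ i ∈ certLG2.getD s [], i < chevG2.rank) ∧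
    chevG2.nroots / 2 ≤ reflWT rTG2 (certLG2.getD s []) 11 ∧
    chevG2.nroots / 2 ≤ reflWT rTG2 (certLG2.getD s []) s := by decide +kernel

theorem pair_G2 {F : Type*} [Field F] [Fintype F] [CharP F 2] (g : GL chevG2.Idx F) (hg : g ∈ chevG2.group F) :
    IsPGroup 2 ↥(chevG2.rootSubgroup F 11 ⊔ (chevG2.rootSubgroup F 11).map (MulAut.conj g).toMonoidHom) ∨
    ∃ h ∈ chevG2.group F, (chevG2.rootSubgroup F 11 ⊔ (chevG2.rootSubgroup F 11).map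
      (MulAut.conj g).toMonoidHom).map (MulAut.conj h).toMonoidHom =
      chevG2.rootSubgroup F 11 ⊔ chevG2.rootSubgroup F 0 := by
  have hP := (⟨chk_G2.sem F, nconj_G2.semN chk_G2.tblOK F, comm_G2.semC chk_G2.tblOK F, tab_G2, tabC_G2, etaNeg_G2, tab2_G2⟩ : PackB chevG2 F (zR chevG2 ctblG2) _)
  have h := conj_pair hP (isPGroup_two_posUnipotent _ (card_posUnipotent_all chevG2 (by simp)))
    11 (by decide)
    (commX_pos_of_h3 hP.sem (fun r s hr hs h1 h2 => commAll_G2 r s hr hs h1 h2) 11 (by decide) _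
      centr_G2_11_h3)
    (fun s => certLG2.getD s [])
    (cert_of_fast tabT_G2 tabHalf_G2 11 (by decide) 0 centr_G2_11_neg certLG2 certF_G2) g hg
  rwa [centr_G2_11_neg] at h

/-- For each root `s` other than the lowest one, a word of fundamental reflections making the highest root
and `s` both positive (type D4). -/
def certLD4 : List (List ℕ) := [[], [0, 1, 2, 3], [0, 1, 2], [0, 1, 3], [0, 1], [0], [2, 1, 3], [2, 1], [3, 1], [1], [2], [3], [], [], [], [], [], [], [], [], [], [], [], []]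

theorem certF_D4 : ∀ s < chevD4.nroots, s ≠ 0 → (∀ i ∈ certLD4.getD s [], i < chevD4.rank) ∧
    chevD4.nroots / 2 ≤ reflWT rTD4 (certLD4.getD s []) 23 ∧
    chevD4.nroots / 2 ≤ reflWT rTD4 (certLD4.getD s []) s := by decide +kernel

theorem pair_D4 {F : Type*} [Field F] [Fintype F] [CharP F 2] (g : GL chevD4.Idx F) (hg : g ∈ chevD4.group F) :
    IsPGroup 2 ↥(chevD4.rootSubgroup F 23 ⊔ (chevD4.rootSubgroup F 23).map (MulAut.conj g).toMonoidHom) ∨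
    ∃ h ∈ chevD4.group F, (chevD4.rootSubgroup F 23 ⊔ (chevD4.rootSubgroup F 23).map
      (MulAut.conj g).toMonoidHom).map (MulAut.conj h).toMonoidHom =
      chevD4.rootSubgroup F 23 ⊔ chevD4.rootSubgroup F 0 := by
  have hP := (⟨chk_D4.sem F, nconj_D4.semN chk_D4.tblOK F, comm_D4.semC chk_D4.tblOK F, tab_D4, tabC_D4, etaNeg_D4, tab2_D4⟩ : PackB chevD4 F (zR chevD4 ctblD4) _)
  have h := conj_pair hP (isPGroup_two_posUnipotent _ (card_posUnipotent_all chevD4 (by simp)))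
    23 (by decide)
    (commX_pos_of_h3 hP.sem (fun r s hr hs h1 h2 => commAll_D4 r s hr hs h1 h2) 23 (by decide) _
      centr_D4_23_h3)
    (fun s => certLD4.getD s [])
    (cert_of_fast tabT_D4 tabHalf_D4 23 (by decide) 0 centr_D4_23_neg certLD4 certF_D4) g hg
  rwa [centr_D4_23_neg] at h

/-- For each root `s` other than the lowest one, a word of fundamental reflections making the highest root
and `s` both positive (type E6). -/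
def certLE6 : List (List ℕ) := [[], [0, 2, 3, 1, 4, 3, 2, 5, 4, 3], [0, 2, 3, 1, 4, 3, 2, 5, 4], [0, 2, 3, 1, 4, 3, 2, 5], [0, 2, 3, 1, 4, 3, 2], [0, 2, 3, 1, 4, 3, 5, 4], [0, 2, 3, 1, 4, 3, 5], [0, 2, 3, 1, 4, 3], [0, 2, 3, 1, 4, 5], [0, 2, 3, 1, 4], [0, 2, 3, 1], [5, 4, 3, 2, 0], [4, 3, 2, 0], [3, 2, 0], [2, 0], [0], [2, 3, 1, 4, 3, 5, 4], [2, 3, 1, 4, 3, 5], [2, 3, 1, 4, 3], [2, 3, 1, 4, 5], [2, 3, 1, 4], [2, 3, 1], [5, 4, 3, 1], [4, 3, 1], [3, 1], [1], [5, 4, 3, 2], [4, 3, 2], [3, 2], [2], [5, 4, 3], [4, 3], [3], [5, 4], [4], [5], [], [], [], [], [], [], [], [], [], [], [], [], [], [], [], [], [], [], [], [], [], [], [], [], [], [], [], [], [], [], [], [], [], [], [], []]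

theorem certF_E6 : ∀ s < chevE6.nroots, s ≠ 0 → (∀ i ∈ certLE6.getD s [], i < chevE6.rank) ∧
    chevE6.nroots / 2 ≤ reflWT rTE6 (certLE6.getD s []) 71 ∧
    chevE6.nroots / 2 ≤ reflWT rTE6 (certLE6.getD s []) s := by decide +kernel

theorem pair_E6 {F : Type*} [Field F] [Fintype F] [CharP F 2] (g : GL chevE6.Idx F) (hg : g ∈ chevE6.group F) :
    IsPGroup 2 ↥(chevE6.rootSubgroup F 71 ⊔ (chevE6.rootSubgroup F 71).map (MulAut.conj g).toMonoidHom) ∨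
    ∃ h ∈ chevE6.group F, (chevE6.rootSubgroup F 71 ⊔ (chevE6.rootSubgroup F 71).map
      (MulAut.conj g).toMonoidHom).map (MulAut.conj h).toMonoidHom =
      chevE6.rootSubgroup F 71 ⊔ chevE6.rootSubgroup F 0 := by
  have hP := (⟨chk_E6.sem F, nconj_E6.semN chk_E6.tblOK F, comm_E6.semC chk_E6.tblOK F, tab_E6, tabC_E6, etaNeg_E6, tab2_E6⟩ : PackB chevE6 F (zR chevE6 ctblE6) _)
  have h := conj_pair hP (isPGroup_two_posUnipotent _ (card_posUnipotent_all chevE6 (by simp)))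
    71 (by decide)
    (commX_pos_of_h3 hP.sem (fun r s hr hs h1 h2 => commAll_E6 r s hr hs h1 h2) 71 (by decide) _
      centr_E6_71_h3)
    (fun s => certLE6.getD s [])
    (cert_of_fast tabT_E6 tabHalf_E6 71 (by decide) 0 centr_E6_71_neg certLE6 certF_E6) g hg
  rwa [centr_E6_71_neg] at h

/-- For each root `s` other than the lowest one, a word of fundamental reflections making the highest root
and `s` both positive (type E7). -/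
def certLE7 : List (List ℕ) := [[], [1, 3, 2, 0, 4, 3, 2, 5, 4, 3, 1, 6, 5, 4, 3, 2], [1, 3, 2, 0, 4, 3, 2, 5, 4, 3, 1, 6, 5, 4, 3], [1, 3, 2, 0, 4, 3, 2, 5, 4, 3, 1, 6, 5, 4], [1, 3, 2, 0, 4, 3, 2, 5, 4, 3, 1, 6, 5], [1, 3, 2, 0, 4, 3, 2, 5, 4, 3, 1, 6], [1, 3, 2, 0, 4, 3, 2, 5, 4, 3, 1], [1, 3, 2, 0, 4, 3, 2, 5, 4, 3, 6, 5, 4], [1, 3, 2, 0, 4, 3, 2, 5, 4, 3, 6, 5], [1, 3, 2, 0, 4, 3, 2, 5, 4, 3, 6], [1, 3, 2, 0, 4, 3, 2, 5, 4, 3], [1, 3, 2, 0, 4, 3, 2, 5, 4, 6, 5], [1, 3, 2, 0, 4, 3, 2, 5, 4, 6], [1, 3, 2, 0, 4, 3, 2, 5, 4], [1, 3, 2, 0, 4, 3, 2, 5, 6], [1, 3, 2, 0, 4, 3, 2, 5], [1, 3, 2, 0, 4, 3, 2], [1, 3, 2, 0, 4, 3, 5, 4, 6, 5], [1, 3, 2, 0, 4, 3, 5, 4, 6], [1, 3, 2, 0, 4, 3, 5, 4], [1, 3, 2, 0, 4, 3, 5, 6], [1, 3, 2, 0, 4, 3, 5], [1, 3, 2, 0, 4, 3], [1, 3, 2, 0, 4, 5, 6], [1, 3, 2, 0, 4, 5], [1, 3, 2, 0, 4], [1, 3, 2, 0], [6, 5, 4, 3, 2,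 0], [5, 4, 3, 2, 0], [4, 3, 2, 0], [3, 2, 0], [2, 0], [0], [6, 5, 4, 3, 1, 2, 3, 4, 5], [6, 5, 4, 3, 1, 2, 3, 4], [5, 4, 3, 1, 2, 3, 4], [6, 5, 4, 3, 1, 2, 3], [5, 4, 3, 1, 2, 3], [4, 3, 1, 2, 3], [6, 5, 4, 3, 1, 2], [5, 4, 3, 1, 2], [4, 3, 1, 2], [3, 1, 2], [6, 5, 4, 3, 1], [5, 4, 3, 1], [4, 3, 1], [3, 1], [1], [6, 5, 4, 3, 2], [5, 4, 3, 2], [4, 3, 2], [3, 2], [2], [6, 5, 4, 3], [5, 4, 3], [4, 3], [3], [6, 5, 4], [5, 4], [4], [6, 5], [5], [6], [], [], [], [], [], [], [], [], [], [], [], [], [], [], [], [], [], [], [], [], [], [], [], [], [], [], [], [], [], [], [], [], [], [], [], [], [], [], [], [], [], [], [], [], [], [], [], [], [], [], [], [], [], [], [], [], [], [], [], [], [], [], []]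

theorem certF_E7 : ∀ s < chevE7.nroots, s ≠ 0 → (∀ i ∈ certLE7.getD s [], i < chevE7.rank) ∧
    chevE7.nroots / 2 ≤ reflWT rTE7 (certLE7.getD s []) 125 ∧
    chevE7.nroots / 2 ≤ reflWT rTE7 (certLE7.getD s []) s := by decide +kernel

theorem pair_E7 {F : Type*} [Field F] [Fintype F] [CharP F 2] (g : GL chevE7.Idx F) (hg : g ∈ chevE7.group F) :
    IsPGroup 2 ↥(chevE7.rootSubgroup F 125 ⊔ (chevE7.rootSubgroup F 125).map (MulAut.conj g).toMonoidHom) ∨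
    ∃ h ∈ chevE7.group F, (chevE7.rootSubgroup F 125 ⊔ (chevE7.rootSubgroup F 125).map
      (MulAut.conj g).toMonoidHom).map (MulAut.conj h).toMonoidHom =
      chevE7.rootSubgroup F 125 ⊔ chevE7.rootSubgroup F 0 := by
  have hP := (⟨chk_E7.sem F, nconj_E7.semN chk_E7.tblOK F, comm_E7.semC chk_E7.tblOK F, tab_E7, tabC_E7, etaNeg_E7, tab2_E7⟩ : PackB chevE7 F (zR chevE7 ctblE7) _)
  have h := conj_pair hP (isPGroup_two_posUnipotent _ (card_posUnipotent_all chevE7 (by simp)))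
    125 (by decide)
    (commX_pos_of_h3 hP.sem (fun r s hr hs h1 h2 => commAll_E7 r s hr hs h1 h2) 125 (by decide) _
      centr_E7_125_h3)
    (fun s => certLE7.getD s [])
    (cert_of_fast tabT_E7 tabHalf_E7 125 (by decide) 0 centr_E7_125_neg certLE7 certF_E7) g hg
  rwa [centr_E7_125_neg] at h

/-- For each root `s` other than the lowest one, a word of fundamental reflections making the highest root
and `s` both positive (type E8). -/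
def certLE8 : List (List ℕ) := [[], [0, 2, 3, 1, 4, 3, 2, 5, 4, 3, 1, 6, 5, 4, 3, 2, 0, 7, 6, 5, 4, 3, 1, 2, 3, 4, 5, 6], [0, 2, 3, 1, 4, 3, 2, 5, 4, 3, 1, 6, 5, 4, 3, 2, 0, 7, 6, 5, 4, 3, 1, 2, 3, 4, 5], [0, 2, 3, 1, 4, 3, 2, 5, 4, 3, 1, 6, 5, 4, 3, 2, 0, 7, 6, 5, 4, 3, 1, 2, 3, 4], [0, 2, 3, 1, 4, 3, 2, 5, 4, 3, 1, 6, 5, 4, 3, 2, 0, 7, 6, 5, 4, 3, 1, 2, 3], [0, 2, 3, 1, 4, 3, 2, 5, 4, 3, 1, 6, 5, 4, 3, 2, 0, 7, 6, 5, 4, 3, 1, 2], [0, 2, 3, 1, 4, 3, 2, 5, 4, 3, 1, 6, 5, 4, 3, 2, 0, 7, 6, 5, 4, 3, 1], [0, 2, 3, 1, 4, 3, 2, 5, 4, 3, 1, 6, 5, 4, 3, 2, 0, 7, 6, 5, 4, 3, 2], [0, 2, 3, 1, 4, 3, 2, 5, 4, 3, 1, 6, 5, 4, 3, 2, 0, 7, 6, 5, 4, 3], [0, 2, 3, 1, 4, 3, 2, 5, 4, 3, 1, 6, 5, 4, 3, 2, 0, 7, 6, 5, 4], [0, 2, 3, 1, 4, 3, 2, 5, 4, 3, 1, 6, 5, 4, 3, 2, 0, 7, 6, 5], [0, 2, 3, 1, 4, 3, 2, 5, 4, 3, 1, 6, 5, 4, 3, 2, 0, 7, 6], [0, 2, 3, 1, 4, 3, 2, 5,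 4, 3, 1, 6, 5, 4, 3, 2, 0, 7], [6, 5, 4, 3, 1, 2, 0, 3, 2, 4, 3, 1, 5, 4, 3, 2, 0], [0, 2, 3, 1, 4, 3, 2, 5, 4, 3, 1, 6, 5, 4, 3, 2, 7, 6, 5, 4, 3, 1], [0, 2, 3, 1, 4, 3, 2, 5, 4, 3, 1, 6, 5, 4, 3, 2, 7, 6, 5, 4, 3], [0, 2, 3, 1, 4, 3, 2, 5, 4, 3, 1, 6, 5, 4, 3, 2, 7, 6, 5, 4], [0, 2, 3, 1, 4, 3, 2, 5, 4, 3, 1, 6, 5, 4, 3, 2, 7, 6, 5], [0, 2, 3, 1, 4, 3, 2, 5, 4, 3, 1, 6, 5, 4, 3, 2, 7, 6], [0, 2, 3, 1, 4, 3, 2, 5, 4, 3, 1, 6, 5, 4, 3, 2, 7], [6, 5, 4, 3, 1, 2, 0, 3, 2, 4, 3, 1, 5, 4, 3, 2], [0, 2, 3, 1, 4, 3, 2, 5, 4, 3, 1, 6, 5, 4, 3, 7, 6, 5, 4], [0, 2, 3, 1, 4, 3, 2, 5, 4, 3, 1, 6, 5, 4, 3, 7, 6, 5], [0, 2, 3, 1, 4, 3, 2, 5, 4, 3, 1, 6, 5, 4, 3, 7, 6], [0, 2, 3, 1, 4, 3, 2, 5, 4, 3, 1, 6, 5, 4, 3, 7], [6, 5, 4, 3, 1, 2, 0, 3, 2, 4, 3, 1, 5, 4, 3], [0, 2, 3, 1, 4, 3, 2, 5, 4, 3, 1, 6, 5, 4, 7, 6, 5], [0, 2, 3, 1, 4, 3, 2, 5, 4, 3, 1, 6, 5,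 4, 7, 6], [0, 2, 3, 1, 4, 3, 2, 5, 4, 3, 1, 6, 5, 4, 7], [6, 5, 4, 3, 1, 2, 0, 3, 2, 4, 3, 1, 5, 4], [0, 2, 3, 1, 4, 3, 2, 5, 4, 3, 1, 6, 5, 7, 6], [0, 2, 3, 1, 4, 3, 2, 5, 4, 3, 1, 6, 5, 7], [6, 5, 4, 3, 1, 2, 0, 3, 2, 4, 3, 1, 5], [0, 2, 3, 1, 4, 3, 2, 5, 4, 3, 1, 6, 7], [6, 5, 4, 3, 1, 2, 0, 3, 2, 4, 3, 1], [5, 4, 3, 1, 2, 0, 3, 2, 4, 3, 1], [0, 2, 3, 1, 4, 3, 2, 5, 4, 3, 6, 5, 4, 7, 6, 5], [0, 2, 3, 1, 4, 3, 2, 5, 4, 3, 6, 5, 4, 7, 6], [0, 2, 3, 1, 4, 3, 2, 5, 4, 3, 6, 5, 4, 7], [6, 5, 4, 3, 1, 2, 0, 3, 2, 4, 3, 5, 4], [0, 2, 3, 1, 4, 3, 2, 5, 4, 3, 6, 5, 7, 6], [0, 2, 3, 1, 4, 3, 2, 5, 4, 3, 6, 5, 7], [6, 5, 4, 3, 1, 2, 0, 3, 2, 4, 3, 5], [0, 2, 3, 1, 4, 3, 2, 5, 4, 3, 6, 7], [6, 5, 4, 3, 1, 2, 0, 3, 2, 4, 3], [5, 4, 3, 1, 2, 0, 3, 2, 4, 3], [0, 2, 3, 1, 4, 3, 2, 5, 4, 6, 5, 7, 6], [0, 2, 3, 1, 4, 3, 2, 5, 4, 6, 5, 7], [6, 5, 4, 3, 1, 2,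 0, 3, 2, 4, 5], [0, 2, 3, 1, 4, 3, 2, 5, 4, 6, 7], [6, 5, 4, 3, 1, 2, 0, 3, 2, 4], [5, 4, 3, 1, 2, 0, 3, 2, 4], [0, 2, 3, 1, 4, 3, 2, 5, 6, 7], [6, 5, 4, 3, 1, 2, 0, 3, 2], [5, 4, 3, 1, 2, 0, 3, 2], [4, 3, 1, 2, 0, 3, 2], [0, 2, 3, 1, 4, 3, 5, 4, 6, 5, 7, 6], [0, 2, 3, 1, 4, 3, 5, 4, 6, 5, 7], [6, 5, 4, 3, 1, 2, 0, 3, 4, 5], [0, 2, 3, 1, 4, 3, 5, 4, 6, 7], [6, 5, 4, 3, 1, 2, 0, 3, 4], [5, 4, 3, 1, 2, 0, 3, 4], [0, 2, 3, 1, 4, 3, 5, 6, 7], [6, 5, 4, 3, 1, 2, 0, 3], [5, 4, 3, 1, 2, 0, 3], [4, 3, 1, 2, 0, 3], [0, 2, 3, 1, 4, 5, 6, 7], [6, 5, 4, 3, 1, 2, 0], [5, 4, 3, 1, 2, 0], [4, 3, 1, 2, 0], [3, 1, 2, 0], [0, 2, 3, 4, 5, 6, 7], [6, 5, 4, 3, 2, 0], [5, 4, 3, 2, 0], [4, 3, 2, 0], [3, 2, 0], [2, 0], [0], [1, 3, 2, 4, 3, 5, 4, 6, 5, 7, 6], [1, 3, 2, 4, 3, 5, 4, 6, 5, 7], [6, 5, 4, 3, 1, 2, 3, 4, 5], [1, 3, 2, 4, 3, 5, 4, 6, 7], [6, 5, 4, 3, 1, 2, 3,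 4], [5, 4, 3, 1, 2, 3, 4], [1, 3, 2, 4, 3, 5, 6, 7], [6, 5, 4, 3, 1, 2, 3], [5, 4, 3, 1, 2, 3], [4, 3, 1, 2, 3], [1, 3, 2, 4, 5, 6, 7], [6, 5, 4, 3, 1, 2], [5, 4, 3, 1, 2], [4, 3, 1, 2], [3, 1, 2], [1, 3, 4, 5, 6, 7], [6, 5, 4, 3, 1], [5, 4, 3, 1], [4, 3, 1], [3, 1], [1], [2, 3, 4, 5, 6, 7], [6, 5, 4, 3, 2], [5, 4, 3, 2], [4, 3, 2], [3, 2], [2], [3, 4, 5, 6, 7], [6, 5, 4, 3], [5, 4, 3], [4, 3], [3], [4, 5, 6, 7], [6, 5, 4], [5, 4], [4], [5, 6, 7], [6, 5], [5], [6, 7], [6], [7], [], [], [], [], [], [], [], [], [], [], [], [], [], [], [], [], [], [], [], [], [], [], [], [], [], [], [], [], [], [], [], [], [], [], [], [], [], [], [], [], [], [], [], [], [], [], [], [], [], [], [], [], [], [], [], [], [], [], [], [], [], [], [], [], [], [], [], [], [], [], [], [], [], [], [], [], [], [], [], [], [], [], [], [], [], [], [], [], [], [], [], [], [],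 [], [], [], [], [], [], [], [], [], [], [], [], [], [], [], [], [], [], [], [], [], [], [], [], [], [], []]

theorem certF_E8 : ∀ s < chevE8.nroots, s ≠ 0 → (∀ i ∈ certLE8.getD s [], i < chevE8.rank) ∧
    chevE8.nroots / 2 ≤ reflWT rTE8 (certLE8.getD s []) 239 ∧
    chevE8.nroots / 2 ≤ reflWT rTE8 (certLE8.getD s []) s := by decide +kernel

theorem pair_E8 {F : Type*} [Field F] [Fintype F] [CharP F 2] (g : GL chevE8.Idx F) (hg : g ∈ chevE8.group F) :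
    IsPGroup 2 ↥(chevE8.rootSubgroup F 239 ⊔ (chevE8.rootSubgroup F 239).map (MulAut.conj g).toMonoidHom) ∨
    ∃ h ∈ chevE8.group F, (chevE8.rootSubgroup F 239 ⊔ (chevE8.rootSubgroup F 239).map
      (MulAut.conj g).toMonoidHom).map (MulAut.conj h).toMonoidHom =
      chevE8.rootSubgroup F 239 ⊔ chevE8.rootSubgroup F 0 := by
  have hP := (⟨chk_E8.sem F, nconj_E8.semN chk_E8.tblOK F, comm_E8.semC chk_E8.tblOK F, tab_E8, tabC_E8, etaNeg_E8, tab2_E8⟩ : PackB chevE8 F (zR chevE8 ctblE8) _)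
  have h := conj_pair hP (isPGroup_two_posUnipotent _ (card_posUnipotent_all chevE8 (by simp)))
    239 (by decide)
    (commX_pos_of_h3 hP.sem (fun r s hr hs h1 h2 => commAll_E8 r s hr hs h1 h2) 239 (by decide) _
      centr_E8_239_h3)
    (fun s => certLE8.getD s [])
    (cert_of_fast tabT_E8 tabHalf_E8 239 (by decide) 0 centr_E8_239_neg certLE8 certF_E8) g hg
  rwa [centr_E8_239_neg] at h

end Cfsg.Agent.H23
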