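import Cfsg.Agent.H23.ChainF
import Cfsg.Prelude.Def_ChevB2

set_option autoImplicit false
set_option maxRecDepth 100000

/-!
# The packed chain table of type B2 (generated by scripts/gen_chain.py)
-/

namespace Cfsg.Agent.H23

open Cfsg.Lie

/-- The chain table of type B2, 36 bits for each pair of roots. -/
def chFB2 : ℕ := 0x707000000906000000000000000000000000000000000608000000000000908706000000a05000000000000905903000000000000000a08000000000000708707000000000000000000000000a04000704702000000000000000000000000907000000000000000000000000000000000703000000000000000000000000906000000000000000000000000000000000702000000000000000000000705907000000605000000000000000000000701902000000000000000601000000000000904706000000000000000604000901903000000000000000a01000000000000000000000000000000000703000000902000000000000000000000000000000000000000000000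

theorem chfRows_B2_0 : allFrom (chfRow chevB2 chFB2) 0 8 = true := by decide +kernel

theorem chfOK_B2 : ChFOK chevB2 chFB2 where
  size := by decide +kernel
  rows := all_of_allFrom _ 8 (chfRows_B2_0)

end Cfsg.Agent.H23
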