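import Cfsg.Agent.H23.ChainF
import Cfsg.Prelude.Def_ChevG2

set_option autoImplicit false
set_option maxRecDepth 100000

/-!
# The packed chain table of type G2 (generated by scripts/gen_chain.py)
-/

namespace Cfsg.Agent.H23

open Cfsg.Lie

/-- The chain table of type G2, 36 bits for each pair of roots. -/
def chFG2 : ℕ := 0x70b00000000000000070a00000090900000090700000000000000000000000000000000000000000000000000000000000070c00000000000000070a00000000000000090800000000000000090600000000000000000000000000000000050c00000050b00000000000000000000050ca09000b0b60800000000070c90990590b708904000000000000000000000000b0c000000000000b0ca0a00000000070c70a708000000b07000000000000507605000000000907905703000000000000000000000000b0b00050b60a00000000090b90a709000000000000000000000000b06000b06a0470670470300000000000000000000000090c00000000000000000000000090900000000000000000000000000000000070500000000000000000000000070200000090b00000000000000000000000090800000000000000000000000000000000070400000000000000000000000070100000000000000000090770990a000b07609000000507000000000000000000702903904000000000000502a0300000050200000000000000000070690890a000000000000506a08000000000000000506901703905000000000000b01603000000000000000501000000000000000000702705709901904708000000000000b02a05000501604000000000000000000000000b02000000b01000000000000000000000000000000000707000000000000000705000000000000000903000000000000000901000000000000000000000000000000000000000000000000000000000000706000000704000000903000000000000000902000000000000000000000000000000000000000000000000000000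

theorem chfRows_G2_0 : allFrom (chfRow chevG2 chFG2) 0 12 = true := by decide +kernel

theorem chfOK_G2 : ChFOK chevG2 chFG2 where
  size := by decide +kernel
  rows := all_of_allFrom _ 12 (chfRows_G2_0)

end Cfsg.Agent.H23
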