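import Cfsg.Agent.H23.GenN

set_option autoImplicit false
set_option maxRecDepth 100000

/-!
# Certificates for the generation by `N` and fundamental root subgroups (generated by scripts/gen_genn.py)
-/

namespace Cfsg.Agent.H23

open Cfsg.Lie

/-- Words conjugating the fundamental roots of equal length of type G2. -/
def wtG2 : List (List ℕ) := [[], [], [], []]

theorem conjOK_G2 : ConjOK chevG2 rTG2 wtG2 := ⟨by decide +kernel⟩

theorem longOK_G2 : LongOK chevG2 rTG2 3 :=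
  ⟨Or.inr ⟨0, by decide, 9, by decide, [1, 0], 0, 10, [0], 1, by decide +kernel⟩⟩

/-- Words conjugating the fundamental roots of equal length of type B2. -/
def wtB2 : List (List ℕ) := [[], [], [], []]

theorem conjOK_B2 : ConjOK chevB2 rTB2 wtB2 := ⟨by decide +kernel⟩

theorem longOK_B2 : LongOK chevB2 rTB2 2 :=
  ⟨Or.inr ⟨0, by decide, 6, by decide, [1], 0, 7, [0], 1, by decide +kernel⟩⟩

/-- Words conjugating the fundamental roots of equal length of type D4. -/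
def wtD4 : List (List ℕ) := [[], [1, 0], [1, 2, 0, 1], [1, 3, 0, 1], [0, 1], [], [2, 1], [3, 1], [1, 2, 0, 1], [1, 2], [], [1, 3, 2, 1], [1, 3, 0, 1], [1, 3], [1, 3, 2, 1], []]

theorem conjOK_D4 : ConjOK chevD4 rTD4 wtD4 := ⟨by decide +kernel⟩

theorem longOK_D4 : LongOK chevD4 rTD4 1 := ⟨Or.inl (by decide +kernel)⟩

/-- Words conjugating the fundamental roots of equal length of type F4. -/
def wtF4 : List (List ℕ) := [[], [1, 0], [], [], [0, 1], [], [], [], [], [], [], [3, 2], [], [], [2, 3], []]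

theorem conjOK_F4 : ConjOK chevF4 rTF4 wtF4 := ⟨by decide +kernel⟩

theorem longOK_F4 : LongOK chevF4 rTF4 2 :=
  ⟨Or.inr ⟨0, by decide, 37, by decide, [1, 2, 1], 0, 41, [1, 0], 2, by decide +kernel⟩⟩

/-- Words conjugating the fundamental roots of equal length of type E6. -/
def wtE6 : List (List ℕ) := [[], [2, 3, 0, 2, 1, 3], [2, 0], [2, 3, 0, 2], [2, 3, 4, 0, 2, 3], [2, 3, 4, 5, 0, 2, 3, 4], [3, 2, 1, 3, 0, 2], [], [3, 2, 1, 3], [3, 1], [3, 4, 1, 3], [3, 4, 5, 1, 3, 4], [0, 2], [3, 2, 1, 3], [], [3, 2], [3, 4, 2, 3], [3, 4, 5, 2, 3, 4], [2, 3, 0, 2], [1, 3], [2, 3], [], [4, 3], [4, 5, 3, 4], [3, 4, 2, 3, 0, 2], [3, 4, 1, 3], [3, 4, 2, 3], [3, 4], [], [5, 4], [4, 5, 3, 4, 2, 3, 0, 2], [4, 5, 3, 4, 1, 3], [4, 5, 3, 4, 2, 3], [4, 5, 3, 4], [4, 5], []]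

theorem conjOK_E6 : ConjOK chevE6 rTE6 wtE6 := ⟨by decide +kernel⟩

theorem longOK_E6 : LongOK chevE6 rTE6 1 := ⟨Or.inl (by decide +kernel)⟩

/-- Words conjugating the fundamental roots of equal length of type E7. -/
def wtE7 : List (List ℕ) := [[], [2, 3, 0, 2, 1, 3], [2, 0], [2, 3, 0, 2], [2, 3, 4, 0, 2, 3], [2, 3, 4, 5, 0, 2, 3, 4], [2, 3, 4, 5, 6, 0, 2, 3, 4, 5], [3, 2, 1, 3, 0, 2], [], [3, 2, 1, 3], [3, 1], [3, 4, 1, 3], [3, 4, 5, 1, 3, 4], [3, 4, 5, 6, 1, 3, 4, 5], [0, 2], [3, 2, 1, 3], [], [3, 2], [3, 4, 2, 3], [3, 4, 5, 2, 3, 4], [3, 4, 5, 6, 2, 3, 4, 5], [2, 3, 0, 2], [1, 3], [2, 3], [], [4, 3], [4, 5, 3, 4], [4, 5, 6, 3, 4, 5], [3, 4, 2, 3, 0, 2], [3, 4, 1, 3], [3, 4, 2, 3], [3, 4], [], [5, 4], [5, 6, 4, 5], [4, 5, 3, 4, 2, 3, 0, 2], [4, 5, 3, 4, 1, 3], [4, 5, 3, 4, 2, 3], [4, 5, 3, 4], [4, 5], [], [6, 5], [5, 6, 4, 5, 3, 4, 2, 3, 0, 2], [5, 6, 4, 5, 3, 4, 1, 3],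 [5, 6, 4, 5, 3, 4, 2, 3], [5, 6, 4, 5, 3, 4], [5, 6, 4, 5], [5, 6], []]

theorem conjOK_E7 : ConjOK chevE7 rTE7 wtE7 := ⟨by decide +kernel⟩

theorem longOK_E7 : LongOK chevE7 rTE7 1 := ⟨Or.inl (by decide +kernel)⟩

/-- Words conjugating the fundamental roots of equal length of type E8. -/
def wtE8 : List (List ℕ) := [[], [2, 3, 0, 2, 1, 3], [2, 0], [2, 3, 0, 2], [2, 3, 4, 0, 2, 3], [2, 3, 4, 5, 0, 2, 3, 4], [2, 3, 4, 5, 6, 0, 2, 3, 4, 5], [2, 3, 4, 5, 6, 7, 0, 2, 3, 4, 5, 6], [3, 2, 1, 3, 0, 2], [], [3, 2, 1, 3], [3, 1], [3, 4, 1, 3], [3, 4, 5, 1, 3, 4], [3, 4, 5, 6, 1, 3, 4, 5], [3, 4, 5, 6, 7, 1, 3, 4, 5, 6], [0, 2], [3, 2, 1, 3], [], [3, 2], [3, 4, 2, 3], [3, 4, 5, 2, 3, 4], [3, 4, 5, 6, 2, 3, 4, 5], [3, 4, 5, 6, 7, 2, 3, 4, 5, 6], [2, 3, 0, 2], [1, 3], [2, 3], [], [4, 3], [4, 5, 3, 4], [4, 5, 6, 3, 4, 5], [4, 5, 6, 7, 3, 4, 5, 6], [3, 4, 2, 3, 0, 2], [3, 4, 1, 3], [3, 4,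 2, 3], [3, 4], [], [5, 4], [5, 6, 4, 5], [5, 6, 7, 4, 5, 6], [4, 5, 3, 4, 2, 3, 0, 2], [4, 5, 3, 4, 1, 3], [4, 5, 3, 4, 2, 3], [4, 5, 3, 4], [4, 5], [], [6, 5], [6, 7, 5, 6], [5, 6, 4, 5, 3, 4, 2, 3, 0, 2], [5, 6, 4, 5, 3, 4, 1, 3], [5, 6, 4, 5, 3, 4, 2, 3], [5, 6, 4, 5, 3, 4], [5, 6, 4, 5], [5, 6], [], [7, 6], [6, 7, 5, 6, 4, 5, 3, 4, 2, 3, 0, 2], [6, 7, 5, 6, 4, 5, 3, 4, 1, 3], [6, 7, 5, 6, 4, 5, 3, 4, 2, 3], [6, 7, 5, 6, 4, 5, 3, 4], [6, 7, 5, 6, 4, 5], [6, 7, 5, 6], [6, 7], []]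

theorem conjOK_E8 : ConjOK chevE8 rTE8 wtE8 := ⟨by decide +kernel⟩

theorem longOK_E8 : LongOK chevE8 rTE8 1 := ⟨Or.inl (by decide +kernel)⟩

/-- The Chevalley group is generated by `N` and one short fundamental root subgroup, in good characteristic. -/
theorem group_le_mono_sup_root_all {K : Type*} [Field K] (D : ChevalleyDatum)
    (hD : D ∈ [chevG2, chevB2, chevD4, chevF4, chevE6, chevE7, chevE8])
    (h2 : D ∈ [chevB2, chevF4] → ((2 : ℤ) : K) ≠ 0) (h3 : D = chevG2 → ((3 : ℤ) : K) ≠ 0)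
    (i : ℕ) (hi : i < D.rank) (hshort : D.isLong (D.simple i) = false) :
    D.group K ≤ D.monomialSubgroup K ⊔ D.rootSubgroup K (D.simple i) := by
  simp only [List.mem_cons, List.not_mem_nil, or_false] at hD h2
  rcases hD with rfl | rfl | rfl | rfl | rfl | rfl | rfl
  · exact group_le_mono_sup_root (chk_G2.sem K) (nconj_G2.semN chk_G2.tblOK K) (comm_G2.semC chk_G2.tblOK K)
      tabT_G2 conjOK_G2 longOK_G2 (h3 rfl) i hi hshort
  · exact group_le_mono_sup_root (chk_B2.sem K) (nconj_B2.semN chk_B2.tblOK K) (comm_B2.semC chk_B2.tblOK K)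
      tabT_B2 conjOK_B2 longOK_B2 (h2 (Or.inl rfl)) i hi hshort
  · exact group_le_mono_sup_root (chk_D4.sem K) (nconj_D4.semN chk_D4.tblOK K) (comm_D4.semC chk_D4.tblOK K)
      tabT_D4 conjOK_D4 longOK_D4 (by simp) i hi hshort
  · exact group_le_mono_sup_root (chk_F4.sem K) (nconj_F4.semN chk_F4.tblOK K) (comm_F4.semC chk_F4.tblOK K)
      tabT_F4 conjOK_F4 longOK_F4 (h2 (Or.inr rfl)) i hi hshort
  · exact group_le_mono_sup_root (chk_E6.sem K) (nconj_E6.semN chk_E6.tblOK K) (comm_E6.semC chk_E6.tblOK K)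
      tabT_E6 conjOK_E6 longOK_E6 (by simp) i hi hshort
  · exact group_le_mono_sup_root (chk_E7.sem K) (nconj_E7.semN chk_E7.tblOK K) (comm_E7.semC chk_E7.tblOK K)
      tabT_E7 conjOK_E7 longOK_E7 (by simp) i hi hshort
  · exact group_le_mono_sup_root (chk_E8.sem K) (nconj_E8.semN chk_E8.tblOK K) (comm_E8.semC chk_E8.tblOK K)
      tabT_E8 conjOK_E8 longOK_E8 (by simp) i hi hshort

/-- The Chevalley group is generated by `N`, one short and one long fundamental root subgroup. -/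
theorem group_le_mono_sup_two_all {K : Type*} [Field K] (D : ChevalleyDatum)
    (hD : D ∈ [chevG2, chevB2, chevD4, chevF4, chevE6, chevE7, chevE8])
    (i j : ℕ) (hi : i < D.rank) (hj : j < D.rank) (hshort : D.isLong (D.simple i) = false)
    (hlong : D.isLong (D.simple j) = true) :
    D.group K ≤ D.monomialSubgroup K ⊔ D.rootSubgroup K (D.simple i) ⊔ D.rootSubgroup K (D.simple j) := by
  simp only [List.mem_cons, List.not_mem_nil, or_false] at hD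
  rcases hD with rfl | rfl | rfl | rfl | rfl | rfl | rfl
  · exact group_le_mono_sup_two (chk_G2.sem K) (nconj_G2.semN chk_G2.tblOK K) tabT_G2 conjOK_G2 i j hi hj
      hshort hlong
  · exact group_le_mono_sup_two (chk_B2.sem K) (nconj_B2.semN chk_B2.tblOK K) tabT_B2 conjOK_B2 i j hi hj
      hshort hlong
  · exact group_le_mono_sup_two (chk_D4.sem K) (nconj_D4.semN chk_D4.tblOK K) tabT_D4 conjOK_D4 i j hi hj
      hshort hlong
  · exact group_le_mono_sup_two (chk_F4.sem K) (nconj_F4.semN chk_F4.tblOK K) tabT_F4 conjOK_F4 i j hi hj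
      hshort hlong
  · exact group_le_mono_sup_two (chk_E6.sem K) (nconj_E6.semN chk_E6.tblOK K) tabT_E6 conjOK_E6 i j hi hj
      hshort hlong
  · exact group_le_mono_sup_two (chk_E7.sem K) (nconj_E7.semN chk_E7.tblOK K) tabT_E7 conjOK_E7 i j hi hj
      hshort hlong
  · exact group_le_mono_sup_two (chk_E8.sem K) (nconj_E8.semN chk_E8.tblOK K) tabT_E8 conjOK_E8 i j hi hj
      hshort hlong

end Cfsg.Agent.H23
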