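import Cfsg.Agent.H23.Graph
import Cfsg.Agent.H23.TblD4

set_option autoImplicit false
set_option maxRecDepth 100000

namespace Cfsg.Agent.H23

open Cfsg.Lie

def sigD4a : List ℕ := [2, 1, 3, 0]
def sigID4a : List ℕ := [3, 1, 0, 2]
def rhoD4a : ℕ := 566071931645633254490620476267514897873298047940799365376
def gamD4a : ℕ := 2785620
def rhoID4a : ℕ := 566073048227152972253855450491855147264082562003356549376
def gamID4a : ℕ := 1769688

theorem graph_D4a_conj : ∀ s < chevD4.nroots, checkCols false [(pEnt chevD4.nroots chevD4.rank rhoD4a gamD4a sigD4a, pone), compileL chevD4 tblD4 (s, pT)]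
    [compileL chevD4 tblD4 (rlk rhoD4a s, [(etaBit gamD4a s, 1, 0)]), (pEnt chevD4.nroots chevD4.rank rhoD4a gamD4a sigD4a, pone)]
    (chevD4.nroots + chevD4.rank) = true := by decide +kernel

theorem graph_D4a_inv1 : checkCols false [(pEnt chevD4.nroots chevD4.rank rhoD4a gamD4a sigD4a, pone), (pEnt chevD4.nroots chevD4.rank rhoID4a gamID4a sigID4a, pone)] [] (chevD4.nroots + chevD4.rank) = true := by
  decide +kernel

theorem graph_D4a_inv2 : checkCols false [(pEnt chevD4.nroots chevD4.rank rhoID4a gamID4a sigID4a, pone), (pEnt chevD4.nroots chevD4.rank rhoD4a gamD4a sigD4a, pone)] [] (chevD4.nroots + chevD4.rank) = true := by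
  decide +kernel

theorem graph_D4a_rho_lt : ∀ s < chevD4.nroots, rlk rhoD4a s < chevD4.nroots := by decide +kernel

theorem graph_D4a_rhoI : ∀ r < chevD4.nroots, rlk rhoID4a r < chevD4.nroots ∧ rlk rhoD4a (rlk rhoID4a r) = r := by
  decide +kernel

theorem graph_D4a_simple : ∀ i < chevD4.rank,
    (rlk rhoD4a (chevD4.simple i) = chevD4.simple (sigD4a.getD i 0) ∧ etaBit gamD4a (chevD4.simple i) = 1) ∧
    (rlk rhoD4a (chevD4.neg (chevD4.simple i)) = chevD4.neg (chevD4.simple (sigD4a.getD i 0)) ∧
      etaBit gamD4a (chevD4.neg (chevD4.simple i)) = 1) := by decide +kernel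

theorem graph_D4a_simple_lt : ∀ i < chevD4.rank, chevD4.simple i < chevD4.nroots ∧ chevD4.neg (chevD4.simple i) < chevD4.nroots := by
  decide +kernel

/-- The checks for the graph automorphism `[2, 1, 3, 0]` of type D4. -/
theorem graphOK_D4a : GraphOK chevD4 tblD4 sigD4a sigID4a rhoD4a gamD4a rhoID4a gamID4a where
  conj := graph_D4a_conj
  inv1 := graph_D4a_inv1
  inv2 := graph_D4a_inv2
  rho_lt := graph_D4a_rho_lt
  rhoI := graph_D4a_rhoI
  simple := graph_D4a_simple
  simple_lt := graph_D4a_simple_lt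

def sigD4b : List ℕ := [3, 1, 0, 2]
def sigID4b : List ℕ := [2, 1, 3, 0]
def rhoD4b : ℕ := 566073048227152972253855450491855147264082562003356549376
def gamD4b : ℕ := 1769688
def rhoID4b : ℕ := 566071931645633254490620476267514897873298047940799365376
def gamID4b : ℕ := 2785620

theorem graph_D4b_conj : ∀ s < chevD4.nroots, checkCols false [(pEnt chevD4.nroots chevD4.rank rhoD4b gamD4b sigD4b, pone), compileL chevD4 tblD4 (s, pT)]
    [compileL chevD4 tblD4 (rlk rhoD4b s, [(etaBit gamD4b s, 1, 0)]), (pEnt chevD4.nroots chevD4.rank rhoD4b gamD4b sigD4b, pone)]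
    (chevD4.nroots + chevD4.rank) = true := by decide +kernel

theorem graph_D4b_inv1 : checkCols false [(pEnt chevD4.nroots chevD4.rank rhoD4b gamD4b sigD4b, pone), (pEnt chevD4.nroots chevD4.rank rhoID4b gamID4b sigID4b, pone)] [] (chevD4.nroots + chevD4.rank) = true := by
  decide +kernel

theorem graph_D4b_inv2 : checkCols false [(pEnt chevD4.nroots chevD4.rank rhoID4b gamID4b sigID4b, pone), (pEnt chevD4.nroots chevD4.rank rhoD4b gamD4b sigD4b, pone)] [] (chevD4.nroots + chevD4.rank) = true := by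
  decide +kernel

theorem graph_D4b_rho_lt : ∀ s < chevD4.nroots, rlk rhoD4b s < chevD4.nroots := by decide +kernel

theorem graph_D4b_rhoI : ∀ r < chevD4.nroots, rlk rhoID4b r < chevD4.nroots ∧ rlk rhoD4b (rlk rhoID4b r) = r := by
  decide +kernel

theorem graph_D4b_simple : ∀ i < chevD4.rank,
    (rlk rhoD4b (chevD4.simple i) = chevD4.simple (sigD4b.getD i 0) ∧ etaBit gamD4b (chevD4.simple i) = 1) ∧
    (rlk rhoD4b (chevD4.neg (chevD4.simple i)) = chevD4.neg (chevD4.simple (sigD4b.getD i 0)) ∧
      etaBit gamD4b (chevD4.neg (chevD4.simple i)) = 1) := by decide +kernel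

theorem graph_D4b_simple_lt : ∀ i < chevD4.rank, chevD4.simple i < chevD4.nroots ∧ chevD4.neg (chevD4.simple i) < chevD4.nroots := by
  decide +kernel

/-- The checks for the graph automorphism `[3, 1, 0, 2]` of type D4. -/
theorem graphOK_D4b : GraphOK chevD4 tblD4 sigD4b sigID4b rhoD4b gamD4b rhoID4b gamID4b where
  conj := graph_D4b_conj
  inv1 := graph_D4b_inv1
  inv2 := graph_D4b_inv2
  rho_lt := graph_D4b_rho_lt
  rhoI := graph_D4b_rhoI
  simple := graph_D4b_simple
  simple_lt := graph_D4b_simple_lt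

end Cfsg.Agent.H23
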