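import Cfsg.Agent.H23.UProdTab
import Cfsg.Agent.H23.LeviTab

set_option autoImplicit false

/-!
# S5751 (iterated cores; E8(2), maximal parabolic at the branch node): definitions and piece statements

`G = E8(2)`, `M₁ = P_J` with `J` = all nodes but node 3 (0-based; the branch node), `g = n_3`.
Levels: `lev r` = coefficient of the branch node in the root `r` (`wN levC r`), from `-6` to `6`.
`Q k` = group generated by the root subgroups of the positive roots of level `≥ k`.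
-/

namespace Cfsg.Agent.H23.Ic

open Cfsg.Lie

/-- The ambient general linear group. -/
abbrev GLE : Type := GL chevE8.Idx (ZMod 2)

/-- `E8(2)`. -/
abbrev GE : Subgroup GLE := chevE8.group (ZMod 2)

theorem hS : Sem chevE8 (ZMod 2) (zR chevE8 ctblE8) := chk_E8.sem (ZMod 2)

theorem hPk : PackB chevE8 (ZMod 2) (zR chevE8 ctblE8) (fun i s => etaBit (etaE8.getD i 0) s) :=
  ⟨chk_E8.sem (ZMod 2), nconj_E8.semN chk_E8.tblOK (ZMod 2), comm_E8.semC chk_E8.tblOK (ZMod 2), tab_E8,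
    tabC_E8, etaNeg_E8, tab2_E8⟩

/-- All nodes but the branch node `3`. -/
def JJ : Set ℕ := {j | j ≠ 3}

/-- The maximal parabolic subgroup `P_J`. -/
abbrev Pj : Subgroup GLE := chevE8.parabolicSubgroup (ZMod 2) JJ

/-- `n_j = n_{p_j}(1)`. -/
noncomputable def nn (j : ℕ) : GLE := nU hS (chevE8.simple j) 1

/-- `U`. -/
abbrev Up : Subgroup GLE := chevE8.posUnipotent (ZMod 2)

/-- The weight function `Σ cr_k ⟨·, α_k^∨⟩` on the indices `0 … 247` (zero on the `h_i`, `c ≥ 240`). -/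
def wN (cr : List ℤ) (c : ℕ) : ℤ := zRl cr ctblE8 chevE8.nroots c

/-- The same on `chevE8.Idx`. -/
def wt (cr : List ℤ) : chevE8.Idx → ℤ := fun k => wN cr (ix chevE8 k)

/-- The level: the coefficient of the branch node (row 3 of the inverse Cartan matrix). -/
def levC : List ℤ := [10, 15, 20, 30, 24, 18, 12, 6]

/-- The action of the reflection `s_j` on the coefficient lists: `wt (reflC j cr) = wt cr ∘ s_j`. -/
def reflC (j : ℕ) (cr : List ℤ) : List ℤ := cr.set j (cr.getD j 0 - wN cr (chevE8.simple j))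

/-- The 30 gradings `lev - ⟨·, γ^∨⟩`, `γ` of level 1 (the orbit of `reflC 3 levC` under `reflC j`, `j ≠ 3`). -/
def crs : List (List ℤ) :=
  [[10, 15, 20, 29, 24, 18, 12, 6], [10, 14, 20, 29, 24, 18, 12, 6], [10, 15, 19, 29, 24, 18, 12, 6],
   [10, 15, 20, 29, 23, 18, 12, 6], [10, 14, 19, 29, 24, 18, 12, 6], [10, 14, 20, 29, 23, 18, 12, 6],
   [9, 15, 19, 29, 24, 18, 12, 6], [10, 15, 19, 29, 23, 18, 12, 6], [10, 15, 20, 29, 23, 17, 12, 6],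
   [9, 14, 19, 29, 24, 18, 12, 6], [10, 14, 19, 29, 23, 18, 12, 6], [10, 14, 20, 29, 23, 17, 12, 6],
   [9, 15, 19, 29, 23, 18, 12, 6], [10, 15, 19, 29, 23, 17, 12, 6], [10, 15, 20, 29, 23, 17, 11, 6],
   [9, 14, 19, 29, 23, 18, 12, 6], [10, 14, 19, 29, 23, 17, 12, 6], [10, 14, 20, 29, 23, 17, 11, 6],
   [9, 15, 19, 29, 23, 17, 12, 6], [10, 15, 19, 29, 23, 17, 11, 6], [10, 15, 20, 29, 23, 17, 11, 5],
   [9, 14, 19, 29, 23, 17, 12, 6], [10, 14, 19, 29, 23, 17, 11, 6], [10, 14, 20, 29, 23, 17, 11, 5],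
   [9, 15, 19, 29, 23, 17, 11, 6], [10, 15, 19, 29, 23, 17, 11, 5], [9, 14, 19, 29, 23, 17, 11, 6],
   [10, 14, 19, 29, 23, 17, 11, 5], [9, 15, 19, 29, 23, 17, 11, 5], [9, 14, 19, 29, 23, 17, 11, 5]]

/-- Parents: `crs[i+1] = reflC (par[i]).2 crs[(par[i]).1]`. -/
def par : List (ℕ × ℕ) :=
  [(0, 1), (0, 2), (0, 4), (1, 2), (1, 4), (2, 0), (2, 4), (3, 5), (4, 0), (4, 4), (5, 5), (6, 4), (7, 5), (8, 6),
   (9, 4), (10, 5), (11, 6), (12, 5), (13, 6), (14, 7), (15, 5), (16, 6), (17, 7), (18, 6), (19, 7), (21, 6),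
   (22, 7), (24, 7), (26, 7)]

/-- A weight function positive on the positive roots whose minima are attained on roots of least level:
`omLexE8 + 10^7 * levC`. -/
def wsC : List ℤ :=
  [104027144, 155267594, 207230745, 310417539, 248334338, 186250794, 124167201, 62083601]

/-- Nonzero entries do not lower the weight. -/
def Fil (w : chevE8.Idx → ℤ) (M : Matrix chevE8.Idx chevE8.Idx (ZMod 2)) : Prop :=
  ∀ i j, M i j ≠ 0 → w j ≤ w i

theorem Fil.mul {w : chevE8.Idx → ℤ} {M M' : Matrix chevE8.Idx chevE8.Idx (ZMod 2)} (h : Fil w M)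
    (h' : Fil w M') : Fil w (M * M') := by
  intro i j hij
  obtain ⟨l, h1, h2⟩ := exists_of_mul_ne_zero hij
  exact le_trans (h' l j h2) (h i l h1)

theorem Fil.one {w : chevE8.Idx → ℤ} : Fil w (1 : Matrix chevE8.Idx chevE8.Idx (ZMod 2)) := by
  intro i j hij
  by_cases h : i = j
  · rw [h]
  · exact absurd (Matrix.one_apply_ne h) hij

/-- The group of invertible matrices preserving the filtration of `w` (with their inverses). -/
def filtGroup (w : chevE8.Idx → ℤ) : Subgroup GLE where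
  carrier := {g | Fil w (g : Matrix chevE8.Idx chevE8.Idx (ZMod 2)) ∧
    Fil w ((g⁻¹ : GLE) : Matrix chevE8.Idx chevE8.Idx (ZMod 2))}
  mul_mem' := by
    rintro a b ⟨ha, ha'⟩ ⟨hb, hb'⟩
    refine ⟨by simpa using ha.mul hb, ?_⟩
    rw [_root_.mul_inv_rev]; simpa using hb'.mul ha'
  one_mem' := ⟨by simpa using Fil.one, by simpa using Fil.one⟩
  inv_mem' := by
    rintro a ⟨ha, ha'⟩
    exact ⟨ha', by simpa using ha⟩

/-- `Q k`: generated by the root subgroups of the positive roots of level `≥ k`. -/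
def Q (k : ℕ) : Subgroup GLE := rootGen chevE8 (ZMod 2) (fun r => chevE8.IsPosRoot r ∧ (k : ℤ) ≤ wN levC r)

/-- `Rk k`: the elements `u` of `U` with `u - 1` raising the level by more than `k`. -/
def Rk (k : ℕ) : Subgroup GLE := Up ⊓ raisGroupM (ZMod 2) (wt levC) (k : ℤ) (Int.natCast_nonneg k)

/-- Weight-diagonal matrices: supported on the diagonal and the `h`-block. -/
def WDiag (M : Matrix chevE8.Idx chevE8.Idx (ZMod 2)) : Prop :=
  ∀ a c, M a c ≠ 0 → a = c ∨ ∃ i j, a = Sum.inl i ∧ c = Sum.inl j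

/-! ## The pieces -/

/-- NOTIN. -/
def StNotin : Prop := nn 3 ∉ Pj

/-- BASIC: elementary facts. -/
def StBasic : Prop :=
  (∀ j < 8, nn j * nn j = 1) ∧ (∀ j < 8, j ≠ 3 → nn j ∈ Pj) ∧ (∀ j < 8, nn j ∈ GE) ∧ Pj ≤ GE ∧ Up ≤ Pj

/-- COAT: `P_J` is a maximal subgroup of `E8(2)` and is not normalized by `n_3`. -/
def StCoat : Prop := StNotin → ∀ hn : nn 3 ∈ GE, IsCoatom (Pj.subgroupOf GE) ∧
  (Pj.subgroupOf GE).map (MulAut.conj (⟨nn 3, hn⟩ : ↥GE)).toMonoidHom ≠ Pj.subgroupOf GE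

/-- LOWN: `Q k ⊴ P_J`. -/
def StLowN : Prop := ∀ k : ℕ, 1 ≤ k → Pj ≤ Subgroup.normalizer (Q k : Set GLE)

/-- LOWC: `Q (k+1) ≤ n_3 (Q k) n_3⁻¹`. -/
def StLowC : Prop := ∀ k : ℕ, 1 ≤ k → Q (k + 1) ≤ (Q k).map (MulAut.conj (nn 3)).toMonoidHom

/-- LOWT: `Q 6 ≠ 1`. -/
def StLowT : Prop := Q 6 ≠ ⊥

/-- LEVI: the Levi decomposition in graded form. -/
def StLevi : Prop := ∀ u ∈ Pj, ∃ v ∈ raisGroup (ZMod 2) (wt levC), ∃ l ∈ presGroup (ZMod 2) (wt levC),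
  v ∈ Up ∧ l ∈ GE ∧ u = v * l

/-- FILTP: `P_J` preserves the level filtration. -/
def StFiltP : Prop := Pj ≤ filtGroup (wt levC)

/-- GRAD: `n_j` is graded-monomial: it carries the `wt cr`-weight spaces to the `wt (reflC j cr)`-ones. -/
def StGrad : Prop := ∀ cr ∈ levC :: crs, ∀ j < 8, ∀ a c : chevE8.Idx,
  ((nn j : GLE) : Matrix chevE8.Idx chevE8.Idx (ZMod 2)) a c ≠ 0 →
    wt (reflC j cr) a = wt cr c ∧ wt cr a = wt (reflC j cr) c

/-- TAB: the table facts. -/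
def StTab : Prop :=
  (crs.length = 30 ∧ crs.getD 0 [] = reflC 3 levC ∧ (∀ j < 8, j ≠ 3 → reflC j levC = levC) ∧
    ∀ i < 29, (par.getD i (0, 0)).1 < i + 1 ∧ (par.getD i (0, 0)).2 < 8 ∧ (par.getD i (0, 0)).2 ≠ 3 ∧
      crs.getD (i + 1) [] = reflC (par.getD i (0, 0)).2 (crs.getD (par.getD i (0, 0)).1 [])) ∧
  (∀ c < 248, (crs.map fun cr => wN cr c).sum = 29 * wN levC c) ∧
  (∀ a < 248, ∀ c < 248, wN levC a = wN levC c → (∀ cr ∈ crs, wN cr c ≤ wN cr a) →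
    a = c ∨ (240 ≤ a ∧ 240 ≤ c)) ∧
  (∀ r < 240, chevE8.IsPosRoot r → wN levC r ≤ 1 → ∃ cr ∈ crs, 0 < wN cr (chevE8.neg r)) ∧
  (∀ r < 240, wN levC r ≤ 6) ∧
  (∀ r < 240, chevE8.IsPosRoot r → 0 ≤ wN levC r) ∧
  (∀ r < 240, chevE8.IsPosRoot r → 0 < wN wsC r) ∧
  (∀ r < 240, chevE8.IsPosRoot r → wN levC r ≤ 1 → ∀ s < 240, chevE8.IsPosRoot s → wN wsC s ≤ wN wsC r →
    wN levC s ≤ 1)

/-- WD: a weight-diagonal element of `E8(2)` is trivial. -/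
def StWD : Prop := ∀ l : GLE, l ∈ GE → WDiag (l : Matrix chevE8.Idx chevE8.Idx (ZMod 2)) →
  WDiag ((l⁻¹ : GLE) : Matrix chevE8.Idx chevE8.Idx (ZMod 2)) → l = 1

/-- LT: the leading term of an ordered product of positive root elements is visible in the
`(h_i, e_{-r})` entries. -/
def StLT : Prop := ∀ cw : List ℤ, (∀ r < 240, chevE8.IsPosRoot r → 0 < wN cw r) →
  ∀ (t : ℕ → ZMod 2) (r : ℕ), chevE8.IsPosRoot r → t r ≠ 0 →
    (∀ s, chevE8.IsPosRoot s → t s ≠ 0 → wN cw r ≤ wN cw s) →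
    ∃ (i : Fin chevE8.rank) (c : Fin chevE8.nroots), c.val = chevE8.neg r ∧
      ((tailW hS 0 t : GLE) : Matrix chevE8.Idx chevE8.Idx (ZMod 2)) (Sum.inl i) (Sum.inr c) ≠ 0

/-- The shape of a step of the upper bound. -/
def StepFrom (R R' : Subgroup GLE) : Prop :=
  ∀ N : Subgroup GLE, N ≤ Pj → (∀ p ∈ Pj, ∀ x ∈ N, p * x * p⁻¹ ∈ N) → N ≤ R →
    N ≤ R.map (MulAut.conj (nn 3)).toMonoidHom → N ≤ R'

/-- STEP0 (assembly). -/
def StStep0 : Prop := StBasic → StFiltP → StLevi → StGrad → StTab → StWD → StLT → StepFrom Pj (Rk 1)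

/-- STEPK (assembly). -/
def StStepK : Prop := StBasic → StGrad → StTab → ∀ k : ℕ, 1 ≤ k → StepFrom (Rk k) (Rk (k + 1))

/-- END (assembly). -/
def StEnd : Prop := StTab → StLT → Rk 6 = ⊥

/-- ABS: the abstract machine (pure group theory). -/
def StAbs : Prop := ∀ {Γ : Type} [Group Γ] (G₀ P : Subgroup Γ) (_ : P ≤ G₀) (n : Γ) (hnG : n ∈ G₀) (_ : n * n = 1)
  (_ : IsCoatom (P.subgroupOf G₀))
  (_ : (P.subgroupOf G₀).map (MulAut.conj (⟨n, hnG⟩ : ↥G₀)).toMonoidHom ≠ P.subgroupOf G₀)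
  (R Q : ℕ → Subgroup Γ) (_ : P ≤ R 0)
  (_ : ∀ i < 6, ∀ N : Subgroup Γ, N ≤ P → (∀ p ∈ P, ∀ x ∈ N, p * x * p⁻¹ ∈ N) → N ≤ R i →
    N ≤ (R i).map (MulAut.conj n).toMonoidHom → N ≤ R (i + 1))
  (_ : R 6 = ⊥) (_ : Q 0 ≤ P)
  (_ : ∀ i, Q (i + 1) ≤ Q i ∧ Q (i + 1) ≤ (Q i).map (MulAut.conj n).toMonoidHom ∧
    ∀ p ∈ P, ∀ x ∈ Q (i + 1), p * x * p⁻¹ ∈ Q (i + 1))
  (_ : Q 5 ≠ ⊥),
  ∃ (M₁ M₂ : Subgroup ↥G₀) (g : ↥G₀) (A B : ℕ → Subgroup ↥G₀),
    IsCoatom M₁ ∧ M₂ = M₁.map (MulAut.conj g).toMonoidHom ∧ M₁ ≠ M₂ ∧ M₁.normalCore = ⊥ ∧ A 0 = M₁ ∧ B 0 = M₂ ∧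
    (∀ i, A (i + 1) = ((A i ⊓ B i).subgroupOf M₁).normalCore.map M₁.subtype) ∧
    (∀ i, B (i + 1) = ((A i ⊓ B i).subgroupOf M₂).normalCore.map M₂.subtype) ∧ A 6 = ⊥ ∧ A 5 ≠ ⊥

end Cfsg.Agent.H23.Ic
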