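import Mathlib
import Cfsg.Prelude.Def_LocalStructure

/-!
# S3875 (helper23): base lemmas on `p`-closed groups

* `normal_of_le_normal`: a Sylow `p`-subgroup of `H` contained in a `p`-closed normal subgroup is
  normal in `H`.
* `normal_of_quot`: if `H ⧸ Z` and `P ⊔ Z` are `p`-closed then the Sylow `p`-subgroup `P` is normal.
-/

set_option autoImplicit false
set_option linter.unusedVariables false
set_option linter.style.haveILetI false

namespace Cfsg.Agent.H23.MinP

theorem normal_of_le_normal {H : Type*} [Group H] [Finite H] (p : ℕ) [Fact p.Prime]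
    (K : Subgroup H) [K.Normal] (hK : Cfsg.IsPClosed p ↥K) (P : Sylow p H)
    (hPK : (P : Subgroup H) ≤ K) : (P : Subgroup H).Normal := by
  have hn : ((P.subtype hPK : Sylow p K) : Subgroup K).Normal := hK (P.subtype hPK)
  haveI : ((P.subtype hPK : Sylow p K) : Subgroup K).Characteristic :=
    Sylow.characteristic_of_normal (P.subtype hPK) hn
  have h := ConjAct.normal_of_characteristic_of_normal (H := K)
    (K := ((P.subtype hPK : Sylow p K) : Subgroup K))
  have e : ((P.subtype hPK : Sylow p K) : Subgroup K).map K.subtype = P := by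
    rw [Sylow.coe_subtype]
    exact Subgroup.map_subgroupOf_eq_of_le hPK
  rw [← e]
  exact h

theorem normal_of_quot {H : Type*} [Group H] [Finite H] (p : ℕ) [Fact p.Prime]
    (Z : Subgroup H) [Z.Normal] (hq : Cfsg.IsPClosed p (H ⧸ Z)) (P : Sylow p H)
    (hPZ : Cfsg.IsPClosed p ↥((P : Subgroup H) ⊔ Z)) : (P : Subgroup H).Normal := by
  have hsurj : Function.Surjective (QuotientGroup.mk' Z) := QuotientGroup.mk'_surjective Z
  have hn : ((P.mapSurjective hsurj : Sylow p (H ⧸ Z)) : Subgroup (H ⧸ Z)).Normal :=
    hq (P.mapSurjective hsurj)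
  rw [Sylow.coe_mapSurjective] at hn
  have hc : (((P : Subgroup H).map (QuotientGroup.mk' Z)).comap (QuotientGroup.mk' Z)).Normal :=
    Subgroup.Normal.comap hn _
  rw [QuotientGroup.comap_map_mk'] at hc
  have hc' : ((P : Subgroup H) ⊔ Z).Normal := by rwa [sup_comm] at hc
  haveI := hc'
  exact normal_of_le_normal p ((P : Subgroup H) ⊔ Z) hPZ P le_sup_left

end Cfsg.Agent.H23.MinP
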