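import Mathlib
import Cfsg.Prelude.Def_LocalStructure
import Cfsg.Agent.H23.MinPBase
import Cfsg.Agent.H23.BRSyl

/-!
# S3875 (helper23): the least order of a group with non-normal Sylow `p`-subgroups

Assembly: `main` derives the statement of S3875 from the conclusion of S4701 (Brauer–Reynolds for
perfect groups) and seven independent pieces, each taken as a hypothesis.
-/

set_option autoImplicit false
set_option linter.unusedVariables false
set_option linter.style.haveILetI false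

namespace Cfsg.Agent.H23.MinP

/-- The statement of S4701 (universe 0). -/
def St4701 : Prop :=
  ∀ {G : Type} [Group G] [Finite G] (hperf : commutator G = ⊤) (p : ℕ) [Fact p.Prime]
    (hdvd : p ∣ Nat.card G) (hbig : Nat.card G < p ^ 3) (P : Sylow p G)
    (hP : ¬ (P : Subgroup G).Normal) (h2 : ∀ N : Subgroup G, N.Normal → Nat.card N ≠ 2),
    (∃ (F : Type) (_ : Field F) (_ : Fintype F), Fintype.card F = p ∧ 3 < p ∧
        Nonempty (G ≃* Matrix.ProjectiveSpecialLinearGroup (Fin 2) F)) ∨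
      (∃ (m : ℕ) (F : Type) (_ : Field F) (_ : Fintype F), Fintype.card F = 2 ^ m ∧
        p = 2 ^ m + 1 ∧ 3 < p ∧ Nonempty (G ≃* Matrix.SpecialLinearGroup (Fin 2) F))

def StExF : Prop :=
  ∀ (p : ℕ) [Fact p.Prime] (m : ℕ) (hm : IsPrimePow m) (hm1 : m % p = 1),
    ∃ (H : Type) (_ : Group H) (_ : Finite H), Nat.card H = p * m ∧ ¬ Cfsg.IsPClosed p H

def StExP : Prop :=
  ∀ (p : ℕ) [Fact p.Prime] (h3 : 3 < p),
    ∃ (H : Type) (_ : Group H) (_ : Finite H), Nat.card H = p * (p ^ 2 - 1) / 2 ∧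
      ¬ Cfsg.IsPClosed p H

def StOrd : Prop :=
  ∀ {G : Type} [Group G] [Finite G] (p : ℕ) [Fact p.Prime]
    (h : (∃ (F : Type) (_ : Field F) (_ : Fintype F), Fintype.card F = p ∧ 3 < p ∧
        Nonempty (G ≃* Matrix.ProjectiveSpecialLinearGroup (Fin 2) F)) ∨
      (∃ (m : ℕ) (F : Type) (_ : Field F) (_ : Fintype F), Fintype.card F = 2 ^ m ∧
        p = 2 ^ m + 1 ∧ 3 < p ∧ Nonempty (G ≃* Matrix.SpecialLinearGroup (Fin 2) F))),
    p * (p ^ 2 - 1) / 2 ≤ Nat.card G

def StIdx : Prop :=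
  ∀ {H : Type} [Group H] [Finite H] (p : ℕ) [Fact p.Prime]
    (P : Sylow p H) (hP : Nat.card (P : Subgroup H) = p)
    (hPc : ¬ (P : Subgroup H) ≤ commutator H),
    ∃ N : Subgroup H, N.Normal ∧ N.index = p

def StFrat : Prop :=
  ∀ {H : Type} [Group H] [Finite H] (p : ℕ) [Fact p.Prime]
    (P : Sylow p H) (hP : Nat.card (P : Subgroup H) = p) (N : Subgroup H) [N.Normal]
    (hN : N.index = p) (q : ℕ) [Fact q.Prime] (hq : q ≠ p),
    ∃ Q : Sylow q H, (P : Subgroup H) ≤ Subgroup.normalizer ((Q : Subgroup H) : Set H)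

def StCnt : Prop :=
  ∀ {H : Type} [Group H] [Finite H] (M : Subgroup H)
    (h : ∀ q : ℕ, q.Prime → ∃ Q : Sylow q H, (Q : Subgroup H) ≤ M), M = ⊤

def StFix : Prop :=
  ∀ {H : Type} [Group H] [Finite H] (p : ℕ) [Fact p.Prime]
    (hmin : ∀ (K : Type) [Group K] [Finite K], Nat.card K < Nat.card H → Cfsg.IsPClosed p K)
    (P : Sylow p H) (hP : Nat.card (P : Subgroup H) = p) (hPn : ¬ (P : Subgroup H).Normal)
    (q : ℕ) [Fact q.Prime] (hq : q ≠ p) (Q : Sylow q H) (hQ : (Q : Subgroup H).Normal)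
    (hQP : (Q : Subgroup H) ⊔ (P : Subgroup H) = ⊤),
    ∃ k : ℕ, IsPrimePow k ∧ k % p = 1 ∧ k ≤ Nat.card (Q : Subgroup H)

theorem card_lt_of_ne_top {H : Type*} [Group H] [Finite H] (K : Subgroup H) (h : K ≠ ⊤) :
    Nat.card K < Nat.card H :=
  lt_of_le_of_ne (Subgroup.card_le_card_group K) (fun e => h (Subgroup.eq_top_of_card_eq K e))

theorem card_quot_lt_of_ne_bot {H : Type*} [Group H] [Finite H] (Z : Subgroup H) [Z.Normal]
    (h : Z ≠ ⊥) : Nat.card (H ⧸ Z) < Nat.card H := by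
  have h1 : 1 < Nat.card Z := (Subgroup.one_lt_card_iff_ne_bot Z).mpr h
  have h2 := Subgroup.card_mul_index Z
  have h3 : Z.index = Nat.card (H ⧸ Z) := rfl
  have h4 : 0 < Z.index := Nat.pos_of_ne_zero Subgroup.index_ne_zero_of_finite
  rw [← h3, ← h2]
  nlinarith

/-- In a perfect group `H` with a Sylow `p`-subgroup `P` of odd prime order `p`, and a normal
subgroup `Z` of order 2: `P ⊔ Z ≠ ⊤`. -/
theorem sup_ne_top_of_perfect {H : Type*} [Group H] [Finite H] (p : ℕ) [Fact p.Prime]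
    (hp : p ≠ 2) (hperf : commutator H = ⊤) (hdvd : p ∣ Nat.card H) (P : Sylow p H)
    (hP : Nat.card (P : Subgroup H) = p) (Z : Subgroup H) [Z.Normal] (hZ : Nat.card Z = 2) :
    (P : Subgroup H) ⊔ Z ≠ ⊤ := by
  intro htop
  have hpp : p.Prime := Fact.out
  have hmap : (P : Subgroup H).map (QuotientGroup.mk' Z) = ⊤ := by
    have h1 : ((P : Subgroup H) ⊔ Z).map (QuotientGroup.mk' Z) = ⊤ := by
      rw [htop]
      exact Subgroup.map_top_of_surjective _ (QuotientGroup.mk'_surjective Z)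
    rwa [Subgroup.map_sup, QuotientGroup.map_mk'_self, sup_bot_eq] at h1
  haveI hcyc : IsCyclic (P : Subgroup H) := isCyclic_of_prime_card hP
  have hcomm : IsMulCommutative (H ⧸ Z) := ⟨⟨fun a b => by
    have ha : a ∈ (P : Subgroup H).map (QuotientGroup.mk' Z) := hmap ▸ Subgroup.mem_top a
    have hb : b ∈ (P : Subgroup H).map (QuotientGroup.mk' Z) := hmap ▸ Subgroup.mem_top b
    obtain ⟨x, hx, rfl⟩ := ha
    obtain ⟨y, hy, rfl⟩ := hb
    obtain ⟨g, hg⟩ := IsCyclic.exists_generator (α := (P : Subgroup H))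
    obtain ⟨i, hi⟩ := Subgroup.mem_zpowers_iff.mp (hg ⟨x, hx⟩)
    obtain ⟨j, hj⟩ := Subgroup.mem_zpowers_iff.mp (hg ⟨y, hy⟩)
    have hxy : x * y = y * x := by
      have e1 : x = ((g ^ i : (P : Subgroup H)) : H) := by rw [hi]
      have e2 : y = ((g ^ j : (P : Subgroup H)) : H) := by rw [hj]
      rw [e1, e2, ← Subgroup.coe_mul, ← Subgroup.coe_mul, ← zpow_add, ← zpow_add, add_comm]
    rw [← map_mul, ← map_mul, hxy]⟩⟩
  have hle : commutator H ≤ Z :=
    Subgroup.Normal.quotient_commutative_iff_commutator_le.mp hcomm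
  rw [hperf] at hle
  have hZtop : Z = ⊤ := top_le_iff.mp hle
  have hc : Nat.card H = 2 := by
    rw [← hZ, hZtop, Subgroup.card_top]
  rw [hc] at hdvd
  exact hp ((Nat.prime_dvd_prime_iff_eq hpp Nat.prime_two).mp hdvd)

theorem lower (h4701 : St4701) (hOrd : StOrd) (hIdx : StIdx) (hFrat : StFrat) (hCnt : StCnt)
    (hFix : StFix) (p : ℕ) [Fact p.Prime] (hp : p ≠ 2) (m : ℕ)
    (hleast : ∀ k : ℕ, IsPrimePow k → k % p = 1 → m ≤ k) :
    ∀ (n : ℕ) (H : Type) [Group H] [Finite H], Nat.card H = n → ¬ Cfsg.IsPClosed p H →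
      min (p * m) (p * (p ^ 2 - 1) / 2) ≤ n := by
  have hpp : p.Prime := Fact.out
  intro n
  induction n using Nat.strong_induction_on with
  | _ n ih =>
  intro H _ _ hn hnc
  by_contra hlt
  have hlt : n < min (p * m) (p * (p ^ 2 - 1) / 2) := not_le.mp hlt
  have hminL := min_le_left (p * m) (p * (p ^ 2 - 1) / 2)
  have hminR := min_le_right (p * m) (p * (p ^ 2 - 1) / 2)
  have hmin : ∀ (K : Type) [Group K] [Finite K], Nat.card K < Nat.card H →
      Cfsg.IsPClosed p K := by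
    intro K _ _ hK
    by_contra hKc
    have h1 := ih (Nat.card K) (hn ▸ hK) K rfl hKc
    omega
  obtain ⟨P, hPn⟩ : ∃ P : Sylow p H, ¬ (P : Subgroup H).Normal := by
    unfold Cfsg.IsPClosed at hnc
    exact not_forall.mp hnc
  have hM3 : p * (p ^ 2 - 1) / 2 < p ^ 3 := by
    have h1 : p * (p ^ 2 - 1) / 2 ≤ p * (p ^ 2 - 1) := Nat.div_le_self _ _
    have h2 : p ^ 2 - 1 < p ^ 2 := by
      have : 1 ≤ p ^ 2 := Nat.one_le_pow _ _ hpp.pos
      omega
    have h3 : p * (p ^ 2 - 1) < p * p ^ 2 := Nat.mul_lt_mul_of_pos_left h2 hpp.pos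
    have h4 : p * p ^ 2 = p ^ 3 := by ring
    omega
  have hbig : Nat.card H < p ^ 3 := by omega
  have hdvd : p ∣ Nat.card H := by
    by_contra hnd
    have h1 : Nat.card (P : Subgroup H) = 1 := by
      rw [P.card_eq_multiplicity, Nat.factorization_eq_zero_of_not_dvd hnd, pow_zero]
    have hbot : (P : Subgroup H) = ⊥ := Subgroup.card_eq_one.mp h1
    apply hPn
    rw [hbot]
    exact Subgroup.normal_bot
  have hP : Nat.card (P : Subgroup H) = p :=
    Cfsg.Agent.H23.BR.sylow_card p hdvd hbig P hPn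
  by_cases hperf : commutator H = ⊤
  · -- perfect case
    have h2 : ∀ N : Subgroup H, N.Normal → Nat.card N ≠ 2 := by
      intro Z hZ hZ2
      haveI := hZ
      apply hPn
      have hZne : Z ≠ ⊥ := by
        intro e
        rw [e, Subgroup.card_bot] at hZ2
        omega
      exact normal_of_quot p Z (hmin _ (card_quot_lt_of_ne_bot Z hZne)) P
        (hmin _ (card_lt_of_ne_top _ (sup_ne_top_of_perfect p hp hperf hdvd P hP Z hZ2)))
    have h := h4701 hperf p hdvd hbig P hPn h2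
    have h5 := hOrd p h
    omega
  · -- non-perfect case
    have hPc : ¬ (P : Subgroup H) ≤ commutator H := by
      intro hle
      exact hPn (normal_of_le_normal p (commutator H) (hmin _ (card_lt_of_ne_top _ hperf)) P hle)
    obtain ⟨N, hNn, hNi⟩ := hIdx p P hP hPc
    haveI := hNn
    by_cases hex : ∃ (q : ℕ) (hq : q.Prime) (Q : Sylow q H), q ≠ p ∧
        (P : Subgroup H) ≤ Subgroup.normalizer ((Q : Subgroup H) : Set H) ∧
        (Q : Subgroup H) ⊔ (P : Subgroup H) = ⊤
    · obtain ⟨q, hqp, Q, hqne, hPQ, htop⟩ := hex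
      haveI : Fact q.Prime := ⟨hqp⟩
      have hQn : (Q : Subgroup H).Normal := by
        have h1 : (Q : Subgroup H) ≤ Subgroup.normalizer ((Q : Subgroup H) : Set H) :=
          Subgroup.le_normalizer
        have h2 : Subgroup.normalizer ((Q : Subgroup H) : Set H) = ⊤ :=
          top_le_iff.mp (htop ▸ sup_le h1 hPQ)
        exact Subgroup.normalizer_eq_top_iff.mp h2
      obtain ⟨k, hk, hk1, hkle⟩ := hFix p hmin P hP hPn q hqne Q hQn htop
      have hmk : m ≤ k := hleast k hk hk1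
      have hd1 : Nat.card (Q : Subgroup H) ∣ Nat.card H := Subgroup.card_subgroup_dvd_card _
      have hcop : Nat.Coprime p (Nat.card (Q : Subgroup H)) := by
        rw [Q.card_eq_multiplicity]
        exact Nat.Coprime.pow_right _ ((Nat.coprime_primes hpp hqp).mpr (Ne.symm hqne))
      have hd : p * Nat.card (Q : Subgroup H) ∣ Nat.card H :=
        Nat.Coprime.mul_dvd_of_dvd_of_dvd hcop hdvd hd1
      have hle := Nat.le_of_dvd Nat.card_pos hd
      have h6 : p * m ≤ p * Nat.card (Q : Subgroup H) :=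
        Nat.mul_le_mul_left p (hmk.trans hkle)
      omega
    · have hex' : ∀ (q : ℕ) (hq : q.Prime) (Q : Sylow q H), q ≠ p →
          (P : Subgroup H) ≤ Subgroup.normalizer ((Q : Subgroup H) : Set H) →
          (Q : Subgroup H) ⊔ (P : Subgroup H) ≠ ⊤ := by
        intro q hq Q h1 h2 h3
        exact hex ⟨q, hq, Q, h1, h2, h3⟩
      have htop : Subgroup.normalizer ((P : Subgroup H) : Set H) = ⊤ := by
        apply hCnt
        intro q hqp
        by_cases hqe : q = p
        · subst hqe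
          exact ⟨P, Subgroup.le_normalizer⟩
        · haveI : Fact q.Prime := ⟨hqp⟩
          obtain ⟨Q, hPQ⟩ := hFrat p P hP N hNi q hqe
          refine ⟨Q, ?_⟩
          have hne : (Q : Subgroup H) ⊔ (P : Subgroup H) ≠ ⊤ := hex' q hqp Q hqe hPQ
          have hcl : Cfsg.IsPClosed p ↥((Q : Subgroup H) ⊔ (P : Subgroup H)) :=
            hmin _ (card_lt_of_ne_top _ hne)
          have hPle : (P : Subgroup H) ≤ (Q : Subgroup H) ⊔ (P : Subgroup H) := le_sup_right
          have hn := hcl (P.subtype hPle)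
          rw [Sylow.coe_subtype] at hn
          have h7 : (Q : Subgroup H) ⊔ (P : Subgroup H) ≤
              Subgroup.normalizer ((P : Subgroup H) : Set H) :=
            (Subgroup.normal_subgroupOf_iff_le_normalizer hPle).mp hn
          exact le_sup_left.trans h7
      exact hPn (Subgroup.normalizer_eq_top_iff.mp htop)

theorem upper (hExF : StExF) (hExP : StExP) (p : ℕ) [Fact p.Prime] (hp : p ≠ 2) (m : ℕ)
    (hm : IsPrimePow m) (hm1 : m % p = 1)
    (hleast : ∀ k : ℕ, IsPrimePow k → k % p = 1 → m ≤ k) :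
    ∃ (H : Type) (_ : Group H) (_ : Finite H),
      Nat.card H = min (p * m) (p * (p ^ 2 - 1) / 2) ∧ ¬ Cfsg.IsPClosed p H := by
  have hpp : p.Prime := Fact.out
  by_cases h : p * m ≤ p * (p ^ 2 - 1) / 2
  · rw [min_eq_left h]
    exact hExF p m hm hm1
  · rw [min_eq_right (le_of_not_ge h)]
    have h3 : 3 < p := by
      by_contra hcon
      have h2 : 2 ≤ p := hpp.two_le
      have hp3 : p = 3 := by omega
      subst hp3
      have h4 : m ≤ 4 := hleast 4 ⟨2, 2, Nat.prime_two.prime, by norm_num, by norm_num⟩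
        (by norm_num)
      apply h
      norm_num
      omega
    exact hExP p h3

theorem main (h4701 : St4701) (hExF : StExF) (hExP : StExP) (hOrd : StOrd) (hIdx : StIdx)
    (hFrat : StFrat) (hCnt : StCnt) (hFix : StFix)
    (p : ℕ) [Fact p.Prime] (hp : p ≠ 2) (m : ℕ) (hm : IsPrimePow m) (hm1 : m % p = 1)
    (hleast : ∀ k : ℕ, IsPrimePow k → k % p = 1 → m ≤ k) :
    (∀ (H : Type) [Group H] [Finite H], ¬ Cfsg.IsPClosed p H →
        min (p * m) (p * (p ^ 2 - 1) / 2) ≤ Nat.card H) ∧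
      ∃ (H : Type) (_ : Group H) (_ : Finite H),
        Nat.card H = min (p * m) (p * (p ^ 2 - 1) / 2) ∧ ¬ Cfsg.IsPClosed p H :=
  ⟨fun H _ _ hnc => lower h4701 hOrd hIdx hFrat hCnt hFix p hp m hleast (Nat.card H) H rfl hnc,
    upper hExF hExP p hp m hm hm1 hleast⟩

end Cfsg.Agent.H23.MinP
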