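import Mathlib
import Cfsg.Prelude.Def_LocalStructure
import Cfsg.Agent.H23.MinPMain
import Cfsg.Agent.H3.P3Cnt
import Cfsg.Agent.H3.P3Idx
import Cfsg.Agent.H3.P3Frat
import Cfsg.Agent.H62.PCExF
import Cfsg.Agent.H70.P3Fix
import Cfsg.Agent.H71.P3Ord

/-!
# S3875 (helper23): the statement from the conclusion of S4701, with all seven pieces plugged in

Pieces: helper3 (CNT, IDX, FRAT), helper62 (EXF), helper70 (FIX), helper71 (ORD, EXP).
-/

set_option autoImplicit false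

namespace Cfsg.Agent.H23.MinP

theorem s3875_of (h4701 : St4701) (p : ℕ) [Fact p.Prime] (hp : p ≠ 2) (m : ℕ)
    (hm : IsPrimePow m) (hm1 : m % p = 1)
    (hleast : ∀ k : ℕ, IsPrimePow k → k % p = 1 → m ≤ k) :
    (∀ (H : Type) [Group H] [Finite H], ¬ Cfsg.IsPClosed p H →
        min (p * m) (p * (p ^ 2 - 1) / 2) ≤ Nat.card H) ∧
      ∃ (H : Type) (_ : Group H) (_ : Finite H),
        Nat.card H = min (p * m) (p * (p ^ 2 - 1) / 2) ∧ ¬ Cfsg.IsPClosed p H :=
  main h4701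
    (fun p _ m hm hm1 => Cfsg.Agent.H62.PC.exists_frob p m hm hm1)
    (fun p _ h3 => Cfsg.Agent.H71.P3.exists_psl p h3)
    (fun p _ h => Cfsg.Agent.H71.P3.card_ge_of_iso p h)
    (fun p _ P hP hPc => Cfsg.Agent.H3.P3.exists_normal_index p P hP hPc)
    (fun p _ P hP N _ hN q _ hq => Cfsg.Agent.H3.P3.exists_invariant_sylow p P hP N hN q hq)
    (fun M h => Cfsg.Agent.H3.P3.eq_top_of_sylows_le M h)
    (fun p _ hmin P hP hPn q _ hq Q hQ hQP =>
      Cfsg.Agent.H70.P3Fix.exists_primePow_le p hmin P hP hPn q hq Q hQ hQP)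
    p hp m hm hm1 hleast

end Cfsg.Agent.H23.MinP
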