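import Cfsg.Agent.H23.SdGlue
import Cfsg.Agent.H23.SylowU
import Cfsg.Agent.H23.CanonTab

/-!
# S2156: the table facts of type `D4` (helper23; generated)
-/

set_option autoImplicit false
set_option maxRecDepth 100000

namespace Cfsg.Agent.H23.StbD

open Cfsg.Lie Cfsg.Agent.H23 Cfsg.Agent.H23.Stb

universe u

/-- The packed tables (4 bits per root, offset 8) of the coefficients of the fundamental roots. -/
def sdM_D4 : List ℕ :=
  [47536897193734170364815570807,
   52488652943328836873175398262,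
   47535608301283498704566257527,
   47517474396691218076491348087]

/-- `2` times the inverse of the Cartan matrix. -/
def sdB_D4 : List (List ℤ) :=
  [[2, 2, 1, 1],
   [2, 4, 2, 2],
   [1, 2, 2, 1],
   [1, 2, 1, 2]]

/-- The exponent function of type `D4`. -/
abbrev sdz_D4 : ℕ → ℕ → ℤ := zR chevD4 ctblD4

/-- The signs of type `D4`. -/
abbrev sdeta_D4 : ℕ → ℕ → ℤ := fun i s => etaBit (etaD4.getD i 0) s

/-- The coefficient of the `i`-th fundamental root in the weight of the index `c`. -/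
def sdm_D4 (i c : ℕ) : ℤ := zS (sdM_D4.getD i 0) chevD4.nroots c

/-- The symmetry `-w₀` of the diagram. -/
def sdtau_D4 : ℕ → ℕ := fun i => i

theorem sdPack_D4 (F : Type u) [Field F] : PackS chevD4 F sdz_D4 sdeta_D4 rTD4 w0D4 :=
  ⟨⟨chk_D4.sem F, nconj_D4.semN chk_D4.tblOK F, comm_D4.semC chk_D4.tblOK F, tab_D4, tabC_D4,
    etaNeg_D4, tab2_D4⟩, trin_D4.semV chk_D4.tblOK F, tabT_D4, tabL_D4, tabW_D4⟩

theorem sdCoordEq_D4 : ∀ i < chevD4.rank, ∀ c < chevD4.nroots,
    (2 : ℤ) * zS (sdM_D4.getD i 0) chevD4.nroots c =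
      ((List.range chevD4.rank).map
        (fun j => ((sdB_D4.getD i []).getD j 0) * zR chevD4 ctblD4 (chevD4.simple j) c)).sum := by
  decide +kernel

theorem sdCoord_D4_simple : ∀ i < chevD4.rank, ∀ j < chevD4.rank,
    sdm_D4 i (chevD4.simple j) = if i = j then 1 else 0 := by decide +kernel

theorem sdCoord_D4_neg : ∀ i < chevD4.rank, ∀ j < chevD4.rank,
    sdm_D4 i (chevD4.neg (chevD4.simple j)) = if i = j then -1 else 0 := by decide +kernel

theorem sdCoord_D4_cartan : ∀ i < chevD4.rank, ∀ k < chevD4.rank, sdm_D4 i (chevD4.nroots + k) = 0 := by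
  decide +kernel

theorem sdCoord_D4 : Coord chevD4 sdm_D4 where
  adm := fun i hi =>
    coord_adm_of_comb chevD4 ctblD4 (chk_D4.sem ℚ).zadm _ 2 (by norm_num) (sdB_D4.getD i [])
      (sdCoordEq_D4 i hi)
  simple := sdCoord_D4_simple
  neg := sdCoord_D4_neg
  cartan := sdCoord_D4_cartan

theorem sdT_D4_tau : (∀ i < chevD4.rank, sdtau_D4 i < chevD4.rank) ∧ (∀ i < chevD4.rank, sdtau_D4 (sdtau_D4 i) = i) := by
  decide +kernel

theorem sdT_D4_w0 : ∀ i < chevD4.rank, reflW chevD4 w0D4 (chevD4.neg (chevD4.simple i)) = chevD4.simple (sdtau_D4 i) := by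
  decide +kernel

set_option synthInstance.maxSize 4096 in
set_option synthInstance.maxHeartbeats 400000 in
theorem sdT_D4_ct1 : ∀ i < chevD4.rank, ∀ j < chevD4.rank, i ≠ j →
    chevD4.commTerms (chevD4.neg (chevD4.simple i)) (chevD4.simple j) = [] := by
  decide +kernel

set_option synthInstance.maxSize 4096 in
set_option synthInstance.maxHeartbeats 400000 in
theorem sdT_D4_ct2 : ∀ i < chevD4.rank, ∀ j < chevD4.rank, i ≠ j → sdz_D4 (chevD4.simple j) (chevD4.simple i) = 0 →
    chevD4.commTerms (chevD4.simple i) (chevD4.simple j) = [] := by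
  decide +kernel

theorem sdT_D4_refl1 : ∀ i < chevD4.rank, ∀ j < chevD4.rank, i ≠ j → sdz_D4 (chevD4.simple j) (chevD4.simple i) ≠ 0 →
    chevD4.reflectRoot i (chevD4.simple j) ≠ chevD4.simple j := by
  decide +kernel

theorem sdT_D4_refl2 : ∀ i < chevD4.rank, chevD4.reflectRoot i (chevD4.simple i) = chevD4.neg (chevD4.simple i) := by
  decide +kernel

theorem sdT_D4_cartan : ∀ i < chevD4.rank, ∀ j < chevD4.rank,
    chevD4.cartan i (chevD4.simple j) = sdz_D4 (chevD4.simple i) (chevD4.simple j) := by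
  decide +kernel

theorem sdT_D4_hA : ∀ i < chevD4.rank, ∀ j < chevD4.rank, i ≠ j → sdz_D4 (chevD4.simple j) (chevD4.simple i) ≠ 0 →
    sdz_D4 (chevD4.simple j) (chevD4.simple i) =
      if chevD4.isLong (chevD4.simple i) && !chevD4.isLong (chevD4.simple j) then -(((2 : ℕ)) : ℤ) else -1 := by
  decide +kernel

theorem sdT_D4_conn : connOK chevD4 sdz_D4 [0, 0] [(0, 1), (1, 2), (1, 3)] = true := by decide +kernel

theorem sdT_D4_short : ∀ i < chevD4.rank, chevD4.isLong (chevD4.simple i) = false := by decide +kernel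

theorem sdT_D4_edge : sdz_D4 (chevD4.simple 1) (chevD4.simple 0) = -1 := by decide +kernel

theorem sdT_D4_chain : ∀ r < chevD4.nroots, chainRowOK chevD4 r = true := by decide +kernel

theorem sdTab_D4 : SdTab chevD4 sdz_D4 w0D4 sdtau_D4 2 0 0 [(0, 1), (1, 2), (1, 3)] where
  tau_lt := sdT_D4_tau.1
  tau_tau := sdT_D4_tau.2
  w0 := sdT_D4_w0
  ct1 := sdT_D4_ct1
  ct2 := sdT_D4_ct2
  refl1 := sdT_D4_refl1
  refl2 := sdT_D4_refl2
  cartan := sdT_D4_cartan
  hc := Or.inl rfl
  hA := sdT_D4_hA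
  bL_lt := by decide
  bS_lt := by decide
  conn := sdT_D4_conn
  base := Or.inr ⟨sdT_D4_short, rfl⟩
  edge := ⟨0, by decide, 1, by decide, by decide, sdT_D4_edge⟩
  pitype := Or.inl sdT_D4_short
  chain := sdT_D4_chain

/-- **S2156 for type `D4`.** -/
theorem sd_D4 : StType.{u} chevD4 :=
  stType_of_tab chevD4 sdz_D4 sdeta_D4 rTD4 w0D4 sdtau_D4 sdm_D4 2 0 0 [(0, 1), (1, 2), (1, 3)]
    sdPack_D4 (fun F _ _ p _ _ => exists_sylow_posUnipotent p chevD4 (by simp)) sdTab_D4 sdCoord_D4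

end Cfsg.Agent.H23.StbD
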