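import Cfsg.Agent.H23.SdGlue
import Cfsg.Agent.H23.SylowU
import Cfsg.Agent.H23.CanonTab

/-!
# S2156: the table facts of type `E6` (helper23; generated)
-/

set_option autoImplicit false
set_option maxRecDepth 100000

namespace Cfsg.Agent.H23.StbD

open Cfsg.Lie Cfsg.Agent.H23 Cfsg.Agent.H23.Stb

universe u

/-- The packed tables (4 bits per root, offset 8) of the coefficients of the fundamental roots. -/
def sdM_E6 : List ℕ :=
  [298393941845871985291432019110282461407295889472607321752702576507725096925841537333111,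
   329476644121481765792868972231792325706952284847845039961545406022960800321367512151926,
   331548792654231260340152454993818712252960324946492312585316473161824998573482087704166,
   364574195433309015903542402453985009331868763170955778988721932322751281739696060130901,
   331540759462220055407321796885384986505371559889278958411500922444160517594914115516006,
   298393467445201679819143379856104923753039085013125730722303697847485807812229669091191]

/-- `3` times the inverse of the Cartan matrix. -/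
def sdB_E6 : List (List ℤ) :=
  [[4, 3, 5, 6, 4, 2],
   [3, 6, 6, 9, 6, 3],
   [5, 6, 10, 12, 8, 4],
   [6, 9, 12, 18, 12, 6],
   [4, 6, 8, 12, 10, 5],
   [2, 3, 4, 6, 5, 4]]

/-- The exponent function of type `E6`. -/
abbrev sdz_E6 : ℕ → ℕ → ℤ := zR chevE6 ctblE6

/-- The signs of type `E6`. -/
abbrev sdeta_E6 : ℕ → ℕ → ℤ := fun i s => etaBit (etaE6.getD i 0) s

/-- The coefficient of the `i`-th fundamental root in the weight of the index `c`. -/
def sdm_E6 (i c : ℕ) : ℤ := zS (sdM_E6.getD i 0) chevE6.nroots c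

/-- The symmetry `-w₀` of the diagram. -/
def sdtau_E6 : ℕ → ℕ := fun i => ([5, 1, 4, 3, 2, 0] : List ℕ).getD i 0

theorem sdPack_E6 (F : Type u) [Field F] : PackS chevE6 F sdz_E6 sdeta_E6 rTE6 w0E6 :=
  ⟨⟨chk_E6.sem F, nconj_E6.semN chk_E6.tblOK F, comm_E6.semC chk_E6.tblOK F, tab_E6, tabC_E6,
    etaNeg_E6, tab2_E6⟩, trin_E6.semV chk_E6.tblOK F, tabT_E6, tabL_E6, tabW_E6⟩

theorem sdCoordEq_E6 : ∀ i < chevE6.rank, ∀ c < chevE6.nroots,
    (3 : ℤ) * zS (sdM_E6.getD i 0) chevE6.nroots c =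
      ((List.range chevE6.rank).map
        (fun j => ((sdB_E6.getD i []).getD j 0) * zR chevE6 ctblE6 (chevE6.simple j) c)).sum := by
  decide +kernel

theorem sdCoord_E6_simple : ∀ i < chevE6.rank, ∀ j < chevE6.rank,
    sdm_E6 i (chevE6.simple j) = if i = j then 1 else 0 := by decide +kernel

theorem sdCoord_E6_neg : ∀ i < chevE6.rank, ∀ j < chevE6.rank,
    sdm_E6 i (chevE6.neg (chevE6.simple j)) = if i = j then -1 else 0 := by decide +kernel

theorem sdCoord_E6_cartan : ∀ i < chevE6.rank, ∀ k < chevE6.rank, sdm_E6 i (chevE6.nroots + k) = 0 := by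
  decide +kernel

theorem sdCoord_E6 : Coord chevE6 sdm_E6 where
  adm := fun i hi =>
    coord_adm_of_comb chevE6 ctblE6 (chk_E6.sem ℚ).zadm _ 3 (by norm_num) (sdB_E6.getD i [])
      (sdCoordEq_E6 i hi)
  simple := sdCoord_E6_simple
  neg := sdCoord_E6_neg
  cartan := sdCoord_E6_cartan

theorem sdT_E6_tau : (∀ i < chevE6.rank, sdtau_E6 i < chevE6.rank) ∧ (∀ i < chevE6.rank, sdtau_E6 (sdtau_E6 i) = i) := by
  decide +kernel

theorem sdT_E6_w0 : ∀ i < chevE6.rank, reflW chevE6 w0E6 (chevE6.neg (chevE6.simple i)) = chevE6.simple (sdtau_E6 i) := by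
  decide +kernel

set_option synthInstance.maxSize 4096 in
set_option synthInstance.maxHeartbeats 400000 in
theorem sdT_E6_ct1 : ∀ i < chevE6.rank, ∀ j < chevE6.rank, i ≠ j →
    chevE6.commTerms (chevE6.neg (chevE6.simple i)) (chevE6.simple j) = [] := by
  decide +kernel

set_option synthInstance.maxSize 4096 in
set_option synthInstance.maxHeartbeats 400000 in
theorem sdT_E6_ct2 : ∀ i < chevE6.rank, ∀ j < chevE6.rank, i ≠ j → sdz_E6 (chevE6.simple j) (chevE6.simple i) = 0 →
    chevE6.commTerms (chevE6.simple i) (chevE6.simple j) = [] := by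
  decide +kernel

theorem sdT_E6_refl1 : ∀ i < chevE6.rank, ∀ j < chevE6.rank, i ≠ j → sdz_E6 (chevE6.simple j) (chevE6.simple i) ≠ 0 →
    chevE6.reflectRoot i (chevE6.simple j) ≠ chevE6.simple j := by
  decide +kernel

theorem sdT_E6_refl2 : ∀ i < chevE6.rank, chevE6.reflectRoot i (chevE6.simple i) = chevE6.neg (chevE6.simple i) := by
  decide +kernel

theorem sdT_E6_cartan : ∀ i < chevE6.rank, ∀ j < chevE6.rank,
    chevE6.cartan i (chevE6.simple j) = sdz_E6 (chevE6.simple i) (chevE6.simple j) := by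
  decide +kernel

theorem sdT_E6_hA : ∀ i < chevE6.rank, ∀ j < chevE6.rank, i ≠ j → sdz_E6 (chevE6.simple j) (chevE6.simple i) ≠ 0 →
    sdz_E6 (chevE6.simple j) (chevE6.simple i) =
      if chevE6.isLong (chevE6.simple i) && !chevE6.isLong (chevE6.simple j) then -(((2 : ℕ)) : ℤ) else -1 := by
  decide +kernel

theorem sdT_E6_conn : connOK chevE6 sdz_E6 [0, 0] [(0, 2), (2, 3), (3, 1), (3, 4), (4, 5)] = true := by decide +kernel

theorem sdT_E6_short : ∀ i < chevE6.rank, chevE6.isLong (chevE6.simple i) = false := by decide +kernel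

theorem sdT_E6_edge : sdz_E6 (chevE6.simple 2) (chevE6.simple 0) = -1 := by decide +kernel

theorem sdT_E6_chain : ∀ r < chevE6.nroots, chainRowOK chevE6 r = true := by decide +kernel

theorem sdTab_E6 : SdTab chevE6 sdz_E6 w0E6 sdtau_E6 2 0 0 [(0, 2), (2, 3), (3, 1), (3, 4), (4, 5)] where
  tau_lt := sdT_E6_tau.1
  tau_tau := sdT_E6_tau.2
  w0 := sdT_E6_w0
  ct1 := sdT_E6_ct1
  ct2 := sdT_E6_ct2
  refl1 := sdT_E6_refl1
  refl2 := sdT_E6_refl2
  cartan := sdT_E6_cartan
  hc := Or.inl rfl
  hA := sdT_E6_hA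
  bL_lt := by decide
  bS_lt := by decide
  conn := sdT_E6_conn
  base := Or.inr ⟨sdT_E6_short, rfl⟩
  edge := ⟨0, by decide, 2, by decide, by decide, sdT_E6_edge⟩
  pitype := Or.inl sdT_E6_short
  chain := sdT_E6_chain

/-- **S2156 for type `E6`.** -/
theorem sd_E6 : StType.{u} chevE6 :=
  stType_of_tab chevE6 sdz_E6 sdeta_E6 rTE6 w0E6 sdtau_E6 sdm_E6 2 0 0 [(0, 2), (2, 3), (3, 1), (3, 4), (4, 5)]
    sdPack_E6 (fun F _ _ p _ _ => exists_sylow_posUnipotent p chevE6 (by simp)) sdTab_E6 sdCoord_E6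

end Cfsg.Agent.H23.StbD
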