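import Cfsg.Agent.H23.SdGlue
import Cfsg.Agent.H23.SylowU
import Cfsg.Agent.H23.CanonTab

/-!
# S2156: the table facts of type `E7` (helper23; generated)
-/

set_option autoImplicit false
set_option maxRecDepth 100000

namespace Cfsg.Agent.H23.StbD

open Cfsg.Lie Cfsg.Agent.H23 Cfsg.Agent.H23.Stb

universe u

/-- The packed tables (4 bits per root, offset 8) of the coefficients of the fundamental roots. -/
def sdM_E7 : List ℕ :=
  [34697940443699103822139810786372551013495764379361883993796126147650721633591941562047974413441889594878105789873982489094025430952198632610180585977718,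
   34916166471218227653824055802071058406798804830415678035114050892773822327400327901386594350910148203982719918858109089771943177893075864105278524253798,
   38394144005115164017017874095012132912797209800775394732012037198205129830641227845291947318662786950838463174508422764826890815013827143154969640068693,
   41898547335599611173795864530149681258866830240364185336822204587111013577184088666232058656732359537933836511497953487796237795300636618712054226048068,
   38407729867000469441448433733475502432537441375737925766680782451200191516763074647125499830789680906455113054226909898693882178289332544571566836831573,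
   34916163167317054930468204386960117003146089297106084411010039749541905757363997154764115658665626895429987503200586118808094746956520439008830929921638,
   31424549640690699696106959396745843392659713238950671462144756158022280001775456586881310024586884513131781634249211423895866578080810912083894383114103]

/-- `2` times the inverse of the Cartan matrix. -/
def sdB_E7 : List (List ℤ) :=
  [[4, 4, 6, 8, 6, 4, 2],
   [4, 7, 8, 12, 9, 6, 3],
   [6, 8, 12, 16, 12, 8, 4],
   [8, 12, 16, 24, 18, 12, 6],
   [6, 9, 12, 18, 15, 10, 5],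
   [4, 6, 8, 12, 10, 8, 4],
   [2, 3, 4, 6, 5, 4, 3]]

/-- The exponent function of type `E7`. -/
abbrev sdz_E7 : ℕ → ℕ → ℤ := zR chevE7 ctblE7

/-- The signs of type `E7`. -/
abbrev sdeta_E7 : ℕ → ℕ → ℤ := fun i s => etaBit (etaE7.getD i 0) s

/-- The coefficient of the `i`-th fundamental root in the weight of the index `c`. -/
def sdm_E7 (i c : ℕ) : ℤ := zS (sdM_E7.getD i 0) chevE7.nroots c

/-- The symmetry `-w₀` of the diagram. -/
def sdtau_E7 : ℕ → ℕ := fun i => i

theorem sdPack_E7 (F : Type u) [Field F] : PackS chevE7 F sdz_E7 sdeta_E7 rTE7 w0E7 :=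
  ⟨⟨chk_E7.sem F, nconj_E7.semN chk_E7.tblOK F, comm_E7.semC chk_E7.tblOK F, tab_E7, tabC_E7,
    etaNeg_E7, tab2_E7⟩, trin_E7.semV chk_E7.tblOK F, tabT_E7, tabL_E7, tabW_E7⟩

theorem sdCoordEq_E7 : ∀ i < chevE7.rank, ∀ c < chevE7.nroots,
    (2 : ℤ) * zS (sdM_E7.getD i 0) chevE7.nroots c =
      ((List.range chevE7.rank).map
        (fun j => ((sdB_E7.getD i []).getD j 0) * zR chevE7 ctblE7 (chevE7.simple j) c)).sum := by
  decide +kernel

theorem sdCoord_E7_simple : ∀ i < chevE7.rank, ∀ j < chevE7.rank,
    sdm_E7 i (chevE7.simple j) = if i = j then 1 else 0 := by decide +kernel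

theorem sdCoord_E7_neg : ∀ i < chevE7.rank, ∀ j < chevE7.rank,
    sdm_E7 i (chevE7.neg (chevE7.simple j)) = if i = j then -1 else 0 := by decide +kernel

theorem sdCoord_E7_cartan : ∀ i < chevE7.rank, ∀ k < chevE7.rank, sdm_E7 i (chevE7.nroots + k) = 0 := by
  decide +kernel

theorem sdCoord_E7 : Coord chevE7 sdm_E7 where
  adm := fun i hi =>
    coord_adm_of_comb chevE7 ctblE7 (chk_E7.sem ℚ).zadm _ 2 (by norm_num) (sdB_E7.getD i [])
      (sdCoordEq_E7 i hi)
  simple := sdCoord_E7_simple
  neg := sdCoord_E7_neg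
  cartan := sdCoord_E7_cartan

theorem sdT_E7_tau : (∀ i < chevE7.rank, sdtau_E7 i < chevE7.rank) ∧ (∀ i < chevE7.rank, sdtau_E7 (sdtau_E7 i) = i) := by
  decide +kernel

theorem sdT_E7_w0 : ∀ i < chevE7.rank, reflW chevE7 w0E7 (chevE7.neg (chevE7.simple i)) = chevE7.simple (sdtau_E7 i) := by
  decide +kernel

set_option synthInstance.maxSize 4096 in
set_option synthInstance.maxHeartbeats 400000 in
theorem sdT_E7_ct1 : ∀ i < chevE7.rank, ∀ j < chevE7.rank, i ≠ j →
    chevE7.commTerms (chevE7.neg (chevE7.simple i)) (chevE7.simple j) = [] := by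
  decide +kernel

set_option synthInstance.maxSize 4096 in
set_option synthInstance.maxHeartbeats 400000 in
theorem sdT_E7_ct2 : ∀ i < chevE7.rank, ∀ j < chevE7.rank, i ≠ j → sdz_E7 (chevE7.simple j) (chevE7.simple i) = 0 →
    chevE7.commTerms (chevE7.simple i) (chevE7.simple j) = [] := by
  decide +kernel

theorem sdT_E7_refl1 : ∀ i < chevE7.rank, ∀ j < chevE7.rank, i ≠ j → sdz_E7 (chevE7.simple j) (chevE7.simple i) ≠ 0 →
    chevE7.reflectRoot i (chevE7.simple j) ≠ chevE7.simple j := by
  decide +kernel

theorem sdT_E7_refl2 : ∀ i < chevE7.rank, chevE7.reflectRoot i (chevE7.simple i) = chevE7.neg (chevE7.simple i) := by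
  decide +kernel

theorem sdT_E7_cartan : ∀ i < chevE7.rank, ∀ j < chevE7.rank,
    chevE7.cartan i (chevE7.simple j) = sdz_E7 (chevE7.simple i) (chevE7.simple j) := by
  decide +kernel

theorem sdT_E7_hA : ∀ i < chevE7.rank, ∀ j < chevE7.rank, i ≠ j → sdz_E7 (chevE7.simple j) (chevE7.simple i) ≠ 0 →
    sdz_E7 (chevE7.simple j) (chevE7.simple i) =
      if chevE7.isLong (chevE7.simple i) && !chevE7.isLong (chevE7.simple j) then -(((2 : ℕ)) : ℤ) else -1 := by
  decide +kernel

theorem sdT_E7_conn : connOK chevE7 sdz_E7 [0, 0] [(0, 2), (2, 3), (3, 1), (3, 4), (4, 5), (5, 6)] = true := by decide +kernel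

theorem sdT_E7_short : ∀ i < chevE7.rank, chevE7.isLong (chevE7.simple i) = false := by decide +kernel

theorem sdT_E7_edge : sdz_E7 (chevE7.simple 2) (chevE7.simple 0) = -1 := by decide +kernel

theorem sdT_E7_chain : ∀ r < chevE7.nroots, chainRowOK chevE7 r = true := by decide +kernel

theorem sdTab_E7 : SdTab chevE7 sdz_E7 w0E7 sdtau_E7 2 0 0 [(0, 2), (2, 3), (3, 1), (3, 4), (4, 5), (5, 6)] where
  tau_lt := sdT_E7_tau.1
  tau_tau := sdT_E7_tau.2
  w0 := sdT_E7_w0
  ct1 := sdT_E7_ct1
  ct2 := sdT_E7_ct2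
  refl1 := sdT_E7_refl1
  refl2 := sdT_E7_refl2
  cartan := sdT_E7_cartan
  hc := Or.inl rfl
  hA := sdT_E7_hA
  bL_lt := by decide
  bS_lt := by decide
  conn := sdT_E7_conn
  base := Or.inr ⟨sdT_E7_short, rfl⟩
  edge := ⟨0, by decide, 2, by decide, by decide, sdT_E7_edge⟩
  pitype := Or.inl sdT_E7_short
  chain := sdT_E7_chain

/-- **S2156 for type `E7`.** -/
theorem sd_E7 : StType.{u} chevE7 :=
  stType_of_tab chevE7 sdz_E7 sdeta_E7 rTE7 w0E7 sdtau_E7 sdm_E7 2 0 0 [(0, 2), (2, 3), (3, 1), (3, 4), (4, 5), (5, 6)]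
    sdPack_E7 (fun F _ _ p _ _ => exists_sylow_posUnipotent p chevE7 (by simp)) sdTab_E7 sdCoord_E7

end Cfsg.Agent.H23.StbD
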