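import Cfsg.Agent.H23.SdGlue
import Cfsg.Agent.H23.SylowU
import Cfsg.Agent.H23.CanonTab

/-!
# S2156: the table facts of type `E8` (helper23; generated)
-/

set_option autoImplicit false
set_option maxRecDepth 100000

namespace Cfsg.Agent.H23.StbD

open Cfsg.Lie Cfsg.Agent.H23 Cfsg.Agent.H23.Stb

universe u

/-- The packed tables (4 bits per root, offset 8) of the coefficients of the fundamental roots. -/
def sdM_E8 : List ℕ :=
  [6496876007599999377886028260534772002837552242488121599990276607125491816193754634255175440286491372133608024873191629391125820386602222144936217759214050891639505604683118479947692784763865857198736751934473910392117366186899172861356593158132352618056642668632644257229632946050789959270,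
   7146563605939724417902967878839560522364149115512298647985409302424875252890154923309274833165661469157511533752953370468369903300246033931339994757066236513083639871716768390560535407822712498574303910411232700287218969580477585560927284517115856633048500320294756477450098753051102106965,
   7796251172664608339890441255299627372545706628303578228857510416958425179503347687406400780858226561254411196704619965915547454404167360752786639946511868882981699544164069492774871432082807513489362349701636291718631925209210801747166443850976280207459614796911898700078723581679512077380,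
   9095625791040166419343373858912549172488484652109893477212836350952414028362736947504384368447645473843399308192282616533343894801014972581714018094482174639835969311410263184249095747863565850721961548121492049683385247468326347014480171086885854432933567561425607308927428521798071886370,
   8445928896433351806002506099323488572831429581206912138341556529126452358129358500745338802550616217155162178741720625653160265037436569452750805044154844862226408766222167198070033405957035529084487812567751533293155378897801724382379550417099774449583734411689212649913785932579743216435,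
   7796092593983058045974344564350349394254019661257195896267524117826610923589208595819746236386904644102801682285369511796480960766198095533996365618926765493044773330690776715148532763153644916483355427098147747873553618215529632794260942953937242422358821364048658801173097108967127340100,
   7144025766169528276694163657065902522573258785916766787626384311935932609351395023655829438944375063551990562975400635076230121864612320770078191874406868756170527150575194914896512528763571450683799610876233763575751312143236549559978285204288930294968131400103886162608610877611214005845,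
   6456270532552499255490715357415602859380204796264517105978993479234484919711583348832424782709755537563102318229979709981424348821865123351564681329792323385992634277424196071040429132139685262083236533078151359270785973293346686822983637983685419077274087817165053097542429234021921159030]

/-- `1` times the inverse of the Cartan matrix. -/
def sdB_E8 : List (List ℤ) :=
  [[4, 5, 7, 10, 8, 6, 4, 2],
   [5, 8, 10, 15, 12, 9, 6, 3],
   [7, 10, 14, 20, 16, 12, 8, 4],
   [10, 15, 20, 30, 24, 18, 12, 6],
   [8, 12, 16, 24, 20, 15, 10, 5],
   [6, 9, 12, 18, 15, 12, 8, 4],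
   [4, 6, 8, 12, 10, 8, 6, 3],
   [2, 3, 4, 6, 5, 4, 3, 2]]

/-- The exponent function of type `E8`. -/
abbrev sdz_E8 : ℕ → ℕ → ℤ := zR chevE8 ctblE8

/-- The signs of type `E8`. -/
abbrev sdeta_E8 : ℕ → ℕ → ℤ := fun i s => etaBit (etaE8.getD i 0) s

/-- The coefficient of the `i`-th fundamental root in the weight of the index `c`. -/
def sdm_E8 (i c : ℕ) : ℤ := zS (sdM_E8.getD i 0) chevE8.nroots c

/-- The symmetry `-w₀` of the diagram. -/
def sdtau_E8 : ℕ → ℕ := fun i => i

theorem sdPack_E8 (F : Type u) [Field F] : PackS chevE8 F sdz_E8 sdeta_E8 rTE8 w0E8 :=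
  ⟨⟨chk_E8.sem F, nconj_E8.semN chk_E8.tblOK F, comm_E8.semC chk_E8.tblOK F, tab_E8, tabC_E8,
    etaNeg_E8, tab2_E8⟩, trin_E8.semV chk_E8.tblOK F, tabT_E8, tabL_E8, tabW_E8⟩

theorem sdCoordEq_E8 : ∀ i < chevE8.rank, ∀ c < chevE8.nroots,
    (1 : ℤ) * zS (sdM_E8.getD i 0) chevE8.nroots c =
      ((List.range chevE8.rank).map
        (fun j => ((sdB_E8.getD i []).getD j 0) * zR chevE8 ctblE8 (chevE8.simple j) c)).sum := by
  decide +kernel

theorem sdCoord_E8_simple : ∀ i < chevE8.rank, ∀ j < chevE8.rank,
    sdm_E8 i (chevE8.simple j) = if i = j then 1 else 0 := by decide +kernel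

theorem sdCoord_E8_neg : ∀ i < chevE8.rank, ∀ j < chevE8.rank,
    sdm_E8 i (chevE8.neg (chevE8.simple j)) = if i = j then -1 else 0 := by decide +kernel

theorem sdCoord_E8_cartan : ∀ i < chevE8.rank, ∀ k < chevE8.rank, sdm_E8 i (chevE8.nroots + k) = 0 := by
  decide +kernel

theorem sdCoord_E8 : Coord chevE8 sdm_E8 where
  adm := fun i hi =>
    coord_adm_of_comb chevE8 ctblE8 (chk_E8.sem ℚ).zadm _ 1 (by norm_num) (sdB_E8.getD i [])
      (sdCoordEq_E8 i hi)
  simple := sdCoord_E8_simple
  neg := sdCoord_E8_neg
  cartan := sdCoord_E8_cartan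

theorem sdT_E8_tau : (∀ i < chevE8.rank, sdtau_E8 i < chevE8.rank) ∧ (∀ i < chevE8.rank, sdtau_E8 (sdtau_E8 i) = i) := by
  decide +kernel

theorem sdT_E8_w0 : ∀ i < chevE8.rank, reflW chevE8 w0E8 (chevE8.neg (chevE8.simple i)) = chevE8.simple (sdtau_E8 i) := by
  decide +kernel

set_option synthInstance.maxSize 4096 in
set_option synthInstance.maxHeartbeats 400000 in
theorem sdT_E8_ct1 : ∀ i < chevE8.rank, ∀ j < chevE8.rank, i ≠ j →
    chevE8.commTerms (chevE8.neg (chevE8.simple i)) (chevE8.simple j) = [] := by
  decide +kernel

set_option synthInstance.maxSize 4096 in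
set_option synthInstance.maxHeartbeats 400000 in
theorem sdT_E8_ct2 : ∀ i < chevE8.rank, ∀ j < chevE8.rank, i ≠ j → sdz_E8 (chevE8.simple j) (chevE8.simple i) = 0 →
    chevE8.commTerms (chevE8.simple i) (chevE8.simple j) = [] := by
  decide +kernel

theorem sdT_E8_refl1 : ∀ i < chevE8.rank, ∀ j < chevE8.rank, i ≠ j → sdz_E8 (chevE8.simple j) (chevE8.simple i) ≠ 0 →
    chevE8.reflectRoot i (chevE8.simple j) ≠ chevE8.simple j := by
  decide +kernel

theorem sdT_E8_refl2 : ∀ i < chevE8.rank, chevE8.reflectRoot i (chevE8.simple i) = chevE8.neg (chevE8.simple i) := by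
  decide +kernel

theorem sdT_E8_cartan : ∀ i < chevE8.rank, ∀ j < chevE8.rank,
    chevE8.cartan i (chevE8.simple j) = sdz_E8 (chevE8.simple i) (chevE8.simple j) := by
  decide +kernel

theorem sdT_E8_hA : ∀ i < chevE8.rank, ∀ j < chevE8.rank, i ≠ j → sdz_E8 (chevE8.simple j) (chevE8.simple i) ≠ 0 →
    sdz_E8 (chevE8.simple j) (chevE8.simple i) =
      if chevE8.isLong (chevE8.simple i) && !chevE8.isLong (chevE8.simple j) then -(((2 : ℕ)) : ℤ) else -1 := by
  decide +kernel

theorem sdT_E8_conn : connOK chevE8 sdz_E8 [0, 0] [(0, 2), (2, 3), (3, 1), (3, 4), (4, 5), (5, 6), (6, 7)] = true := by decide +kernel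

theorem sdT_E8_short : ∀ i < chevE8.rank, chevE8.isLong (chevE8.simple i) = false := by decide +kernel

theorem sdT_E8_edge : sdz_E8 (chevE8.simple 2) (chevE8.simple 0) = -1 := by decide +kernel

theorem sdT_E8_chain : ∀ r < chevE8.nroots, chainRowOK chevE8 r = true := by decide +kernel

theorem sdTab_E8 : SdTab chevE8 sdz_E8 w0E8 sdtau_E8 2 0 0 [(0, 2), (2, 3), (3, 1), (3, 4), (4, 5), (5, 6), (6, 7)] where
  tau_lt := sdT_E8_tau.1
  tau_tau := sdT_E8_tau.2
  w0 := sdT_E8_w0
  ct1 := sdT_E8_ct1
  ct2 := sdT_E8_ct2
  refl1 := sdT_E8_refl1
  refl2 := sdT_E8_refl2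
  cartan := sdT_E8_cartan
  hc := Or.inl rfl
  hA := sdT_E8_hA
  bL_lt := by decide
  bS_lt := by decide
  conn := sdT_E8_conn
  base := Or.inr ⟨sdT_E8_short, rfl⟩
  edge := ⟨0, by decide, 2, by decide, by decide, sdT_E8_edge⟩
  pitype := Or.inl sdT_E8_short
  chain := sdT_E8_chain

/-- **S2156 for type `E8`.** -/
theorem sd_E8 : StType.{u} chevE8 :=
  stType_of_tab chevE8 sdz_E8 sdeta_E8 rTE8 w0E8 sdtau_E8 sdm_E8 2 0 0 [(0, 2), (2, 3), (3, 1), (3, 4), (4, 5), (5, 6), (6, 7)]
    sdPack_E8 (fun F _ _ p _ _ => exists_sylow_posUnipotent p chevE8 (by simp)) sdTab_E8 sdCoord_E8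

end Cfsg.Agent.H23.StbD
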