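import Cfsg.Agent.H23.SdGlue
import Cfsg.Agent.H23.SylowU
import Cfsg.Agent.H23.CanonTab

/-!
# S2156: the table facts of type `F4` (helper23; generated)
-/

set_option autoImplicit false
set_option maxRecDepth 100000

namespace Cfsg.Agent.H23.StbD

open Cfsg.Lie Cfsg.Agent.H23 Cfsg.Agent.H23.Stb

universe u

/-- The packed tables (4 bits per root, offset 8) of the coefficients of the fundamental roots. -/
def sdM_F4 : List ℕ :=
  [4184734488698852095707928644672179428143191965982150518374,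
   5021572838003344455395550325003738931422917609350408590404,
   4601572879838773908986335733117488984278374607523121882709,
   4158579876309291510468873854897548003125973532386132457334]

/-- `1` times the inverse of the Cartan matrix. -/
def sdB_F4 : List (List ℤ) :=
  [[2, 3, 4, 2],
   [3, 6, 8, 4],
   [2, 4, 6, 3],
   [1, 2, 3, 2]]

/-- The exponent function of type `F4`. -/
abbrev sdz_F4 : ℕ → ℕ → ℤ := zR chevF4 ctblF4

/-- The signs of type `F4`. -/
abbrev sdeta_F4 : ℕ → ℕ → ℤ := fun i s => etaBit (etaF4.getD i 0) s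

/-- The coefficient of the `i`-th fundamental root in the weight of the index `c`. -/
def sdm_F4 (i c : ℕ) : ℤ := zS (sdM_F4.getD i 0) chevF4.nroots c

/-- The symmetry `-w₀` of the diagram. -/
def sdtau_F4 : ℕ → ℕ := fun i => i

theorem sdPack_F4 (F : Type u) [Field F] : PackS chevF4 F sdz_F4 sdeta_F4 rTF4 w0F4 :=
  ⟨⟨chk_F4.sem F, nconj_F4.semN chk_F4.tblOK F, comm_F4.semC chk_F4.tblOK F, tab_F4, tabC_F4,
    etaNeg_F4, tab2_F4⟩, trin_F4.semV chk_F4.tblOK F, tabT_F4, tabL_F4, tabW_F4⟩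

theorem sdCoordEq_F4 : ∀ i < chevF4.rank, ∀ c < chevF4.nroots,
    (1 : ℤ) * zS (sdM_F4.getD i 0) chevF4.nroots c =
      ((List.range chevF4.rank).map
        (fun j => ((sdB_F4.getD i []).getD j 0) * zR chevF4 ctblF4 (chevF4.simple j) c)).sum := by
  decide +kernel

theorem sdCoord_F4_simple : ∀ i < chevF4.rank, ∀ j < chevF4.rank,
    sdm_F4 i (chevF4.simple j) = if i = j then 1 else 0 := by decide +kernel

theorem sdCoord_F4_neg : ∀ i < chevF4.rank, ∀ j < chevF4.rank,
    sdm_F4 i (chevF4.neg (chevF4.simple j)) = if i = j then -1 else 0 := by decide +kernel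

theorem sdCoord_F4_cartan : ∀ i < chevF4.rank, ∀ k < chevF4.rank, sdm_F4 i (chevF4.nroots + k) = 0 := by
  decide +kernel

theorem sdCoord_F4 : Coord chevF4 sdm_F4 where
  adm := fun i hi =>
    coord_adm_of_comb chevF4 ctblF4 (chk_F4.sem ℚ).zadm _ 1 (by norm_num) (sdB_F4.getD i [])
      (sdCoordEq_F4 i hi)
  simple := sdCoord_F4_simple
  neg := sdCoord_F4_neg
  cartan := sdCoord_F4_cartan

theorem sdT_F4_tau : (∀ i < chevF4.rank, sdtau_F4 i < chevF4.rank) ∧ (∀ i < chevF4.rank, sdtau_F4 (sdtau_F4 i) = i) := by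
  decide +kernel

theorem sdT_F4_w0 : ∀ i < chevF4.rank, reflW chevF4 w0F4 (chevF4.neg (chevF4.simple i)) = chevF4.simple (sdtau_F4 i) := by
  decide +kernel

set_option synthInstance.maxSize 4096 in
set_option synthInstance.maxHeartbeats 400000 in
theorem sdT_F4_ct1 : ∀ i < chevF4.rank, ∀ j < chevF4.rank, i ≠ j →
    chevF4.commTerms (chevF4.neg (chevF4.simple i)) (chevF4.simple j) = [] := by
  decide +kernel

set_option synthInstance.maxSize 4096 in
set_option synthInstance.maxHeartbeats 400000 in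
theorem sdT_F4_ct2 : ∀ i < chevF4.rank, ∀ j < chevF4.rank, i ≠ j → sdz_F4 (chevF4.simple j) (chevF4.simple i) = 0 →
    chevF4.commTerms (chevF4.simple i) (chevF4.simple j) = [] := by
  decide +kernel

theorem sdT_F4_refl1 : ∀ i < chevF4.rank, ∀ j < chevF4.rank, i ≠ j → sdz_F4 (chevF4.simple j) (chevF4.simple i) ≠ 0 →
    chevF4.reflectRoot i (chevF4.simple j) ≠ chevF4.simple j := by
  decide +kernel

theorem sdT_F4_refl2 : ∀ i < chevF4.rank, chevF4.reflectRoot i (chevF4.simple i) = chevF4.neg (chevF4.simple i) := by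
  decide +kernel

theorem sdT_F4_cartan : ∀ i < chevF4.rank, ∀ j < chevF4.rank,
    chevF4.cartan i (chevF4.simple j) = sdz_F4 (chevF4.simple i) (chevF4.simple j) := by
  decide +kernel

theorem sdT_F4_hA : ∀ i < chevF4.rank, ∀ j < chevF4.rank, i ≠ j → sdz_F4 (chevF4.simple j) (chevF4.simple i) ≠ 0 →
    sdz_F4 (chevF4.simple j) (chevF4.simple i) =
      if chevF4.isLong (chevF4.simple i) && !chevF4.isLong (chevF4.simple j) then -(((2 : ℕ)) : ℤ) else -1 := by
  decide +kernel

theorem sdT_F4_conn : connOK chevF4 sdz_F4 [1, 2] [(1, 0), (2, 3)] = true := by decide +kernel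

theorem sdT_F4_type : typeOK chevF4 sdz_F4 := by unfold typeOK; decide +kernel

theorem sdT_F4_base : chevF4.isLong (chevF4.simple 2) = true ∧ chevF4.isLong (chevF4.simple 1) = false ∧
    sdz_F4 (chevF4.simple 1) (chevF4.simple 2) ≠ 0 ∧ sdz_F4 (chevF4.simple 2) (chevF4.simple 1) ≠ 0 := by
  decide +kernel

theorem sdT_F4_edge : sdz_F4 (chevF4.simple 1) (chevF4.simple 0) = -1 := by decide +kernel

theorem sdT_F4_chain : ∀ r < chevF4.nroots, chainRowOK chevF4 r = true := by decide +kernel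

theorem sdTab_F4 : SdTab chevF4 sdz_F4 w0F4 sdtau_F4 2 2 1 [(1, 0), (2, 3)] where
  tau_lt := sdT_F4_tau.1
  tau_tau := sdT_F4_tau.2
  w0 := sdT_F4_w0
  ct1 := sdT_F4_ct1
  ct2 := sdT_F4_ct2
  refl1 := sdT_F4_refl1
  refl2 := sdT_F4_refl2
  cartan := sdT_F4_cartan
  hc := Or.inl rfl
  hA := sdT_F4_hA
  bL_lt := by decide
  bS_lt := by decide
  conn := sdT_F4_conn
  base := Or.inl sdT_F4_base
  edge := ⟨0, by decide, 1, by decide, by decide, sdT_F4_edge⟩
  pitype := Or.inr sdT_F4_type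
  chain := sdT_F4_chain

/-- **S2156 for type `F4`.** -/
theorem sd_F4 : StType.{u} chevF4 :=
  stType_of_tab chevF4 sdz_F4 sdeta_F4 rTF4 w0F4 sdtau_F4 sdm_F4 2 2 1 [(1, 0), (2, 3)]
    sdPack_F4 (fun F _ _ p _ _ => exists_sylow_posUnipotent p chevF4 (by simp)) sdTab_F4 sdCoord_F4

end Cfsg.Agent.H23.StbD
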