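import Cfsg.Agent.H23.TwD4

set_option autoImplicit false
set_option maxRecDepth 100000

/-!
# The twisted group `³D₄(q)`: the twisting data
-/

namespace Cfsg.Agent.H23

open Cfsg.Lie

/-- The parameter sets of the blocks. -/
def twS3 {F : Type*} (fixed : Set F) (L : List ℕ) : Set F := if L.length = 1 then fixed else Set.univ

/-- The fixed elements of the blocks of size 1 and 3. -/
def twGen3 {D : ChevalleyDatum} {F : Type*} [Field F] {z : ℕ → ℕ → ℤ} (hS : Sem D F z) (φ : F → F)
    (L : List ℕ) (s : F) : GL D.Idx F :=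
  match L with
  | [a] => xU hS (D.simple a) s
  | [a, b, c] => xU hS (D.simple c) (φ (φ s)) * xU hS (D.simple b) (φ s) * xU hS (D.simple a) s
  | _ => 1

theorem comm3 {G : Type*} [Group G] (X A B : G) (c1 : X * A = A * X) (c2 : X * B = B * X) :
    X * (A * B) = A * (B * X) := by
  calc X * (A * B) = (X * A) * B := by rw [mul_assoc]
    _ = (A * X) * B := by rw [c1]
    _ = A * (X * B) := by rw [mul_assoc]
    _ = A * (B * X) := by rw [c2]

theorem comm_mul3 {G : Type*} [Group G] (X A B : G) (c1 : X * A = A * X) (c2 : X * B = B * X) :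
    X * (A * B) = (A * B) * X := by
  rw [comm3 X A B c1 c2, mul_assoc]

theorem tw_D4 {F : Type*} [Field F] [Fintype F] {q : ℕ} (hq : IsPrimePow q) (hF : Fintype.card F = q ^ 3) :
    ∃ (T : TwSys (packB_D4 F).sem) (B : TwBlocks T), TwGroup (packB_D4 F) T B (twistedD4 F q) ∧
      B.blocks = blkD4 ∧ (∀ L ∈ B.blocks, Nat.card (B.S L) = q ^ L.length) ∧ (∀ t, T.φ t = t ^ q) ∧
      (∀ i, T.sig i = sigD4a.getD i 0) ∧
      B.S = twS3 {s | T.φ s = s} ∧ B.gen = twGen3 (packB_D4 F).sem T.φ := by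
  have hV : SemV chevD4 F := trin_D4.semV chk_D4.tblOK F
  have hT : Tab chevD4 := tab_D4
  obtain ⟨φ, hφ, hsurj⟩ := exists_frob F q 3 hq hF
  obtain ⟨T, hTφ, hTsig⟩ := exists_twSys (packB_D4 F).sem chk_D4.tblOK graphOK_D4a φ hsurj twD4_pos twD4_neg
    twD4_negE twD4_sig
  have hφT : ∀ t, T.φ t = t ^ q := fun t => by rw [hTφ]; exact hφ t
  have hφ3 : ∀ s, T.φ (T.φ (T.φ s)) = s := fun s => by rw [hTφ]; exact frob_iter F q 3 hF φ hφ s
  have hsg : ∀ i, T.sig i = sigD4a.getD i 0 := fun i => by rw [hTsig]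
  have hqqq : ∀ t : F, ((t ^ q) ^ q) ^ q = t := fun t => by rw [← hφT, ← hφT, ← hφT]; exact hφ3 t
  have hq2 : ∀ t : F, t ^ (q ^ 2) = (t ^ q) ^ q := fun t => by rw [sq, pow_mul]
  have hq1 : 1 < q := hq.one_lt
  have hσs : ∀ i < chevD4.rank, ∀ t : F, T.σ (xU (packB_D4 F).sem ([18, 14, 13, 12].getD i 0) t) =
      xU (packB_D4 F).sem ([13, 14, 12, 18].getD i 0) (t ^ q) := by
    intro i hi t
    have h := T.x_simple hT i hi t
    rwa [hsg, (twD4_tab i hi).1, (twD4_tab i hi).2.1, hφT] at h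
  have hσn : ∀ i < chevD4.rank, ∀ t : F, T.σ (xU (packB_D4 F).sem ([5, 9, 10, 11].getD i 0) t) =
      xU (packB_D4 F).sem ([10, 9, 11, 5].getD i 0) (t ^ q) := by
    intro i hi t
    have h := T.x_nsimple hT i hi t
    rwa [hsg, (twD4_tab i hi).2.2.1, (twD4_tab i hi).2.2.2, hφT] at h
  have hc : (-(1 : F)⁻¹) ^ q = -(1 : F)⁻¹ := by
    rw [← hφT]; simp
  have hBok : ∀ L ∈ blkD4, BlockOK (packB_D4 F).sem L := fun L hL =>
    blockOK_of (packB_D4 F) L (twD4_blk L hL).1 (twD4_blk L hL).2.1 (twD4_blk L hL).2.2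
  have hs0 : chevD4.simple 0 = 18 := (twD4_tab 0 (by decide)).1
  have hs1 : chevD4.simple 1 = 14 := (twD4_tab 1 (by decide)).1
  have hs2 : chevD4.simple 2 = 13 := (twD4_tab 2 (by decide)).1
  have hs3 : chevD4.simple 3 = 12 := (twD4_tab 3 (by decide)).1
  have hn0 : chevD4.neg 18 = 5 := by rw [← hs0]; exact (twD4_tab 0 (by decide)).2.2.1
  have hn1 : chevD4.neg 14 = 9 := by rw [← hs1]; exact (twD4_tab 1 (by decide)).2.2.1
  have hn2 : chevD4.neg 13 = 10 := by rw [← hs2]; exact (twD4_tab 2 (by decide)).2.2.1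
  have hn3 : chevD4.neg 12 = 11 := by rw [← hs3]; exact (twD4_tab 3 (by decide)).2.2.1
  have hblk : ∀ L ∈ blkD4, TwBlock T L (twS3 {s | T.φ s = s} L) (twGen3 (packB_D4 F).sem T.φ L) := by
    intro L hL
    simp only [blkD4, List.mem_cons, List.not_mem_nil, or_false] at hL
    rcases hL with rfl | rfl
    · exact twBlock1 (packB_D4 F) T 1 (by decide) (by rw [hsg]; rfl)
    · refine twBlock3 (packB_D4 F) hV T 0 2 3 (hBok _ (by decide)) (by rw [hsg]; rfl) (by rw [hsg]; rfl)
        (by rw [hsg]; rfl) ?_ ?_ hφ3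
      · intro s t
        rw [hs0, hs2]
        exact twD4_comm (18, 13) (by decide) s t
      · intro s t
        rw [hs0, hs3]
        exact twD4_comm (18, 12) (by decide) s t
  let B : TwBlocks T := ⟨blkD4, twS3 {s | T.φ s = s}, twGen3 (packB_D4 F).sem T.φ, hblk, twD4_cover⟩
  refine ⟨T, B, ⟨?_, ?_, ?_, ?_⟩, rfl, ?_, hφT, hsg, rfl, rfl⟩
  · -- fixed
    have hle : twistedD4 F q ≤ MonoidHom.eqLocus T.σ (MonoidHom.id _) := by
      unfold twistedD4 ChevalleyDatum.genSubgroup
      rw [Subgroup.closure_le]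
      rintro g ⟨w, hw, hgw⟩
      rw [eq_wordU (packB_D4 F).sem g w hgw]
      show T.σ (wordU _ w) = wordU _ w
      rcases hw with ⟨t, ht, r, hr, rfl⟩ | ⟨t, rs, hrs, rfl⟩
      · simp only [wordU_cons, wordU_nil, mul_one]
        have hr' : r = 14 ∨ r = 9 := by
          simpa [d4p2, d4m2] using hr
        rcases hr' with rfl | rfl
        · have h := hσs 1 (by decide) t
          rw [ht] at h; exact h
        · have h := hσn 1 (by decide) t
          rw [ht] at h; exact h
      · simp only [wordU_cons, wordU_nil, mul_one, map_mul]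
        have hrs' : rs = (18, 13, 12) ∨ rs = (5, 10, 11) := by
          simpa [d4p1, d4p3, d4p4, d4m1, d4m3, d4m4] using hrs
        rcases hrs' with rfl | rfl
        · have h1 : T.σ (xU (packB_D4 F).sem 18 t) = xU (packB_D4 F).sem 13 (t ^ q) := hσs 0 (by decide) t
          have h2 : T.σ (xU (packB_D4 F).sem 13 (t ^ q)) = xU (packB_D4 F).sem 12 ((t ^ q) ^ q) :=
            hσs 2 (by decide) (t ^ q)
          have h3 : T.σ (xU (packB_D4 F).sem 12 ((t ^ q) ^ q)) = xU (packB_D4 F).sem 18 (((t ^ q) ^ q) ^ q) :=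
            hσs 3 (by decide) ((t ^ q) ^ q)
          rw [hqqq] at h3
          show T.σ (xU (packB_D4 F).sem 18 t) * (T.σ (xU (packB_D4 F).sem 13 (t ^ q)) *
            T.σ (xU (packB_D4 F).sem 12 (t ^ (q ^ 2)))) =
            xU (packB_D4 F).sem 18 t * (xU (packB_D4 F).sem 13 (t ^ q) * xU (packB_D4 F).sem 12 (t ^ (q ^ 2)))
          rw [hq2, h1, h2, h3]
          exact (comm3 _ _ _ (twD4_comm (18, 13) (by decide) t _) (twD4_comm (18, 12) (by decide) t _)).symm
        · have h1 : T.σ (xU (packB_D4 F).sem 5 t) = xU (packB_D4 F).sem 10 (t ^ q) := hσn 0 (by decide) t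
          have h2 : T.σ (xU (packB_D4 F).sem 10 (t ^ q)) = xU (packB_D4 F).sem 11 ((t ^ q) ^ q) :=
            hσn 2 (by decide) (t ^ q)
          have h3 : T.σ (xU (packB_D4 F).sem 11 ((t ^ q) ^ q)) = xU (packB_D4 F).sem 5 (((t ^ q) ^ q) ^ q) :=
            hσn 3 (by decide) ((t ^ q) ^ q)
          rw [hqqq] at h3
          show T.σ (xU (packB_D4 F).sem 5 t) * (T.σ (xU (packB_D4 F).sem 10 (t ^ q)) *
            T.σ (xU (packB_D4 F).sem 11 (t ^ (q ^ 2)))) =
            xU (packB_D4 F).sem 5 t * (xU (packB_D4 F).sem 10 (t ^ q) * xU (packB_D4 F).sem 11 (t ^ (q ^ 2)))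
          rw [hq2, h1, h2, h3]
          exact (comm3 _ _ _ (twD4_comm (5, 10) (by decide) t _) (twD4_comm (5, 11) (by decide) t _)).symm
    intro g hg
    exact hle hg
  · unfold twistedD4 ChevalleyDatum.genSubgroup
    rw [Subgroup.closure_le]
    rintro g ⟨w, -, hgw⟩
    rw [eq_wordU (packB_D4 F).sem g w hgw]
    exact wordU_mem_group _ w
  · -- the elements n_L
    intro L hL
    have hL' : L ∈ blkD4 := hL
    simp only [blkD4, List.mem_cons, List.not_mem_nil, or_false] at hL'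
    have h14 := twD4_mem1 q (1 : F) (one_pow q) 14 (by decide)
    have h9 := twD4_mem1 q (-(1 : F)⁻¹) hc 9 (by decide)
    have hA := twD4_mem3 q (1 : F) (18, 13, 12) (by decide)
    have hA' := twD4_mem3 q (-(1 : F)⁻¹) (5, 10, 11) (by decide)
    rw [one_pow, one_pow, mul_assoc] at hA
    rw [hq2, hc, hc, mul_assoc] at hA'
    rcases hL' with rfl | rfl
    · simp only [nWU, List.map_cons, List.map_nil, List.prod_cons, List.prod_nil, mul_one]
      rw [hs1, nU_eq, hn1]
      exact Subgroup.mul_mem _ (Subgroup.mul_mem _ h14 h9) h14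
    · simp only [nWU, List.map_cons, List.map_nil, List.prod_cons, List.prod_nil, mul_one]
      rw [hs0, hs2, hs3, nU_eq, nU_eq, nU_eq, hn0, hn2, hn3,
        sandwich (xU (packB_D4 F).sem 13 1) _ (xU (packB_D4 F).sem 12 1) _
          (twD4_comm (13, 12) (by decide) _ _) (twD4_comm (10, 12) (by decide) _ _)
          (twD4_comm (13, 11) (by decide) _ _),
        sandwich (xU (packB_D4 F).sem 18 1) _ _ _
          (comm_mul3 _ _ _ (twD4_comm (18, 13) (by decide) _ _) (twD4_comm (18, 12) (by decide) _ _))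
          (comm_mul3 _ _ _ (twD4_comm (5, 13) (by decide) _ _) (twD4_comm (5, 12) (by decide) _ _))
          (comm_mul3 _ _ _ (twD4_comm (18, 10) (by decide) _ _) (twD4_comm (18, 11) (by decide) _ _))]
      exact Subgroup.mul_mem _ (Subgroup.mul_mem _ hA hA') hA
  · -- the fixed elements of the blocks
    intro L hL s hs
    have hL' : L ∈ blkD4 := hL
    simp only [blkD4, List.mem_cons, List.not_mem_nil, or_false] at hL'
    rcases hL' with rfl | rfl
    · have hs' : T.φ s = s := hs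
      rw [hφT] at hs'
      show xU (packB_D4 F).sem (chevD4.simple 1) s ∈ _
      rw [hs1]
      exact twD4_mem1 q s hs' 14 (by decide)
    · show xU (packB_D4 F).sem (chevD4.simple 3) (T.φ (T.φ s)) * xU (packB_D4 F).sem (chevD4.simple 2) (T.φ s) *
        xU (packB_D4 F).sem (chevD4.simple 0) s ∈ _
      rw [hs0, hs2, hs3, hφT, hφT]
      have h := twD4_mem3 q s (18, 13, 12) (by decide)
      rw [hq2] at h
      have e : xU (packB_D4 F).sem 12 ((s ^ q) ^ q) * xU (packB_D4 F).sem 13 (s ^ q) * xU (packB_D4 F).sem 18 s =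
          xU (packB_D4 F).sem 18 s * xU (packB_D4 F).sem 13 (s ^ q) * xU (packB_D4 F).sem 12 ((s ^ q) ^ q) := by
        rw [← twD4_comm (13, 12) (by decide), mul_assoc (xU (packB_D4 F).sem 18 s),
          comm3 _ _ _ (twD4_comm (18, 13) (by decide) s _) (twD4_comm (18, 12) (by decide) s _), mul_assoc]
      rw [e]
      exact h
  · -- the cardinalities
    intro L hL
    have hL' : L ∈ blkD4 := hL
    simp only [blkD4, List.mem_cons, List.not_mem_nil, or_false] at hL'
    have h1 : Nat.card {s : F | T.φ s = s} = q := by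
      rw [hTφ]; exact frob_card_fixed F q 3 Nat.prime_three hq1 hF φ hφ
    have h2 : Nat.card (Set.univ : Set F) = q ^ 3 := by
      rw [Nat.card_congr (Equiv.Set.univ F), Nat.card_eq_fintype_card, hF]
    rcases hL' with rfl | rfl
    · show Nat.card {s : F | T.φ s = s} = q ^ 1
      rw [h1, pow_one]
    · exact h2

end Cfsg.Agent.H23
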